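import Mathlib

/-!
# Combinatorial data of conjugacy classes of orthogonal groups in odd characteristic

`ODat F` : for an isometry `g` of a nondegenerate quadratic space over the finite field `F` of odd characteristic:
* `f j` : (product of the irreducible polynomials `≠ X ∓ 1` occurring with exponent exactly `j`), a palindromic
  polynomial without root `±1`;
* `a e j` : number of Jordan blocks of size `j` for the eigenvalue `1` (`e = true`) or `-1` (`e = false`);
* `s e j` : sign (square class of the discriminant of the Gram block) for `j` odd.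
`Ok N D` : `D` is a normal form of total dimension `N`.
`Free D` : no sign occurs.
-/

set_option autoImplicit false

namespace Cfsg.Agent.H169

open Polynomial

/-- the data -/
structure ODat (F : Type*) [Field F] where
  /-- the part without eigenvalues `±1` -/
  f : ℕ → F[X]
  /-- number of Jordan blocks of size `j` for the eigenvalue `1` (`true`), `-1` (`false`) -/
  a : Bool → ℕ → ℕ
  /-- signs -/
  s : Bool → ℕ → Bool

/-- normal forms of dimension `N` -/
structure ODat.Ok {F : Type*} [Field F] (N : ℕ) (D : ODat F) : Prop where
  monic : ∀ j, (D.f j).Monic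
  pal : ∀ j, (D.f j).reverse = D.f j
  one : ∀ j, (D.f j).eval 1 ≠ 0
  neg_one : ∀ j, (D.f j).eval (-1) ≠ 0
  even : ∀ j, Even (D.f j).natDegree
  zero : D.f 0 = 1 ∧ ∀ e, D.a e 0 = 0
  big : ∀ j, N < j → D.f j = 1 ∧ ∀ e, D.a e j = 0
  a_even : ∀ e j, Even j → Even (D.a e j)
  s_imp : ∀ e j, D.s e j = true → Odd j ∧ 0 < D.a e j
  size : ∑ j ∈ Finset.range (N + 1), j * ((D.f j).natDegree + D.a true j + D.a false j) = N

/-- no block of odd size for the eigenvalues `±1` -/
def ODat.Free {F : Type*} [Field F] (D : ODat F) : Prop := ∀ e j, Odd j → D.a e j = 0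

end Cfsg.Agent.H169
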