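import Mathlib
import Cfsg.Agent.H194.NilFormD
import Cfsg.Agent.H194.Cayley
import Cfsg.Agent.ClassicalGeometry.SymmNormalForm
import Cfsg.Agent.ClassicalGeometry.Discriminant

/-!
# Unipotent isometries of symmetric forms over finite fields of odd characteristic

`HasU B g m s` : `g` has `m i` Jordan blocks of size `i`, and `s i` tells whether the discriminant of the Gram block
of (odd) size `i` is a nonsquare.

* `exists_hasU`, `HasU.exists_isometry`, `HasU.disc`.
-/

set_option autoImplicit false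

namespace Cfsg.Agent.H169.OddUnip

open Module Cfsg.Agent.H194.NilForm Cfsg.Agent.H194.Cayley Matrix

universe u
variable {F : Type*} [Field F] {V : Type u} [AddCommGroup V] [Module F V]

theorem sc (h2 : (2 : F) ≠ 0) : Sc (RingHom.id F) 1 (-1) (2⁻¹ : F) where
  invol := fun _ => rfl
  eps := by simp
  eta := by simp
  tau := by
    rw [RingHom.id_apply, ← two_mul, mul_inv_cancel₀ h2]

theorem isUnit_two (h2 : (2 : F) ≠ 0) : IsUnit (2 : Module.End F V) := by
  rw [← map_ofNat (algebraMap F (Module.End F V)) 2]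
  exact (IsUnit.mk0 _ h2).map _

/-- the pair of a skew map -/
theorem pair (B : V →ₗ[F] V →ₗ[F] F) (hsym : ∀ u v, B u v = B v u) (hnd : ∀ u, (∀ v, B u v = 0) → u = 0)
    {N : Module.End F V} (hN : ∀ x y, B (N x) y = - B x (N y)) :
    Pair (RingHom.id F) 1 (-1) (fun u v => B u v) N where
  add_left := fun x x' y => by rw [map_add, LinearMap.add_apply]
  smul_left := fun c x y => by rw [map_smul, LinearMap.smul_apply, smul_eq_mul]
  symm := fun x y => by rw [hsym, RingHom.id_apply, one_mul]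
  adj := fun x y => by rw [hN]; ring
  nondeg := hnd

/-- the type of a unipotent isometry -/
def HasU (B : V →ₗ[F] V →ₗ[F] F) (g : Module.End F V) (m : ℕ → ℕ) (s : ℕ → Bool) : Prop :=
  ∃ N : Module.End F V, Cay g N ∧ ∃ (ι : Type) (_ : Fintype ι) (_ : DecidableEq ι) (ℓ : ι → ℕ) (S : Matrix ι ι F)
    (x : ι → V), IsNB (fun u v => B u v) N ℓ S x ∧ (∀ i, Fintype.card {a // ℓ a = i} = m i) ∧
    ∀ i, (s i = true ↔ (Odd i ∧ ¬ IsSquare (S.toSquareBlock ℓ i).det))

theorem gram_symm {f : V → V → F} {N : V →ₗ[F] V}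
    (h : Pair (RingHom.id F) 1 (-1) f N) {ι : Type*} [Fintype ι] [DecidableEq ι]
    {ℓ : ι → ℕ} {S : Matrix ι ι F} {x : ι → V} (hx : IsNB f N ℓ S x) (a b : ι) :
    S b a = ((-1 : F) ^ (ℓ a + 1)) * S a b := by
  by_cases hab : ℓ a = ℓ b
  · obtain ⟨k, hk⟩ : ∃ k, k + 1 = ℓ a := ⟨ℓ a - 1, by have := hx.pos a; omega⟩
    have h1 := hx.form b a k
    have h3 := hx.form a b k
    rw [if_pos hk] at h1
    rw [if_pos (hk.trans hab)] at h3
    rw [← h1, ← h3, h.symm_pow, RingHom.id_apply, RingHom.id_apply, ← hk, pow_succ, pow_succ]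
    ring
  · rw [hx.blk a b hab, hx.blk b a (Ne.symm hab), mul_zero]

theorem block_symm {f : V → V → F} {N : V →ₗ[F] V}
    (h : Pair (RingHom.id F) 1 (-1) f N) {ι : Type*} [Fintype ι] [DecidableEq ι]
    {ℓ : ι → ℕ} {S : Matrix ι ι F} {x : ι → V} (hx : IsNB f N ℓ S x) (i : ℕ) :
    (S.toSquareBlock ℓ i)ᵀ = ((-1 : F) ^ (i + 1)) • S.toSquareBlock ℓ i := by
  ext a b
  rw [Matrix.transpose_apply, Matrix.smul_apply]
  simp only [Matrix.toSquareBlock_def, Matrix.of_apply, smul_eq_mul]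
  have := gram_symm h hx a b
  rwa [a.2] at this

/-- every unipotent isometry has a type -/
theorem exists_hasU [Finite F] (h2 : (2 : F) ≠ 0) [FiniteDimensional F V] (B : V →ₗ[F] V →ₗ[F] F)
    (hsym : ∀ u v, B u v = B v u) (hnd : ∀ u, (∀ v, B u v = 0) → u = 0) (g : Module.End F V)
    (hg : ∀ u v, B (g u) (g v) = B u v) {p : ℕ} (hp : (g - 1) ^ p = 0) :
    ∃ (m : ℕ → ℕ) (s : ℕ → Bool), HasU B g m s ∧ m 0 = 0 ∧ (∀ i, Even i → Even (m i)) ∧
      (∀ i, s i = true → Odd i ∧ 0 < m i) ∧ (∀ i, finrank F V < i → m i = 0) ∧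
      ∑ i ∈ Finset.range (finrank F V + 1), i * m i = finrank F V := by
  classical
  obtain ⟨N, hc, hN⟩ := exists_cay (isUnit_two h2) hp
  have hskew := skew_of_isometry (f := fun u v => B u v) h2 (fun x x' y => by rw [map_add, LinearMap.add_apply])
    (fun x y y' => by rw [map_add]) hg hc
  have hP := pair B hsym hnd hskew
  obtain ⟨ι, _, _, ℓ, S, x, hx, hℓ⟩ := exists_nb (sc h2) p hP hN
  have hη : (-1 : F) ≠ 0 := by simp
  have hrank : finrank F V = ∑ a, ℓ a := hx.finrank_eq hP hη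
  have hle : ∀ a, ℓ a ≤ finrank F V := by
    intro a
    rw [hrank]
    exact Finset.single_le_sum (fun b _ => Nat.zero_le _) (Finset.mem_univ a)
  refine ⟨fun i => Fintype.card {a // ℓ a = i},
    fun i => decide (Odd i ∧ ¬ IsSquare (S.toSquareBlock ℓ i).det),
    ⟨N, hc, ι, inferInstance, inferInstance, ℓ, S, x, hx, fun i => rfl, fun i => by simp⟩, ?_, ?_, ?_, ?_, ?_⟩
  · exact Fintype.card_eq_zero_iff.2 ⟨fun a => (hx.pos a).ne' a.2⟩
  · intro i hi
    have h3 := block_symm hP hx i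
    rw [(hi.add_one).neg_one_pow, neg_one_smul] at h3
    obtain ⟨k, hk⟩ := even_card_of_alt h2 h3 (hx.block_isUnit i)
    change Even (Fintype.card {a // ℓ a = i})
    rw [hk]
    exact even_two_mul k
  · intro i hi
    simp only [decide_eq_true_eq] at hi
    refine ⟨hi.1, ?_⟩
    by_contra h0
    have h1 := Fintype.card_eq_zero_iff.1 (Nat.eq_zero_of_not_pos h0)
    apply hi.2
    rw [Matrix.det_isEmpty]
    exact ⟨1, by ring⟩
  · intro i hi
    exact Fintype.card_eq_zero_iff.2 ⟨fun a => by have := hle a.1; rw [a.2] at this; omega⟩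
  · rw [hrank]
    have h4 : ∀ i, i * Fintype.card {a // ℓ a = i} = ∑ a ∈ Finset.univ.filter (fun a => ℓ a = i), ℓ a := by
      intro i
      rw [Finset.sum_congr rfl (fun a ha => (Finset.mem_filter.1 ha).2), Finset.sum_const, Fintype.card_subtype,
        smul_eq_mul, mul_comm]
    rw [Finset.sum_congr rfl (fun i _ => h4 i)]
    exact Finset.sum_fiberwise_of_maps_to (s := Finset.univ) (t := Finset.range ((∑ a, ℓ a) + 1)) (g := ℓ)
      (fun a _ => Finset.mem_range.2 (by have := hle a; rw [hrank] at this; omega)) ℓ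

theorem exists_sq_mul [Finite F] {a b : F} (ha : a ≠ 0) (h : IsSquare a ↔ IsSquare b) :
    ∃ s : F, b = s ^ 2 * a := by
  by_cases hsa : IsSquare a
  · obtain ⟨t, ht⟩ := h.1 hsa
    obtain ⟨r, hr⟩ := hsa
    have hr0 : r ≠ 0 := fun h0 => ha (by rw [hr, h0, mul_zero])
    exact ⟨t / r, by rw [hr, ht]; field_simp⟩
  · have hsb : ¬ IsSquare b := fun hb => hsa (h.2 hb)
    obtain ⟨r, hr⟩ := Cfsg.Agent.ClassicalGeometry.SymmNormalForm.isSquare_div_of_not hsa hsb
    refine ⟨r / a, ?_⟩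
    field_simp
    linear_combination hr

/-- **Unipotent isometries of the same type are equivalent.** -/
theorem HasU.exists_isometry [Finite F] (h2 : (2 : F) ≠ 0) {V' : Type*} [AddCommGroup V'] [Module F V']
    {B : V →ₗ[F] V →ₗ[F] F} {B' : V' →ₗ[F] V' →ₗ[F] F}
    (hsym : ∀ u v, B u v = B v u) (hnd : ∀ u, (∀ v, B u v = 0) → u = 0)
    (hsym' : ∀ u v, B' u v = B' v u) (hnd' : ∀ u, (∀ v, B' u v = 0) → u = 0)
    {g : Module.End F V} {g' : Module.End F V'} (hg : ∀ u v, B (g u) (g v) = B u v)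
    (hg' : ∀ u v, B' (g' u) (g' v) = B' u v) {m : ℕ → ℕ} {s : ℕ → Bool} (H : HasU B g m s) (H' : HasU B' g' m s) :
    ∃ e : V ≃ₗ[F] V', (∀ u v, B' (e u) (e v) = B u v) ∧ ∀ v, e (g v) = g' (e v) := by
  obtain ⟨N, hc, ι, _, _, ℓ, S, x, hx, hm, hs⟩ := H
  obtain ⟨N', hc', ι', _, _, ℓ', S', x', hx', hm', hs'⟩ := H'
  have hP := pair B hsym hnd (skew_of_isometry (f := fun u v => B u v) h2
    (fun x x' y => by rw [map_add, LinearMap.add_apply]) (fun x y y' => by rw [map_add]) hg hc)
  have hP' := pair B' hsym' hnd' (skew_of_isometry (f := fun u v => B' u v) h2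
    (fun x x' y => by rw [map_add, LinearMap.add_apply]) (fun x y y' => by rw [map_add]) hg' hc')
  have hη : (-1 : F) ≠ 0 := by simp
  have hcard : ∀ i, Fintype.card {a // ℓ a = i} = Fintype.card {a // ℓ' a = i} := by
    intro i; rw [hm, hm']
  obtain ⟨e, he, heN⟩ := exists_isometry_of_blocks hP hP' hη hx hx' (by
    intro i hi
    have h3 := block_symm hP hx i
    have h3' := block_symm hP' hx' i
    rcases Nat.even_or_odd i with hev | hodd
    · rw [(hev.add_one).neg_one_pow, neg_one_smul] at h3 h3'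
      exact cg_alt h2 h3 h3' (hx.block_isUnit i) (hx'.block_isUnit i) (hcard i)
    · rw [(hodd.add_one).neg_one_pow, one_smul] at h3 h3'
      have hiff : IsSquare (S.toSquareBlock ℓ i).det ↔ IsSquare (S'.toSquareBlock ℓ' i).det := by
        have h5 := (hs i).symm.trans (hs' i)
        constructor
        · intro h6
          by_contra h7
          exact (h5.2 ⟨hodd, h7⟩).2 h6
        · intro h6
          by_contra h7
          exact (h5.1 ⟨hodd, h7⟩).2 h6
      obtain ⟨c, hc⟩ := exists_sq_mul (F := F) (a := (S.toSquareBlock ℓ i).det) (b := (S'.toSquareBlock ℓ' i).det)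
          ((Matrix.isUnit_iff_isUnit_det _).1 (hx.block_isUnit i)).ne_zero hiff
      exact cg_symm h2 h3 h3' (hx.block_isUnit i) (hx'.block_isUnit i) (hcard i) hc)
  refine ⟨e, he, ?_⟩
  have hsurj : ∀ v : V, ∃ w, w - N w = v := by
    intro v
    refine ⟨(2 : F)⁻¹ • (g + 1) v, ?_⟩
    have h1 := congrArg (fun T : Module.End F V => T v) hc.mul_add
    have h3 : (g + 1) v - N ((g + 1) v) = (2 : F) • v := by
      have h4 : ((2 : Module.End F V)) v = (2 : F) • v := by
        rw [← one_add_one_eq_two, ← one_add_one_eq_two, LinearMap.add_apply, Module.End.one_apply, add_smul, one_smul]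
      rw [← h4]
      exact h1
    rw [map_smul, ← smul_sub, h3, smul_smul, inv_mul_cancel₀ h2, one_smul]
  intro v
  obtain ⟨w, rfl⟩ := hsurj v
  have h5 : g (w - N w) = w + N w := congrArg (fun T : Module.End F V => T w) hc.mul
  have h6 : g' (e w - N' (e w)) = e w + N' (e w) := congrArg (fun T : Module.End F V' => T (e w)) hc'.mul
  rw [h5, map_add, map_sub, heN, h6]

end Cfsg.Agent.H169.OddUnip
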