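import Mathlib
import Cfsg.Agent.H169.OddUnip
import Cfsg.Agent.H152.Blocks

/-!
# Discriminants of unipotent isometries

`qd B` : quadratic character of the discriminant; `HasU.qd_mul` : comparison of two spaces whose unipotent isometries
have the same Jordan type.
-/

set_option autoImplicit false

namespace Cfsg.Agent.H169.OddUnip

open Module Cfsg.Agent.H194.NilForm Cfsg.Agent.H194.Cayley Matrix

universe u
variable {F : Type*} [Field F] [Fintype F] [DecidableEq F] {V : Type u} [AddCommGroup V] [Module F V]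

/-- quadratic character of the discriminant -/
noncomputable def qd [FiniteDimensional F V] (B : V →ₗ[F] V →ₗ[F] F) : ℤ :=
  quadraticChar F (LinearMap.BilinForm.toMatrix (Module.finBasis F V) B).det

theorem nondegenerate_of {B : V →ₗ[F] V →ₗ[F] F} (hsym : ∀ u v, B u v = B v u)
    (hnd : ∀ u, (∀ v, B u v = 0) → u = 0) : B.Nondegenerate :=
  ⟨hnd, fun v hv => hnd v fun u => by rw [hsym]; exact hv u⟩

theorem quadraticChar_sq_mul {s a : F} (hs : s ≠ 0) : quadraticChar F (s ^ 2 * a) = quadraticChar F a := by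
  rw [map_mul, quadraticChar_sq_one' hs, one_mul]

theorem qd_eq [FiniteDimensional F V] (B : V →ₗ[F] V →ₗ[F] F) {κ : Type*} [Fintype κ] [DecidableEq κ]
    (b : Basis κ F V) : quadraticChar F (LinearMap.BilinForm.toMatrix b B).det = qd B := by
  obtain ⟨s, hs, h⟩ := Cfsg.Agent.ClassicalGeometry.Discriminant.det_toMatrix_change (Module.finBasis F V) b B
  rw [h, quadraticChar_sq_mul hs, qd]

section Block

variable {ι : Type*} [Fintype ι] [DecidableEq ι] (ℓ : ι → ℕ) (S : Matrix ι ι F)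

/-- the matrix `S ⊗ 1` -/
def tt : Matrix ((a : ι) × Fin (ℓ a)) ((a : ι) × Fin (ℓ a)) F :=
  Matrix.of fun p q => if (p.2 : ℕ) = q.2 then S p.1 q.1 else 0

/-- the antidiagonal matrix -/
def kk (F : Type*) [Field F] : Matrix ((a : ι) × Fin (ℓ a)) ((a : ι) × Fin (ℓ a)) F :=
  Matrix.of fun p q => if p.1 = q.1 ∧ (p.2 : ℕ) + q.2 + 1 = ℓ q.1 then (-1) ^ (p.2 : ℕ) else 0

theorem tt_mul_kk : tt ℓ S * kk ℓ F = Matrix.of fun p q : (a : ι) × Fin (ℓ a) =>
    if (p.2 : ℕ) + q.2 + 1 = ℓ q.1 then (-1) ^ (p.2 : ℕ) * S p.1 q.1 else 0 := by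
  ext p q
  rw [Matrix.mul_apply, Matrix.of_apply]
  simp only [tt, kk, Matrix.of_apply]
  split_ifs with h
  · have hj : (p.2 : ℕ) < ℓ q.1 := by omega
    rw [Finset.sum_eq_single (⟨q.1, ⟨p.2, hj⟩⟩ : (a : ι) × Fin (ℓ a))]
    · simp only [if_true, true_and, h]
      ring
    · rintro ⟨c, k⟩ - hne
      by_cases hk : (p.2 : ℕ) = k
      · have h1 : ¬ (c = q.1 ∧ (k : ℕ) + q.2 + 1 = ℓ q.1) := by
          rintro ⟨hc, -⟩
          apply hne
          subst hc
          congr 1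
          exact Fin.ext hk.symm
        simp only
        rw [if_neg h1, mul_zero]
      · simp only
        rw [if_neg hk, zero_mul]
    · intro h1; exact absurd (Finset.mem_univ _) h1
  · refine Finset.sum_eq_zero fun r _ => ?_
    by_cases hk : (p.2 : ℕ) = r.2
    · have h1 : ¬ (r.1 = q.1 ∧ (r.2 : ℕ) + q.2 + 1 = ℓ q.1) := by
        rintro ⟨-, hc⟩
        exact h (by omega)
      rw [if_neg h1, mul_zero]
    · rw [if_neg hk, zero_mul]

/-- the block index -/
def bi (p : (a : ι) × Fin (ℓ a)) : ℕ ×ₗ ℕ := toLex (ℓ p.1, (p.2 : ℕ))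

variable {ℓ S}

theorem tt_triangular (hS : ∀ a b, ℓ a ≠ ℓ b → S a b = 0) : (tt ℓ S).BlockTriangular (bi ℓ) := by
  intro p q hpq
  rw [tt, Matrix.of_apply]
  by_cases h1 : (p.2 : ℕ) = q.2
  · rw [if_pos h1]
    apply hS
    intro h2
    apply lt_irrefl (bi ℓ p)
    have : bi ℓ p = bi ℓ q := by rw [bi, bi, h1, h2]
    rwa [← this] at hpq
  · rw [if_neg h1]

theorem det_block {i j : ℕ} (hj : j < i) :
    ((tt ℓ S).toSquareBlock (bi ℓ) (toLex (i, j))).det = (S.toSquareBlock ℓ i).det := by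
  let e : {p : (a : ι) × Fin (ℓ a) // bi ℓ p = toLex (i, j)} ≃ {a // ℓ a = i} :=
    { toFun := fun p => ⟨p.1.1, by
        have h1 : (ℓ p.1.1, (p.1.2 : ℕ)) = (i, j) := toLex.injective p.2
        exact (Prod.mk.inj h1).1⟩
      invFun := fun a => ⟨⟨a.1, ⟨j, by rw [a.2]; exact hj⟩⟩, congrArg (fun i => toLex (i, j)) a.2⟩
      left_inv := by
        rintro ⟨⟨a, k⟩, hp⟩
        have h1 : (ℓ a, (k : ℕ)) = (i, j) := toLex.injective hp
        have h2 := (Prod.mk.inj h1).2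
        apply Subtype.ext
        simp only
        congr 1
        exact Fin.ext h2.symm
      right_inv := fun a => rfl }
  rw [← Matrix.det_reindex_self e]
  congr 1
  ext a b
  simp only [Matrix.reindex_apply, Matrix.submatrix_apply, Matrix.toSquareBlock_def, Matrix.of_apply, tt, e,
    Equiv.coe_fn_symm_mk, if_true]

theorem char_tt (hS : ∀ a b, ℓ a ≠ ℓ b → S a b = 0)
    (hu : ∀ i, (S.toSquareBlock ℓ i).det ≠ 0) :
    quadraticChar F (tt ℓ S).det =
      ∏ i ∈ Finset.univ.image ℓ, (if Odd i then quadraticChar F (S.toSquareBlock ℓ i).det else 1) := by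
  classical
  rw [(tt_triangular hS).det, map_prod]
  have himg : (Finset.univ.image (bi ℓ)) =
      ((Finset.univ.image ℓ).sigma (fun i => Finset.range i)).map
        ⟨fun p : (_ : ℕ) × ℕ => (toLex (p.1, p.2) : ℕ ×ₗ ℕ), by
          rintro ⟨a, b⟩ ⟨c, d⟩ h
          have h1 : (a, b) = (c, d) := toLex.injective h
          obtain ⟨rfl, rfl⟩ := Prod.mk.inj h1
          rfl⟩ := by
    ext x
    simp only [Finset.mem_image, Finset.mem_univ, true_and, Finset.mem_map, Finset.mem_sigma, Finset.mem_range,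
      Function.Embedding.coeFn_mk]
    constructor
    · rintro ⟨⟨a, k⟩, rfl⟩
      exact ⟨⟨ℓ a, k⟩, ⟨⟨a, rfl⟩, k.2⟩, rfl⟩
    · rintro ⟨⟨i, j⟩, ⟨⟨a, ha⟩, hj⟩, rfl⟩
      simp only at ha hj
      subst ha
      exact ⟨⟨a, ⟨j, hj⟩⟩, rfl⟩
  rw [himg, Finset.prod_map, Finset.prod_sigma]
  refine Finset.prod_congr rfl fun i _ => ?_
  have h1 : ∀ j ∈ Finset.range i, quadraticChar F ((tt ℓ S).toSquareBlock (bi ℓ)
      ((⟨fun p : (_ : ℕ) × ℕ => (toLex (p.1, p.2) : ℕ ×ₗ ℕ), by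
          rintro ⟨a, b⟩ ⟨c, d⟩ h
          have h1 : (a, b) = (c, d) := toLex.injective h
          obtain ⟨rfl, rfl⟩ := Prod.mk.inj h1
          rfl⟩ : ((_ : ℕ) × ℕ) ↪ (ℕ ×ₗ ℕ)) ⟨i, j⟩)).det = quadraticChar F (S.toSquareBlock ℓ i).det := by
    intro j hj
    exact congrArg _ (det_block (Finset.mem_range.1 hj))
  rw [Finset.prod_congr rfl h1, Finset.prod_const, Finset.card_range]
  have hsq : quadraticChar F (S.toSquareBlock ℓ i).det ^ 2 = 1 := quadraticChar_sq_one (hu i)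
  have hpow : ∀ x : ℤ, x ^ 2 = 1 → x ^ i = if Odd i then x else 1 := by
    intro x hx
    rcases Nat.even_or_odd i with ⟨k, hk⟩ | ⟨k, hk⟩
    · rw [if_neg (by rw [Nat.not_odd_iff_even]; exact ⟨k, hk⟩), hk, ← two_mul, pow_mul, hx, one_pow]
    · rw [if_pos ⟨k, hk⟩, hk, pow_succ, pow_mul, hx, one_pow, one_mul]
  exact hpow _ hsq

theorem det_kk_eq {ι' : Type*} [Fintype ι'] [DecidableEq ι'] {ℓ' : ι' → ℕ} (σ : ι ≃ ι') (hσ : ∀ a, ℓ' (σ a) = ℓ a) :
    (kk ℓ F).det = (kk ℓ' F).det := by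
  let e : ((a : ι) × Fin (ℓ a)) ≃ ((a : ι') × Fin (ℓ' a)) :=
    Equiv.sigmaCongr σ (fun a => finCongr (hσ a).symm)
  rw [← Matrix.det_submatrix_equiv_self e (kk ℓ' F)]
  congr 1
  ext p q
  have h1 : (e p).1 = σ p.1 := rfl
  have h1' : (e q).1 = σ q.1 := rfl
  have h2 : ((e p).2 : ℕ) = p.2 := rfl
  have h2' : ((e q).2 : ℕ) = q.2 := rfl
  rw [Matrix.submatrix_apply]
  simp only [kk, Matrix.of_apply, h1, h1', h2, h2', hσ, EmbeddingLike.apply_eq_iff_eq]

theorem toMatrix_basis {B : V →ₗ[F] V →ₗ[F] F} {N : V →ₗ[F] V}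
    (hP : Pair (RingHom.id F) 1 (-1) (fun u v => B u v) N) (hη : (-1 : F) ≠ 0) {x : ι → V}
    (hx : IsNB (fun u v => B u v) N ℓ S x) :
    LinearMap.BilinForm.toMatrix (hx.basis hP hη) B = tt ℓ S * kk ℓ F := by
  rw [tt_mul_kk]
  ext p q
  rw [LinearMap.BilinForm.toMatrix_apply, Matrix.of_apply, hx.basis_apply hP hη, hx.basis_apply hP hη]
  have h1 : B ((N ^ (p.2 : ℕ)) (x p.1)) ((N ^ (q.2 : ℕ)) (x q.1)) =
      (-1) ^ (p.2 : ℕ) * B (x p.1) ((N ^ (p.2 : ℕ)) ((N ^ (q.2 : ℕ)) (x q.1))) := hP.adj_pow _ _ _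
  have h2 : B (x p.1) ((N ^ ((p.2 : ℕ) + q.2)) (x q.1)) =
      if (p.2 : ℕ) + q.2 + 1 = ℓ q.1 then S p.1 q.1 else 0 := hx.form _ _ _
  rw [h1, ← Module.End.mul_apply, ← pow_add, h2, mul_ite, mul_zero]

end Block

/-- the sign of a type -/
def sgn (d : ℕ) (s : ℕ → Bool) : ℤ := ∏ i ∈ Finset.range (d + 1), if s i = true then -1 else 1

theorem sgn_sq (d : ℕ) (s : ℕ → Bool) : sgn d s * sgn d s = 1 := by
  rw [sgn, ← Finset.prod_mul_distrib]
  refine Finset.prod_eq_one fun i _ => ?_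
  split_ifs <;> norm_num

theorem char_eq_ite {a : F} (ha : a ≠ 0) : quadraticChar F a = if IsSquare a then 1 else -1 := by
  split_ifs with h
  · exact (quadraticChar_one_iff_isSquare ha).2 h
  · rcases quadraticChar_dichotomy ha with h1 | h1
    · exact absurd ((quadraticChar_one_iff_isSquare ha).1 h1) h
    · exact h1

theorem qd_nb {W : Type*} [AddCommGroup W] [Module F W] [FiniteDimensional F W] {C : W →ₗ[F] W →ₗ[F] F}
    {M : W →ₗ[F] W} (hη : (-1 : F) ≠ 0) (hQ : Pair (RingHom.id F) 1 (-1) (fun u v => C u v) M) {κ : Type} [Fintype κ]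
    [DecidableEq κ] {l : κ → ℕ} {T : Matrix κ κ F} {y : κ → W} (hy : IsNB (fun u v => C u v) M l T y) {t : ℕ → Bool}
    (ht : ∀ i, (t i = true ↔ (Odd i ∧ ¬ IsSquare (T.toSquareBlock l i).det))) {d : ℕ} (hdW : finrank F W ≤ d) :
    qd C = sgn d t * quadraticChar F (kk l F).det := by
  rw [← qd_eq C (hy.basis hQ hη), toMatrix_basis hQ hη hy, Matrix.det_mul, map_mul]
  congr 1
  rw [char_tt hy.blk (fun i => ((Matrix.isUnit_iff_isUnit_det _).1 (hy.block_isUnit i)).ne_zero), sgn]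
  have hsub : Finset.univ.image l ⊆ Finset.range (d + 1) := by
    intro i hi
    obtain ⟨a, -, rfl⟩ := Finset.mem_image.1 hi
    rw [Finset.mem_range, Nat.lt_succ_iff]
    refine le_trans ?_ hdW
    rw [hy.finrank_eq hQ hη]
    exact Finset.single_le_sum (fun b _ => Nat.zero_le _) (Finset.mem_univ a)
  rw [← Finset.prod_subset hsub]
  · refine Finset.prod_congr rfl fun i _ => ?_
    have h3 := ((Matrix.isUnit_iff_isUnit_det _).1 (hy.block_isUnit i)).ne_zero
    by_cases ho : Odd i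
    · rw [if_pos ho, char_eq_ite h3]
      by_cases hq : IsSquare (T.toSquareBlock l i).det
      · rw [if_pos hq, if_neg (fun h => ((ht i).1 h).2 hq)]
      · rw [if_neg hq, if_pos ((ht i).2 ⟨ho, hq⟩)]
    · rw [if_neg ho, if_neg (fun h => ho ((ht i).1 h).1)]
  · intro i _ hi
    rw [if_neg]
    intro h
    have h3 := ((ht i).1 h).2
    have : IsEmpty {a // l a = i} := ⟨fun a => hi (Finset.mem_image.2 ⟨a.1, Finset.mem_univ _, a.2⟩)⟩
    rw [Matrix.det_isEmpty] at h3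
    exact h3 ⟨1, by ring⟩

/-- **Discriminants of spaces with unipotent isometries of the same Jordan type.** -/
theorem HasU.qd_mul (h2 : (2 : F) ≠ 0) {V' : Type*} [AddCommGroup V'] [Module F V'] [FiniteDimensional F V]
    [FiniteDimensional F V']
    {B : V →ₗ[F] V →ₗ[F] F} {B' : V' →ₗ[F] V' →ₗ[F] F}
    (hsym : ∀ u v, B u v = B v u) (hnd : ∀ u, (∀ v, B u v = 0) → u = 0)
    (hsym' : ∀ u v, B' u v = B' v u) (hnd' : ∀ u, (∀ v, B' u v = 0) → u = 0)
    {g : Module.End F V} {g' : Module.End F V'} (hg : ∀ u v, B (g u) (g v) = B u v)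
    (hg' : ∀ u v, B' (g' u) (g' v) = B' u v) {m : ℕ → ℕ} {s s' : ℕ → Bool} (H : HasU B g m s) (H' : HasU B' g' m s')
    {d : ℕ} (hd : finrank F V ≤ d) (hd' : finrank F V' ≤ d) :
    qd B * qd B' = sgn d s * sgn d s' := by
  obtain ⟨N, hc, ι, _, _, ℓ, S, x, hx, hm, hs⟩ := H
  obtain ⟨N', hc', ι', _, _, ℓ', S', x', hx', hm', hs'⟩ := H'
  have hP := pair B hsym hnd (skew_of_isometry (f := fun u v => B u v) h2
    (fun x x' y => by rw [map_add, LinearMap.add_apply]) (fun x y y' => by rw [map_add]) hg hc)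
  have hP' := pair B' hsym' hnd' (skew_of_isometry (f := fun u v => B' u v) h2
    (fun x x' y => by rw [map_add, LinearMap.add_apply]) (fun x y y' => by rw [map_add]) hg' hc')
  have hη : (-1 : F) ≠ 0 := by simp
  obtain ⟨σ, hσ⟩ := Cfsg.Agent.H152.exists_equiv_of_fiber ℓ ℓ' (fun i => by
    rw [← Fintype.card_subtype, ← Fintype.card_subtype, hm, hm'])
  rw [qd_nb hη hP hx hs hd, qd_nb hη hP' hx' hs' hd', det_kk_eq σ hσ]
  have hne : (kk ℓ' F).det ≠ 0 := by
    have h4 : (LinearMap.BilinForm.toMatrix (hx'.basis hP' hη) B').det ≠ 0 :=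
      (LinearMap.BilinForm.nondegenerate_iff_det_ne_zero _).1 (nondegenerate_of hsym' hnd')
    rw [toMatrix_basis hP' hη hx', Matrix.det_mul] at h4
    exact right_ne_zero_of_mul h4
  have h5 : quadraticChar F (kk ℓ' F).det * quadraticChar F (kk ℓ' F).det = 1 := by
    rw [← sq, quadraticChar_sq_one hne]
  linear_combination (sgn d s * sgn d s') * h5

end Cfsg.Agent.H169.OddUnip
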