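import Mathlib
import Cfsg.Prelude.Def_Classical
import Cfsg.Agent.H169.OddGlue
import Cfsg.Agent.H193.OrthConj

/-!
# Counting conjugacy classes of orthogonal groups in odd characteristic

`two_card_le` : `2 k(O(Q)) ≤ #{D Ok} + #{D Ok, Free}`.
-/

set_option autoImplicit false

namespace Cfsg.Agent.H169.OddCount

open Module Cfsg.Agent.H169.OddUnip Cfsg.Agent.H169.OddGlue Matrix

section Flip

variable {F : Type*} [Field F]

theorem ext' {D D' : ODat F} (hf : D.f = D'.f) (ha : D.a = D'.a) (hs : D.s = D'.s) : D = D' := by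
  cases D; cases D'
  simp only at hf ha hs
  rw [hf, ha, hs]

open Classical in
/-- the chosen odd block -/
noncomputable def pos (a : Bool → ℕ → ℕ) : Bool × ℕ :=
  if h : ∃ p : Bool × ℕ, Odd p.2 ∧ 0 < a p.1 p.2 then h.choose else (true, 1)

theorem pos_spec {D : ODat F} (h : ¬ D.Free) : Odd (pos D.a).2 ∧ 0 < D.a (pos D.a).1 (pos D.a).2 := by
  have h1 : ∃ p : Bool × ℕ, Odd p.2 ∧ 0 < D.a p.1 p.2 := by
    unfold ODat.Free at h
    push Not at h
    obtain ⟨e, j, hj, hne⟩ := h
    exact ⟨(e, j), hj, Nat.pos_of_ne_zero hne⟩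
  rw [pos, dif_pos h1]
  exact h1.choose_spec

/-- change one sign -/
noncomputable def flip (D : ODat F) : ODat F :=
  { D with s := fun e j => if (e, j) = pos D.a then !(D.s e j) else D.s e j }

theorem flip_flip (D : ODat F) : flip (flip D) = D := by
  refine ext' (D := flip (flip D)) (D' := D) rfl rfl ?_
  funext e j
  change (if (e, j) = pos D.a then !(if (e, j) = pos D.a then !(D.s e j) else D.s e j)
    else (if (e, j) = pos D.a then !(D.s e j) else D.s e j)) = D.s e j
  split_ifs with h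
  · rw [Bool.not_not]
  · rfl

theorem flip_ok {N : ℕ} {D : ODat F} (h : D.Ok N) (hf : ¬ D.Free) : (flip D).Ok N where
  monic := h.monic
  pal := h.pal
  one := h.one
  neg_one := h.neg_one
  even := h.even
  zero := h.zero
  big := h.big
  a_even := h.a_even
  s_imp := by
    intro e j hs
    by_cases hp : (e, j) = pos D.a
    · have h1 := pos_spec hf
      rw [← hp] at h1
      exact h1
    · apply h.s_imp e j
      change (if (e, j) = pos D.a then !(D.s e j) else D.s e j) = true at hs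
      rwa [if_neg hp] at hs
  size := h.size

theorem flip_free {D : ODat F} : (flip D).Free ↔ D.Free := Iff.rfl

theorem sgn_mul_sgn_eq {d : ℕ} {s s' : ℕ → Bool} (h : ∀ j, s' j = s j) : sgn d s * sgn d s' = 1 := by
  have : s' = s := funext h
  rw [this, sgn_sq]

theorem sgn_mul_sgn_ne {d : ℕ} {s s' : ℕ → Bool} {k : ℕ} (hk : k ≤ d) (h : ∀ j, j ≠ k → s' j = s j)
    (hk' : s' k = !(s k)) : sgn d s * sgn d s' = -1 := by
  rw [sgn, sgn, ← Finset.prod_mul_distrib, Finset.prod_eq_single k]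
  · rw [hk']
    cases s k <;> simp
  · intro j _ hj
    rw [h j hj]
    split_ifs <;> norm_num
  · intro hn
    exact absurd (Finset.mem_range.2 (by omega)) hn

theorem sgn_flip {N : ℕ} {D : ODat F} (h : D.Ok N) (hf : ¬ D.Free) :
    (sgn N (D.s true) * sgn N ((flip D).s true)) * (sgn N (D.s false) * sgn N ((flip D).s false)) = -1 := by
  obtain ⟨h1, h2⟩ := pos_spec hf
  have h3 : (pos D.a).2 ≤ N := by
    by_contra hlt
    have := (h.big (pos D.a).2 (by omega)).2 (pos D.a).1
    omega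
  have hval : ∀ e j, (flip D).s e j = if (e, j) = pos D.a then !(D.s e j) else D.s e j := fun e j => rfl
  have hne : ∀ e, e ≠ (pos D.a).1 → ∀ j, (flip D).s e j = D.s e j := by
    intro e he j
    rw [hval, if_neg]
    intro h4
    exact he (congrArg Prod.fst h4)
  have heq : ∀ e, e = (pos D.a).1 → sgn N (D.s e) * sgn N ((flip D).s e) = -1 := by
    intro e he
    apply sgn_mul_sgn_ne h3
    · intro j hj
      rw [hval, if_neg]
      intro h4
      exact hj (congrArg Prod.snd h4)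
    · rw [hval, if_pos]
      exact Prod.ext he rfl
  rcases hb : (pos D.a).1 with _ | _
  · rw [sgn_mul_sgn_eq (hne true (by rw [hb]; decide)), heq false hb.symm, one_mul]
  · rw [sgn_mul_sgn_eq (hne false (by rw [hb]; decide)), heq true hb.symm, mul_one]

end Flip

/-- abstract counting -/
theorem card_count {X : Type*} [Finite X] (R fr : X → Prop) (φ : X → X)
    (hφ : ∀ x, ¬ fr x → φ (φ x) = x ∧ ¬ fr (φ x)) (hR : ∀ x, R x → ¬ fr x → ¬ R (φ x)) :
    2 * Nat.card {x // R x} ≤ Nat.card X + Nat.card {x // fr x} := by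
  classical
  letI := Fintype.ofFinite X
  rw [Nat.card_eq_fintype_card, Nat.card_eq_fintype_card, Nat.card_eq_fintype_card, Fintype.card_subtype,
    Fintype.card_subtype]
  let A := Finset.univ.filter fun x => R x ∧ ¬ fr x
  let A' := A.image φ
  have hinj : Set.InjOn φ A := by
    intro x hx y hy hxy
    have hx' := (Finset.mem_filter.1 hx).2
    have hy' := (Finset.mem_filter.1 hy).2
    rw [← (hφ x hx'.2).1, ← (hφ y hy'.2).1, hxy]
  have hcard : A'.card = A.card := Finset.card_image_of_injOn hinj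
  have hdisj : Disjoint A A' := by
    rw [Finset.disjoint_left]
    intro x hx hx'
    obtain ⟨y, hy, rfl⟩ := Finset.mem_image.1 hx'
    have hy' := (Finset.mem_filter.1 hy).2
    exact hR y hy'.1 hy'.2 (Finset.mem_filter.1 hx).2.1
  have hsub : A ∪ A' ⊆ Finset.univ.filter fun x => ¬ fr x := by
    intro x hx
    rw [Finset.mem_union] at hx
    rw [Finset.mem_filter]
    refine ⟨Finset.mem_univ _, ?_⟩
    rcases hx with hx | hx
    · exact (Finset.mem_filter.1 hx).2.2
    · obtain ⟨y, hy, rfl⟩ := Finset.mem_image.1 hx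
      exact (hφ y (Finset.mem_filter.1 hy).2.2).2
  have h1 := Finset.card_le_card hsub
  rw [Finset.card_union_of_disjoint hdisj, hcard] at h1
  have h2 : (Finset.univ.filter fun x => ¬ fr x).card + (Finset.univ.filter fun x => fr x).card = Fintype.card X := by
    rw [add_comm, Finset.card_filter_add_card_filter_not, Finset.card_univ]
  have h3 : (Finset.univ.filter fun x => R x).card ≤ A.card + (Finset.univ.filter fun x => fr x).card := by
    refine le_trans (Finset.card_le_card (t := A ∪ Finset.univ.filter fun x => fr x) ?_) (Finset.card_union_le _ _)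
    intro x hx
    rw [Finset.mem_union, Finset.mem_filter, Finset.mem_filter]
    by_cases hfx : fr x
    · exact Or.inr ⟨Finset.mem_univ _, hfx⟩
    · exact Or.inl ⟨Finset.mem_univ _, (Finset.mem_filter.1 hx).2, hfx⟩
  omega

section Main

variable {F : Type*} [Field F] {ι : Type} [Fintype ι] [DecidableEq ι]

/-- the linear automorphism of an invertible matrix -/
noncomputable def lin (M : GL ι F) : (ι → F) ≃ₗ[F] (ι → F) :=
  Matrix.toLin'OfInv (M' := (M : Matrix ι ι F)) (M := ((M⁻¹ : GL ι F) : Matrix ι ι F)) (by simp) (by simp)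

theorem lin_apply (M : GL ι F) (v : ι → F) : lin M v = (M : Matrix ι ι F) *ᵥ v := Matrix.toLin'_apply _ v

/-- the bilinear form -/
noncomputable def bf (G₀ : Matrix ι ι F) : (ι → F) →ₗ[F] (ι → F) →ₗ[F] F := Matrix.toBilin' G₀

theorem bf_apply (G₀ : Matrix ι ι F) (u v : ι → F) : bf G₀ u v = u ⬝ᵥ (G₀ *ᵥ v) := Matrix.toBilin'_apply' _ _ _

theorem bf_symm {G₀ : Matrix ι ι F} (hs : G₀ᵀ = G₀) (u v : ι → F) : bf G₀ u v = bf G₀ v u := by
  rw [bf_apply, bf_apply, dotProduct_comm, dotProduct_mulVec v, ← mulVec_transpose, hs]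

theorem bf_nondeg {G₀ : Matrix ι ι F} (hu : G₀.det ≠ 0) (u : ι → F) (h : ∀ v, bf G₀ u v = 0) : u = 0 :=
  (Cfsg.Agent.H194.NilForm.nondeg_of_isUnit ((Matrix.isUnit_iff_isUnit_det _).2 (Ne.isUnit hu))).1 u h

theorem bf_iso (h2 : (2 : F) ≠ 0) {G₀ : Matrix ι ι F} (hs : G₀ᵀ = G₀) {Q : (ι → F) → F}
    (hQ : ∀ v, 2 * Q v = v ⬝ᵥ (G₀ *ᵥ v)) (A : Cfsg.isometryGroup F Q) (u v : ι → F) :
    bf G₀ (lin (A : GL ι F) u) (lin (A : GL ι F) v) = bf G₀ u v := by
  have hA : ∀ w, bf G₀ (lin (A : GL ι F) w) (lin (A : GL ι F) w) = bf G₀ w w := by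
    intro w
    rw [bf_apply, bf_apply, ← hQ, ← hQ, lin_apply]
    congr 1
    exact Cfsg.Agent.H193.OrthConj.mem_isometryGroup.1 A.2 w
  have h1 := hA (u + v)
  rw [map_add (lin (A : GL ι F))] at h1
  simp only [map_add, LinearMap.add_apply] at h1
  rw [hA, hA, bf_symm hs (lin (A : GL ι F) v) (lin (A : GL ι F) u), bf_symm hs v u] at h1
  have h3 : 2 * bf G₀ (lin (A : GL ι F) u) (lin (A : GL ι F) v) = 2 * bf G₀ u v := by linear_combination h1
  exact mul_left_cancel₀ h2 h3

theorem isConj_of_iso (h2 : (2 : F) ≠ 0) {G₀ : Matrix ι ι F} {Q : (ι → F) → F}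
    (hQ : ∀ v, 2 * Q v = v ⬝ᵥ (G₀ *ᵥ v)) (A B : Cfsg.isometryGroup F Q) (z : (ι → F) ≃ₗ[F] (ι → F))
    (hz : ∀ u v, bf G₀ (z u) (z v) = bf G₀ u v) (hz' : ∀ v, z (lin (A : GL ι F) v) = lin (B : GL ι F) (z v)) :
    IsConj A B := by
  let Z : GL ι F := ⟨LinearMap.toMatrix' z.toLinearMap, LinearMap.toMatrix' z.symm.toLinearMap, by
    rw [← LinearMap.toMatrix'_comp, LinearEquiv.comp_coe, LinearEquiv.symm_trans_self, LinearEquiv.refl_toLinearMap,
      LinearMap.toMatrix'_id], by
    rw [← LinearMap.toMatrix'_comp, LinearEquiv.comp_coe, LinearEquiv.self_trans_symm, LinearEquiv.refl_toLinearMap,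
      LinearMap.toMatrix'_id]⟩
  have hZ : ∀ v, (Z : Matrix ι ι F).mulVec v = z v := fun v => LinearMap.toMatrix'_mulVec z.toLinearMap v
  have hzQ : ∀ v, Q (z v) = Q v := by
    intro v
    apply mul_left_cancel₀ h2
    rw [hQ, hQ, ← bf_apply, ← bf_apply, hz]
  rw [_root_.isConj_iff]
  refine ⟨⟨Z, Cfsg.Agent.H193.OrthConj.mem_isometryGroup.2 fun v => by rw [hZ, hzQ]⟩, ?_⟩
  rw [mul_inv_eq_iff_eq_mul]
  apply Subtype.ext
  apply Units.ext
  show (Z : Matrix ι ι F) * ((A : GL ι F) : Matrix ι ι F) = ((B : GL ι F) : Matrix ι ι F) * Z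
  apply Matrix.toLin'.injective
  apply LinearMap.ext
  intro v
  rw [Matrix.toLin'_apply, Matrix.toLin'_apply, ← Matrix.mulVec_mulVec, ← Matrix.mulVec_mulVec, hZ, hZ,
    ← lin_apply, ← lin_apply]
  exact hz' v

/-- **The upper bound for the class number.** -/
theorem two_card_le [Fintype F] (h2 : (2 : F) ≠ 0) {N : ℕ} (hι : Fintype.card ι = N) (G₀ : Matrix ι ι F)
    (hs : G₀ᵀ = G₀) (hu : G₀.det ≠ 0) (Q : (ι → F) → F) (hQ : ∀ v, 2 * Q v = v ⬝ᵥ (G₀ *ᵥ v))
    [Finite {D : ODat F // D.Ok N}] :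
    2 * Nat.card (ConjClasses (Cfsg.isometryGroup F Q)) ≤
      Nat.card {D : ODat F // D.Ok N} + Nat.card {D : ODat F // D.Ok N ∧ D.Free} := by
  classical
  have hrank : finrank F (ι → F) = N := by rw [finrank_fintype_fun_eq_card, hι]
  let R : {D : ODat F // D.Ok N} → Prop := fun D =>
    ∃ A : Cfsg.isometryGroup F Q, HasO (bf G₀) (lin (A : GL ι F)) D.1
  have h1 : ∀ A : Cfsg.isometryGroup F Q, ∃ D : ODat F, D.Ok N ∧ HasO (bf G₀) (lin (A : GL ι F)) D := fun A =>
    exists_hasO h2 (bf_symm hs) (bf_nondeg hu) (bf_iso h2 hs hQ A) hrank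
  choose D hD hA using h1
  have h3 : Nat.card (ConjClasses (Cfsg.isometryGroup F Q)) ≤ Nat.card {x // R x} := by
    refine Nat.card_le_card_of_injective (fun c : ConjClasses (Cfsg.isometryGroup F Q) =>
      (⟨⟨D c.exists_rep.choose, hD _⟩, ⟨_, hA _⟩⟩ : {x // R x})) ?_
    intro c c' hcc
    have h4 : D c.exists_rep.choose = D c'.exists_rep.choose := congrArg (fun x => x.1.1) hcc
    have h5 := hA c.exists_rep.choose
    have h6 := hA c'.exists_rep.choose
    rw [← h4] at h6
    obtain ⟨z, hz, hz'⟩ := h5.exists_isometry h2 (bf_symm hs) (bf_nondeg hu) (bf_symm hs) (bf_nondeg hu)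
      (bf_iso h2 hs hQ _) (bf_iso h2 hs hQ _) h6
    have h7 := isConj_of_iso h2 hQ _ _ z hz hz'
    rw [← c.exists_rep.choose_spec, ← c'.exists_rep.choose_spec]
    exact ConjClasses.mk_eq_mk_iff_isConj.2 h7
  have h4 := card_count R (fun x => x.1.Free)
    (fun x => if h : x.1.Free then x else ⟨flip x.1, flip_ok x.2 h⟩) (by
      intro x hx
      have hx' : ¬ (flip x.1).Free := hx
      rw [dif_neg hx, dif_neg hx']
      exact ⟨Subtype.ext (flip_flip _), hx'⟩) (by
      rintro x ⟨A, hxA⟩ hx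
      rw [dif_neg hx]
      rintro ⟨A', hxA'⟩
      have h5 := hxA.qd_mul h2 (bf_symm hs) (bf_nondeg hu) (bf_symm hs) (bf_nondeg hu) (bf_iso h2 hs hQ _)
        (bf_iso h2 hs hQ _) hxA' rfl rfl (d := N) hrank.le hrank.le
      rw [sgn_flip x.2 hx, ← sq, OddUnip.qd, quadraticChar_sq_one] at h5
      · norm_num at h5
      · exact (LinearMap.BilinForm.nondegenerate_iff_det_ne_zero _).1 (nondegenerate_of (bf_symm hs) (bf_nondeg hu)))
  have h5 : Nat.card {x : {D : ODat F // D.Ok N} // x.1.Free} = Nat.card {D : ODat F // D.Ok N ∧ D.Free} :=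
    Nat.card_congr (Equiv.subtypeSubtypeEquivSubtypeInter _ _)
  omega

end Main

end Cfsg.Agent.H169.OddCount
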