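import Mathlib
import Cfsg.Prelude.Def_Classical

/-!
# Gram matrices of the standard quadratic forms of even dimension, odd characteristic
-/

set_option autoImplicit false

namespace Cfsg.Agent.H169.OddForms

open Matrix

variable {F : Type*} [Field F]

/-- Gram matrix of the plus form -/
def gramPlus (n : ℕ) (F : Type*) [Field F] : Matrix (Fin n ⊕ Fin n) (Fin n ⊕ Fin n) F := fromBlocks 0 1 1 0

theorem gramPlus_symm (n : ℕ) : (gramPlus n F)ᵀ = gramPlus n F := by
  rw [gramPlus, fromBlocks_transpose]; simp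

theorem gramPlus_sq (n : ℕ) : gramPlus n F * gramPlus n F = 1 := by
  rw [gramPlus, fromBlocks_multiply, ← fromBlocks_one]; simp

theorem gramPlus_det (n : ℕ) : (gramPlus n F).det ≠ 0 := by
  intro h
  have := congrArg Matrix.det (gramPlus_sq (F := F) n)
  rw [det_mul, h, mul_zero, det_one] at this
  exact zero_ne_one this

theorem gramPlus_form (n : ℕ) (v : Fin n ⊕ Fin n → F) :
    2 * Cfsg.quadFormPlus n F v = v ⬝ᵥ (gramPlus n F *ᵥ v) := by
  obtain ⟨x, y, rfl⟩ : ∃ x y : Fin n → F, v = Sum.elim x y := ⟨fun i => v (.inl i), fun i => v (.inr i), by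
    ext i; cases i <;> rfl⟩
  rw [gramPlus, fromBlocks_mulVec]
  simp only [Sum.elim_comp_inl, Sum.elim_comp_inr, zero_mulVec, one_mulVec, zero_add, add_zero,
    Cfsg.quadFormPlus, Sum.elim_inl, Sum.elim_inr, sumElim_dotProduct_sumElim]
  rw [dotProduct_comm y x, two_mul]
  rfl

/-- Gram matrix of the minus form -/
def gramMinus (n : ℕ) (F : Type*) [Field F] (a b : F) :
    Matrix ((Fin n ⊕ Fin n) ⊕ Fin 2) ((Fin n ⊕ Fin n) ⊕ Fin 2) F :=
  fromBlocks (gramPlus n F) 0 0 !![2, a; a, 2 * b]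

theorem gramMinus_symm (n : ℕ) (a b : F) : (gramMinus n F a b)ᵀ = gramMinus n F a b := by
  rw [gramMinus, fromBlocks_transpose, gramPlus_symm]
  congr 1
  ext i j; fin_cases i <;> fin_cases j <;> rfl

theorem gramMinus_det (h2 : (2 : F) ≠ 0) (n : ℕ) (a b : F)
    (hab : ∀ z₁ z₂ : F, z₁ ^ 2 + a * z₁ * z₂ + b * z₂ ^ 2 = 0 → z₁ = 0 ∧ z₂ = 0) :
    (gramMinus n F a b).det ≠ 0 := by
  rw [gramMinus, det_fromBlocks_zero₁₂, det_fin_two_of]
  refine mul_ne_zero (gramPlus_det n) ?_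
  intro h
  have h1 := (hab (-a / 2) 1 (by
    field_simp
    linear_combination h)).2
  exact one_ne_zero h1

theorem gramMinus_form (n : ℕ) (a b : F) (v : (Fin n ⊕ Fin n) ⊕ Fin 2 → F) :
    2 * Cfsg.quadFormMinus n F a b v = v ⬝ᵥ (gramMinus n F a b *ᵥ v) := by
  obtain ⟨x, y, rfl⟩ : ∃ (x : Fin n ⊕ Fin n → F) (y : Fin 2 → F), v = Sum.elim x y :=
    ⟨fun i => v (.inl i), fun i => v (.inr i), by ext i; cases i <;> rfl⟩
  have h1 := gramPlus_form n x
  rw [gramMinus, fromBlocks_mulVec]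
  simp only [Sum.elim_comp_inl, Sum.elim_comp_inr, zero_mulVec, zero_add, add_zero, Cfsg.quadFormMinus,
    Sum.elim_inl, Sum.elim_inr, sumElim_dotProduct_sumElim]
  rw [← h1, Cfsg.quadFormPlus]
  simp only [dotProduct, mulVec, Fin.sum_univ_two, of_apply, cons_val_zero, cons_val_one, cons_val', cons_val_fin_one]
  ring

end Cfsg.Agent.H169.OddForms
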