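import Mathlib
import Cfsg.Prelude.Def_Classical
import Cfsg.Agent.H169.SpLower
import Cfsg.Agent.H194.NilFormD

/-!
# `q^n / 2 ≤ k(O^±_{2n}(q))`, `q` odd

For every monic `h` of degree `n` with `h(2) = 0`, or `h(2) h(-2) ≠ 0` in the right square class, there is an
isometry `g` with `charpoly (g + g⁻¹) = h ^ 2`.
-/

set_option autoImplicit false

namespace Cfsg.Agent.H169.OddLower

open Matrix Polynomial Module

universe u
variable {F : Type u} [Field F]

/-- an isometry `g` (with inverse `g'`) of the form `G` -/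
structure Rz {κ : Type*} [Fintype κ] [DecidableEq κ] (G g g' : Matrix κ κ F) (h : F[X]) : Prop where
  symm : Gᵀ = G
  det : G.det ≠ 0
  inv : g * g' = 1
  pres : gᵀ * G * g = G
  char : (g + g').charpoly = h ^ 2

theorem Rz.reindex {κ ι : Type*} [Fintype κ] [DecidableEq κ] [Fintype ι] [DecidableEq ι] (e : κ ≃ ι)
    {G g g' : Matrix κ κ F} {h : F[X]} (H : Rz G g g' h) :
    Rz (Matrix.reindex e e G) (Matrix.reindex e e g) (Matrix.reindex e e g') h := by
  refine ⟨?_, ?_, ?_, ?_, ?_⟩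
  · rw [Matrix.transpose_reindex, H.symm]
  · rw [Matrix.det_reindex_self]; exact H.det
  · rw [Matrix.reindex_apply, Matrix.reindex_apply, Matrix.submatrix_mul_equiv, H.inv, Matrix.submatrix_one_equiv]
  · rw [Matrix.transpose_reindex, Matrix.reindex_apply, Matrix.reindex_apply, Matrix.reindex_apply,
      Matrix.submatrix_mul_equiv, Matrix.submatrix_mul_equiv, H.pres]
  · have : Matrix.reindex e e g + Matrix.reindex e e g' = Matrix.reindex e e (g + g') := rfl
    rw [this, Matrix.charpoly_reindex, H.char]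

/-- the main construction -/
theorem exists_main (h2 : (2 : F) ≠ 0) {n : ℕ} (h : F[X]) (hm : h.Monic) (hd : h.natDegree = n)
    (hp : h.eval 2 ≠ 0) (hn : h.eval (-2) ≠ 0) :
    ∃ G g g' : Matrix (Fin n ⊕ Fin n) (Fin n ⊕ Fin n) F, Rz G g g' h ∧
      ∃ c : F, c ≠ 0 ∧ G.det = c ^ 2 * ((-1) ^ n * (h.eval 2 * h.eval (-2))) := by
  obtain ⟨C, S, T, hC, hS, hT, hST, hTS, hCS⟩ := SpLower.exists_pair h hm hd
  have hTC : T * C = Cᵀ * T := by
    calc T * C = T * C * (S * T) := by rw [hST, Matrix.mul_one]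
      _ = T * (C * S) * T := by simp only [Matrix.mul_assoc]
      _ = Cᵀ * T := by rw [hCS, ← Matrix.mul_assoc, hTS, Matrix.one_mul]
  let M : Matrix (Fin n ⊕ Fin n) (Fin n ⊕ Fin n) F := fromBlocks ((2 : F) • 1) C C ((2 : F) • 1)
  let P : Matrix (Fin n ⊕ Fin n) (Fin n ⊕ Fin n) F := fromBlocks 1 1 1 (-1)
  have hMP : M * P = P * fromBlocks ((2 : F) • 1 + C) 0 0 ((2 : F) • 1 - C) := by
    simp only [M, P, fromBlocks_multiply]
    simp only [Matrix.mul_one, Matrix.one_mul, Matrix.mul_zero, Matrix.mul_neg, Matrix.neg_mul, add_zero, zero_add]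
    congr 1 <;> abel
  have hPP : P * P = (2 : F) • 1 := by
    simp only [P, fromBlocks_multiply, Matrix.mul_one, Matrix.one_mul, Matrix.mul_neg, Matrix.neg_mul, neg_neg]
    rw [← fromBlocks_one, fromBlocks_smul]
    congr 1
    · rw [two_smul]
    · simp
    · simp
    · rw [two_smul]
  have hPdet : P.det ≠ 0 := by
    intro h0
    have := congrArg Matrix.det hPP
    rw [Matrix.det_mul, h0, zero_mul, Matrix.det_smul, Matrix.det_one, mul_one] at this
    exact pow_ne_zero _ h2 this.symm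
  have e1 : ((2 : F) • (1 : Matrix (Fin n) (Fin n) F) - C).det = h.eval 2 := by
    rw [← hC, Matrix.eval_charpoly, Matrix.scalar_apply, ← Matrix.smul_one_eq_diagonal]
  have e2 : ((2 : F) • (1 : Matrix (Fin n) (Fin n) F) + C).det = (-1) ^ n * h.eval (-2) := by
    rw [← hC, Matrix.eval_charpoly, Matrix.scalar_apply, ← Matrix.smul_one_eq_diagonal]
    have : (2 : F) • (1 : Matrix (Fin n) (Fin n) F) + C = -((-2 : F) • (1 : Matrix (Fin n) (Fin n) F) - C) := by
      rw [neg_smul]; abel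
    rw [this, Matrix.det_neg, Fintype.card_fin]
  have hMdet : M.det = (-1) ^ n * (h.eval 2 * h.eval (-2)) := by
    have h3 := congrArg Matrix.det hMP
    rw [Matrix.det_mul, Matrix.det_mul, Matrix.det_fromBlocks_zero₁₂, e1, e2, mul_comm P.det] at h3
    have h4 := mul_right_cancel₀ hPdet h3
    rw [h4]; ring
  have hTdet : T.det ≠ 0 := by
    intro h0
    have := congrArg Matrix.det hST
    rw [Matrix.det_mul, h0, mul_zero, Matrix.det_one] at this
    exact zero_ne_one this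
  let G : Matrix (Fin n ⊕ Fin n) (Fin n ⊕ Fin n) F := fromBlocks T 0 0 T * M
  have hG : G = fromBlocks ((2 : F) • T) (T * C) (T * C) ((2 : F) • T) := by
    simp only [G, M, fromBlocks_multiply]
    simp only [Matrix.zero_mul, add_zero, zero_add, Matrix.mul_smul, Matrix.mul_one, smul_zero]
  have hGdet : G.det = T.det ^ 2 * ((-1) ^ n * (h.eval 2 * h.eval (-2))) := by
    simp only [G]
    rw [Matrix.det_mul, Matrix.det_fromBlocks_zero₁₂, hMdet]; ring
  refine ⟨G, fromBlocks 0 (-1) 1 C, fromBlocks C 1 (-1) 0, ⟨?_, ?_, ?_, ?_, ?_⟩, T.det, hTdet, hGdet⟩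
  · rw [hG, fromBlocks_transpose, transpose_smul, transpose_mul, hT, ← hTC]
  · rw [hGdet]
    refine mul_ne_zero (pow_ne_zero _ hTdet) (mul_ne_zero (pow_ne_zero _ (by simp)) (mul_ne_zero hp hn))
  · rw [fromBlocks_multiply, ← fromBlocks_one]
    congr 1 <;> simp
  · rw [hG, fromBlocks_transpose, fromBlocks_multiply, fromBlocks_multiply]
    simp only [transpose_zero, transpose_one, transpose_neg, Matrix.zero_mul, Matrix.one_mul, Matrix.mul_zero,
      Matrix.mul_one, Matrix.neg_mul, Matrix.mul_neg, zero_add, add_zero, Matrix.mul_smul, Matrix.smul_mul,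
      smul_zero]
    have e3 : Cᵀ * (T * C) = T * C * C := by rw [← Matrix.mul_assoc, ← hTC]
    rw [← hTC, e3]
    congr 1
    all_goals
      simp only [two_smul, Matrix.add_mul, Matrix.neg_mul]
      abel
  · rw [fromBlocks_add]
    simp only [zero_add, neg_add_cancel, add_neg_cancel, add_zero]
    rw [charpoly_fromBlocks_zero₁₂, hC]; ring

/-- adding an eigenvalue `ε = ±1` -/
theorem Rz.step {κ : Type*} [Fintype κ] [DecidableEq κ] {G g g' : Matrix κ κ F} {h : F[X]} (H : Rz G g g' h)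
    {ε : F} (hε : ε * ε = 1) {d : F} (hd : d ≠ 0) :
    Rz (fromBlocks (diagonal ![1, d]) 0 0 G : Matrix (Fin 2 ⊕ κ) (Fin 2 ⊕ κ) F)
      (fromBlocks (ε • 1) 0 0 g) (fromBlocks (ε • 1) 0 0 g') ((X - C (2 * ε)) * h) := by
  refine ⟨?_, ?_, ?_, ?_, ?_⟩
  · rw [fromBlocks_transpose, H.symm, diagonal_transpose, transpose_zero, transpose_zero]
  · rw [det_fromBlocks_zero₁₂, det_diagonal]
    simp only [Fin.prod_univ_two, cons_val_zero, cons_val_one, one_mul]
    exact mul_ne_zero hd H.det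
  · rw [fromBlocks_multiply, ← fromBlocks_one]
    congr 1
    · simp [smul_smul, hε]
    · simp
    · simp
    · simp [H.inv]
  · rw [fromBlocks_transpose, fromBlocks_multiply, fromBlocks_multiply]
    simp only [transpose_smul, transpose_one, transpose_zero, Matrix.zero_mul, Matrix.mul_zero, add_zero, zero_add,
      Matrix.smul_mul, Matrix.mul_smul, Matrix.one_mul, Matrix.mul_one, smul_smul, hε, one_smul, H.pres, smul_zero]
  · rw [fromBlocks_add]
    simp only [add_zero]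
    rw [charpoly_fromBlocks_zero₁₂, H.char, charpoly_fin_two]
    have e1 : (ε • (1 : Matrix (Fin 2) (Fin 2) F) + ε • 1).trace = 4 * ε := by
      simp [Matrix.trace_fin_two]; ring
    have e2 : (ε • (1 : Matrix (Fin 2) (Fin 2) F) + ε • 1).det = 4 := by
      rw [Matrix.det_fin_two]
      simp
      linear_combination 4 * hε
    rw [e1, e2]
    have e3 : (C (2 * ε) : F[X]) ^ 2 = C 4 := by
      rw [← C_pow]
      congr 1
      linear_combination 4 * hε
    have e4 : (C (4 * ε) : F[X]) = 2 * C (2 * ε) := by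
      rw [show (2 : F[X]) = C 2 from rfl, ← C_mul]; congr 1; ring
    rw [e4, ← e3]
    ring

theorem exists_rz (h2 : (2 : F) ≠ 0) : ∀ (n : ℕ) (h : F[X]), h.Monic → h.natDegree = n →
    ∃ G g g' : Matrix (Fin n ⊕ Fin n) (Fin n ⊕ Fin n) F, Rz G g g' h := by
  intro n
  induction n with
  | zero =>
    intro h hm hd
    have h1 : h = 1 := by
      exact (hm.natDegree_eq_zero).1 hd
    subst h1
    obtain ⟨G, g, g', H, -⟩ := exists_main h2 (n := 0) (1 : F[X]) monic_one natDegree_one (by simp) (by simp)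
    exact ⟨G, g, g', H⟩
  | succ n ih =>
    intro h hm hd
    have key : ∀ ε : F, ε * ε = 1 → h.eval (2 * ε) = 0 →
        ∃ G g g' : Matrix (Fin (n + 1) ⊕ Fin (n + 1)) (Fin (n + 1) ⊕ Fin (n + 1)) F, Rz G g g' h := by
      intro ε hε h0
      obtain ⟨k, hk⟩ := dvd_iff_isRoot.2 (show IsRoot h (2 * ε) from h0)
      have hkm : k.Monic := by
        rw [hk] at hm
        exact Monic.of_mul_monic_left (monic_X_sub_C _) hm
      have hkd : k.natDegree = n := by
        rw [hk, (monic_X_sub_C _).natDegree_mul hkm, natDegree_X_sub_C] at hd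
        omega
      obtain ⟨G, g, g', H⟩ := ih k hkm hkd
      have H2 := H.step hε (one_ne_zero (α := F))
      rw [← hk] at H2
      have hcard : Fintype.card (Fin 2 ⊕ (Fin n ⊕ Fin n)) = Fintype.card (Fin (n + 1) ⊕ Fin (n + 1)) := by
        simp; omega
      have H3 := H2.reindex (Fintype.equivOfCardEq hcard)
      exact ⟨_, _, _, H3⟩
    by_cases hp : h.eval 2 = 0
    · exact key 1 (by ring) (by rw [mul_one]; exact hp)
    by_cases hn : h.eval (-2) = 0
    · exact key (-1) (by ring) (by rw [mul_neg, mul_one]; exact hn)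
    obtain ⟨G, g, g', H, -⟩ := exists_main h2 h hm hd hp hn
    exact ⟨G, g, g', H⟩

/-- every discriminant occurs if `h(2) = 0` -/
theorem exists_root (h2 : (2 : F) ≠ 0) {n : ℕ} (h : F[X]) (hm : h.Monic) (hd : h.natDegree = n) (h0 : h.eval 2 = 0)
    {d : F} (hd0 : d ≠ 0) : ∃ G g g' : Matrix (Fin n ⊕ Fin n) (Fin n ⊕ Fin n) F, Rz G g g' h ∧ G.det = d := by
  obtain ⟨k, hk⟩ := dvd_iff_isRoot.2 (show IsRoot h 2 from h0)
  have hkm : k.Monic := by
    rw [hk] at hm
    exact Monic.of_mul_monic_left (monic_X_sub_C _) hm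
  have hkd : k.natDegree + 1 = n := by
    rw [hk, (monic_X_sub_C _).natDegree_mul hkm, natDegree_X_sub_C] at hd
    omega
  obtain ⟨G, g, g', H⟩ := exists_rz h2 k.natDegree k hkm rfl
  have hd' : d * (G.det)⁻¹ ≠ 0 := mul_ne_zero hd0 (inv_ne_zero H.det)
  have H2 := H.step (ε := 1) (by ring) hd'
  rw [mul_one, ← hk] at H2
  have hcard : Fintype.card (Fin 2 ⊕ (Fin k.natDegree ⊕ Fin k.natDegree)) = Fintype.card (Fin n ⊕ Fin n) := by
    simp; omega
  refine ⟨_, _, _, H2.reindex (Fintype.equivOfCardEq hcard), ?_⟩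
  rw [Matrix.det_reindex_self, det_fromBlocks_zero₁₂, det_diagonal]
  simp only [Fin.prod_univ_two, cons_val_zero, cons_val_one, one_mul]
  rw [mul_assoc, inv_mul_cancel₀ H.det, mul_one]

open Cfsg.Agent.H194.NilForm in
/-- transport to a form with the same discriminant -/
theorem Rz.transport [Finite F] (h2 : (2 : F) ≠ 0) {κ ι : Type*} [Fintype κ] [DecidableEq κ] [Fintype ι]
    [DecidableEq ι] {G g g' : Matrix κ κ F} {h : F[X]} (H : Rz G g g' h) {G₀ : Matrix ι ι F} (hs : G₀ᵀ = G₀)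
    (hu : G₀.det ≠ 0) (hcard : Fintype.card κ = Fintype.card ι) {s : F} (hdet : G₀.det = s ^ 2 * G.det) :
    ∃ g₀ g₀' : Matrix ι ι F, Rz G₀ g₀ g₀' h := by
  let e : κ ≃ ι := Fintype.equivOfCardEq hcard
  have H1 := H.reindex e
  set G₁ := Matrix.reindex e e G with hG₁
  set g₁ := Matrix.reindex e e g with hg₁
  set g₁' := Matrix.reindex e e g' with hg₁'
  have hd1 : G₀.det = s ^ 2 * G₁.det := by rw [hG₁, Matrix.det_reindex_self, hdet]
  obtain ⟨M, L, hML, hLM, hM⟩ := cg_symm h2 H1.symm hs ((Matrix.isUnit_iff_isUnit_det _).2 (isUnit_iff_ne_zero.2 H1.det))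
    ((Matrix.isUnit_iff_isUnit_det _).2 (isUnit_iff_ne_zero.2 hu)) rfl hd1
  have hMid : (M.map (RingHom.id F)) = M := by ext i j; rfl
  rw [hMid] at hM
  have hML' : Mᵀ * Lᵀ = 1 := by rw [← transpose_mul, hLM, transpose_one]
  have hLM' : Lᵀ * Mᵀ = 1 := by rw [← transpose_mul, hML, transpose_one]
  have hG₀ : L * G₁ * Lᵀ = G₀ := by
    rw [hM]
    calc L * (M * G₀ * Mᵀ) * Lᵀ = (L * M) * G₀ * (Mᵀ * Lᵀ) := by simp only [Matrix.mul_assoc]
      _ = G₀ := by rw [hLM, hML', Matrix.one_mul, Matrix.mul_one]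
  refine ⟨Mᵀ * g₁ * Lᵀ, Mᵀ * g₁' * Lᵀ, ⟨hs, hu, ?_, ?_, ?_⟩⟩
  · calc Mᵀ * g₁ * Lᵀ * (Mᵀ * g₁' * Lᵀ) = Mᵀ * g₁ * (Lᵀ * Mᵀ) * g₁' * Lᵀ := by simp only [Matrix.mul_assoc]
      _ = Mᵀ * (g₁ * g₁') * Lᵀ := by rw [hLM', Matrix.mul_one]; simp only [Matrix.mul_assoc]
      _ = 1 := by rw [H1.inv, Matrix.mul_one, hML']
  · have hg := H1.pres
    calc (Mᵀ * g₁ * Lᵀ)ᵀ * G₀ * (Mᵀ * g₁ * Lᵀ) = L * (g₁ᵀ * (M * G₀ * Mᵀ) * g₁) * Lᵀ := by
          simp only [transpose_mul, transpose_transpose, Matrix.mul_assoc]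
      _ = G₀ := by rw [← hM, hg, hG₀]
  · have e1 : Mᵀ * g₁ * Lᵀ + Mᵀ * g₁' * Lᵀ = Mᵀ * ((g₁ + g₁') * Lᵀ) := by
      rw [Matrix.add_mul, Matrix.mul_add]; simp only [Matrix.mul_assoc]
    rw [e1, Matrix.charpoly_mul_comm, Matrix.mul_assoc, hLM', Matrix.mul_one, H1.char]

/-- an element of the isometry group -/
theorem Rz.exists_elt {ι : Type} [Fintype ι] [DecidableEq ι] (h2 : (2 : F) ≠ 0) {G₀ g g' : Matrix ι ι F} {h : F[X]}
    (H : Rz G₀ g g' h) {Q : (ι → F) → F} (hQ : ∀ v, 2 * Q v = v ⬝ᵥ (G₀ *ᵥ v)) :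
    ∃ u : Cfsg.isometryGroup F Q,
      ((u : Matrix.GeneralLinearGroup ι F) : Matrix ι ι F) +
        (((u⁻¹ : Cfsg.isometryGroup F Q) : Matrix.GeneralLinearGroup ι F) : Matrix ι ι F) = g + g' := by
  have hinv : g' * g = 1 := mul_eq_one_comm.1 H.inv
  let x : Matrix.GeneralLinearGroup ι F := ⟨g, g', H.inv, hinv⟩
  have hx : x ∈ Cfsg.isometryGroup F Q := by
    intro u v
    change Q (g *ᵥ u) = Q u
    have h1 : 2 * Q (g *ᵥ u) = 2 * Q u := by
      rw [hQ, hQ, Matrix.mulVec_mulVec, Matrix.dotProduct_mulVec, ← Matrix.vecMul_transpose,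
        Matrix.vecMul_vecMul, ← Matrix.mul_assoc, H.pres, Matrix.dotProduct_mulVec]
    exact mul_left_cancel₀ h2 h1
  exact ⟨⟨x, hx⟩, rfl⟩

theorem charpoly_of_isConj {ι : Type} [Fintype ι] [DecidableEq ι] {Q : (ι → F) → F} {g h : Cfsg.isometryGroup F Q}
    (hc : IsConj g h) :
    (((g : Matrix.GeneralLinearGroup ι F) : Matrix ι ι F) +
      (((g⁻¹ : Cfsg.isometryGroup F Q) : Matrix.GeneralLinearGroup ι F) : Matrix ι ι F)).charpoly
    = (((h : Matrix.GeneralLinearGroup ι F) : Matrix ι ι F) +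
      (((h⁻¹ : Cfsg.isometryGroup F Q) : Matrix.GeneralLinearGroup ι F) : Matrix ι ι F)).charpoly := by
  obtain ⟨c, rfl⟩ := isConj_iff.1 hc
  have h1 : (((c * g * c⁻¹ : Cfsg.isometryGroup F Q) : Matrix.GeneralLinearGroup ι F) : Matrix ι ι F) +
      ((((c * g * c⁻¹)⁻¹ : Cfsg.isometryGroup F Q) : Matrix.GeneralLinearGroup ι F) : Matrix ι ι F)
      = ((c : Matrix.GeneralLinearGroup ι F) : Matrix ι ι F) * (((g : Matrix.GeneralLinearGroup ι F) : Matrix ι ι F) +
      (((g⁻¹ : Cfsg.isometryGroup F Q) : Matrix.GeneralLinearGroup ι F) : Matrix ι ι F)) *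
      (((c⁻¹ : Cfsg.isometryGroup F Q) : Matrix.GeneralLinearGroup ι F) : Matrix ι ι F) := by
    rw [_root_.mul_inv_rev, _root_.mul_inv_rev, inv_inv]
    simp only [Subgroup.coe_mul, Units.val_mul, Matrix.mul_add, Matrix.add_mul, Matrix.mul_assoc]
  have h2 : (((c⁻¹ : Cfsg.isometryGroup F Q) : Matrix.GeneralLinearGroup ι F) : Matrix ι ι F) *
      ((c : Matrix.GeneralLinearGroup ι F) : Matrix ι ι F) = 1 := by
    rw [← Units.val_mul, ← Subgroup.coe_mul, inv_mul_cancel]; rfl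
  rw [h1, Matrix.charpoly_mul_comm, ← Matrix.mul_assoc, h2, Matrix.one_mul]

/-- the polynomial with values `u`, `v` at `2`, `-2` -/
noncomputable def pol (k : F[X]) (u v : F) : F[X] := (X ^ 2 - C 4) * k + (C ((u - v) / 4) * X + C ((u + v) / 2))

theorem pol_spec (h2 : (2 : F) ≠ 0) {n : ℕ} (k : F[X]) (hk : k.Monic) (hd : k.natDegree = n) (u v : F) :
    (pol k u v).Monic ∧ (pol k u v).natDegree = n + 2 ∧ (pol k u v).eval 2 = u ∧ (pol k u v).eval (-2) = v := by
  have h4 : (4 : F) ≠ 0 := by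
    have : (4 : F) = 2 * 2 := by norm_num
    rw [this]; exact mul_ne_zero h2 h2
  have hm : ((X ^ 2 - C 4) * k : F[X]).Monic := (monic_X_pow_sub_C 4 (by norm_num)).mul hk
  have hdeg : ((X ^ 2 - C 4) * k : F[X]).natDegree = n + 2 := by
    rw [(monic_X_pow_sub_C (4 : F) (by norm_num)).natDegree_mul hk, natDegree_X_pow_sub_C, hd, add_comm]
  have hlow : (C ((u - v) / 4) * X + C ((u + v) / 2) : F[X]).degree < ((X ^ 2 - C 4) * k : F[X]).degree := by
    rw [degree_eq_natDegree hm.ne_zero, hdeg]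
    refine lt_of_le_of_lt degree_linear_le ?_
    norm_cast
    omega
  refine ⟨hm.add_of_left hlow, ?_, ?_, ?_⟩
  · rw [pol, natDegree_eq_of_degree_eq (degree_add_eq_left_of_degree_lt hlow), hdeg]
  · simp only [pol, eval_add, eval_mul, eval_sub, eval_pow, eval_X, eval_C]
    field_simp
    ring
  · simp only [pol, eval_add, eval_mul, eval_sub, eval_pow, eval_X, eval_C]
    field_simp
    ring

theorem pol_inj (h2 : (2 : F) ≠ 0) {n : ℕ} {k k' : F[X]} (hk : k.Monic) (hd : k.natDegree = n) (hk' : k'.Monic)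
    (hd' : k'.natDegree = n) {u v u' v' : F} (h : pol k u v = pol k' u' v') : k = k' ∧ u = u' ∧ v = v' := by
  obtain ⟨-, -, h3, h4⟩ := pol_spec h2 k hk hd u v
  obtain ⟨-, -, h5, h6⟩ := pol_spec h2 k' hk' hd' u' v'
  have hu : u = u' := by rw [← h3, h, h5]
  have hv : v = v' := by rw [← h4, h, h6]
  subst hu hv
  refine ⟨?_, rfl, rfl⟩
  have h7 : (X ^ 2 - C 4) * k = (X ^ 2 - C 4) * k' := add_right_cancel h
  exact mul_left_cancel₀ (monic_X_pow_sub_C (4 : F) (by norm_num)).ne_zero h7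

theorem mul_isSquare [Finite F] (hF : ringChar F ≠ 2) {a b : F} (ha : ¬ IsSquare a) (hb : ¬ IsSquare b) :
    IsSquare (a * b) := by
  classical
  letI : Fintype F := Fintype.ofFinite F
  have ha0 : a ≠ 0 := by rintro rfl; exact ha ⟨0, by ring⟩
  have hb0 : b ≠ 0 := by rintro rfl; exact hb ⟨0, by ring⟩
  rw [← quadraticChar_one_iff_isSquare (mul_ne_zero ha0 hb0), map_mul,
    (quadraticChar_neg_one_iff_not_isSquare).2 ha, (quadraticChar_neg_one_iff_not_isSquare).2 hb]
  norm_num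

/-- **At least `q^n / 2` classes.** -/
theorem card_le [Fintype F] (hodd : Odd (Fintype.card F)) {n : ℕ} (hn : 2 ≤ n) {ι : Type} [Fintype ι] [DecidableEq ι]
    (hι : Fintype.card ι = 2 * n) (G₀ : Matrix ι ι F) (hs : G₀ᵀ = G₀) (hu : G₀.det ≠ 0) (Q : (ι → F) → F)
    (hQ : ∀ v, 2 * Q v = v ⬝ᵥ (G₀ *ᵥ v)) :
    Fintype.card F ^ n ≤ 2 * Nat.card (ConjClasses (Cfsg.isometryGroup F Q)) := by
  classical
  have h2 : (2 : F) ≠ 0 := by
    intro h0
    have h1 : ringChar F = 2 := by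
      have := ringChar.dvd (R := F) (x := 2) (by exact_mod_cast h0)
      rcases (Nat.dvd_prime Nat.prime_two).1 this with h3 | h3
      · exact absurd h3 (CharP.ringChar_ne_one)
      · exact h3
    have h3 := FiniteField.even_card_iff_char_two.1 h1
    rw [Nat.odd_iff] at hodd
    omega
  have hchar : ringChar F ≠ 2 := by
    intro h0
    have h3 := FiniteField.even_card_iff_char_two.1 h0
    rw [Nat.odd_iff] at hodd
    omega
  obtain ⟨n, rfl⟩ : ∃ n', n = n' + 2 := ⟨n - 2, by omega⟩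
  let D : F := (-1) ^ (n + 2) * G₀.det
  have hD : D ≠ 0 := mul_ne_zero (pow_ne_zero _ (by simp)) hu
  let S : Set (F × F) := {p | p.1 = 0 ∨ (p.1 * p.2 ≠ 0 ∧ IsSquare (D * (p.1 * p.2)))}
  obtain ⟨ν, hν⟩ : ∃ ν : F, ¬ IsSquare ν := by
    apply FiniteField.exists_nonsquare
    intro h0
    have h3 := FiniteField.even_card_iff_char_two.1 h0
    rw [Nat.odd_iff] at hodd
    omega
  have hν0 : ν ≠ 0 := by rintro rfl; exact hν ⟨0, by ring⟩
  -- the set `S` has at least half of the pairs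
  have hS : Fintype.card F ^ 2 ≤ 2 * Nat.card S := by
    have h3 : Nat.card (Sᶜ : Set (F × F)) ≤ Nat.card S := by
      refine Nat.card_le_card_of_injective
        (fun p => (⟨if p.1.2 = 0 then (0, p.1.1) else (p.1.1, ν * p.1.2), ?_⟩ : S)) ?_
      · rcases p with ⟨⟨u, v⟩, hp⟩
        simp only [S, Set.mem_compl_iff, Set.mem_setOf_eq, not_or] at hp
        dsimp only
        split_ifs with hv
        · exact Or.inl rfl
        · right
          refine ⟨mul_ne_zero hp.1 (mul_ne_zero hν0 hv), ?_⟩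
          have h5 : ¬ IsSquare (D * (u * v)) := fun h6 => hp.2 ⟨mul_ne_zero hp.1 hv, h6⟩
          have h6 : IsSquare (ν * (D * (u * v))) := mul_isSquare hchar hν h5
          have h7 : D * (u * (ν * v)) = ν * (D * (u * v)) := by ring
          rw [h7]
          exact h6
      · rintro ⟨⟨u, v⟩, hp⟩ ⟨⟨u', v'⟩, hp'⟩ heq
        simp only [S, Set.mem_compl_iff, Set.mem_setOf_eq, not_or] at hp hp'
        have h4 := congrArg Subtype.val heq
        dsimp only at h4
        split_ifs at h4 with hv hv' hv'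
        · rw [Prod.mk.injEq] at h4
          simp [h4.2, hv, hv']
        · rw [Prod.mk.injEq] at h4
          exact absurd h4.1.symm hp'.1
        · rw [Prod.mk.injEq] at h4
          exact absurd h4.1 hp.1
        · rw [Prod.mk.injEq] at h4
          have := mul_left_cancel₀ hν0 h4.2
          simp [h4.1, this]
    have h4 : Nat.card S + Nat.card (Sᶜ : Set (F × F)) = Fintype.card F ^ 2 := by
      rw [← Nat.card_sum, Nat.card_congr (Equiv.Set.sumCompl S), Nat.card_prod, Nat.card_eq_fintype_card]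
      ring
    omega
  have hfin : Finite (ConjClasses (Cfsg.isometryGroup F Q)) :=
    Finite.of_surjective _ ConjClasses.mk_surjective
  -- the elements
  have key : ∀ x : {p : F[X] // p.Monic ∧ p.natDegree = n} × S, ∃ u : Cfsg.isometryGroup F Q,
      (((u : Matrix.GeneralLinearGroup ι F) : Matrix ι ι F) +
        (((u⁻¹ : Cfsg.isometryGroup F Q) : Matrix.GeneralLinearGroup ι F) : Matrix ι ι F)).charpoly
        = (pol x.1.1 x.2.1.1 x.2.1.2) ^ 2 := by
    rintro ⟨⟨k, hkm, hkd⟩, ⟨⟨u, v⟩, hp⟩⟩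
    obtain ⟨hm, hd, he1, he2⟩ := pol_spec h2 k hkm hkd u v
    have hcard : Fintype.card (Fin (n + 2) ⊕ Fin (n + 2)) = Fintype.card ι := by
      rw [hι]; simp; omega
    have fin : ∀ G g g' : Matrix (Fin (n + 2) ⊕ Fin (n + 2)) (Fin (n + 2) ⊕ Fin (n + 2)) F, ∀ s : F,
        Rz G g g' (pol k u v) → G₀.det = s ^ 2 * G.det → ∃ u' : Cfsg.isometryGroup F Q,
      (((u' : Matrix.GeneralLinearGroup ι F) : Matrix ι ι F) +
        (((u'⁻¹ : Cfsg.isometryGroup F Q) : Matrix.GeneralLinearGroup ι F) : Matrix ι ι F)).charpoly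
        = (pol k u v) ^ 2 := by
      intro G g g' s H hs'
      obtain ⟨g₀, g₀', H0⟩ := H.transport h2 hs hu hcard hs'
      obtain ⟨w, hw⟩ := H0.exists_elt h2 hQ
      exact ⟨w, by rw [hw, H0.char]⟩
    rcases hp with hp | ⟨hp0, hp⟩
    · dsimp only at hp
      subst hp
      obtain ⟨G, g, g', H, hG⟩ := exists_root h2 (pol k 0 v) hm hd he1 hu
      exact fin G g g' 1 H (by rw [hG]; ring)
    · dsimp only at hp0 hp
      have hu0 : u ≠ 0 := left_ne_zero_of_mul hp0
      have hv0 : v ≠ 0 := right_ne_zero_of_mul hp0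
      obtain ⟨G, g, g', H, c, hc0, hG⟩ := exists_main h2 (pol k u v) hm hd (by rw [he1]; exact hu0) (by rw [he2]; exact hv0)
      rw [he1, he2] at hG
      obtain ⟨r, hr⟩ := hp
      have hsg : ((-1 : F) ^ (n + 2)) * ((-1) ^ (n + 2)) = 1 := by rw [← mul_pow]; simp
      refine fin G g g' (r / (c * (u * v))) H ?_
      rw [hG, div_pow]
      have h6 : r ^ 2 = (-1) ^ (n + 2) * G₀.det * (u * v) := by rw [pow_two, ← hr]
      rw [h6]
      generalize (-1 : F) ^ (n + 2) = e at hsg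
      have h7 : e * G₀.det * (u * v) / (c * (u * v)) ^ 2 * (c ^ 2 * (e * (u * v))) = (e * e) * G₀.det := by
        field_simp
      rw [h7, hsg, one_mul]
  choose w hw using key
  have hinj : Function.Injective (fun x : {p : F[X] // p.Monic ∧ p.natDegree = n} × S => ConjClasses.mk (w x)) := by
    rintro ⟨⟨k, hkm, hkd⟩, ⟨⟨u, v⟩, hp⟩⟩ ⟨⟨k', hkm', hkd'⟩, ⟨⟨u', v'⟩, hp'⟩⟩ hxx
    have h1 := charpoly_of_isConj (ConjClasses.mk_eq_mk_iff_isConj.1 hxx)
    rw [hw, hw] at h1
    dsimp only at h1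
    have hm1 := (pol_spec h2 k hkm hkd u v).1
    have hm2 := (pol_spec h2 k' hkm' hkd' u' v').1
    have h3 : pol k u v = pol k' u' v' := by
      have h4 : (pol k u v - pol k' u' v') * (pol k u v + pol k' u' v') = 0 := by linear_combination h1
      rcases mul_eq_zero.1 h4 with h5 | h5
      · exact sub_eq_zero.1 h5
      · have h6 : pol k u v = - pol k' u' v' := eq_neg_of_add_eq_zero_left h5
        have h7 := congrArg leadingCoeff h6
        rw [leadingCoeff_neg, hm1.leadingCoeff, hm2.leadingCoeff] at h7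
        exfalso
        apply h2
        linear_combination h7
    obtain ⟨rfl, rfl, rfl⟩ := pol_inj h2 hkm hkd hkm' hkd' h3
    rfl
  have h8 := Nat.card_le_card_of_injective _ hinj
  rw [Nat.card_prod, SpLower.card_monic] at h8
  calc Fintype.card F ^ (n + 2) = Fintype.card F ^ n * Fintype.card F ^ 2 := by ring
    _ ≤ Fintype.card F ^ n * (2 * Nat.card S) := Nat.mul_le_mul_left _ hS
    _ = 2 * (Fintype.card F ^ n * Nat.card S) := by ring
    _ ≤ _ := Nat.mul_le_mul_left _ h8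

end Cfsg.Agent.H169.OddLower
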