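import Cfsg.Agent.H169.ExcNum
import Cfsg.Agent.H163.PG.Few
import Cfsg.Agent.H381.SzSpec
import Cfsg.Agent.H130.F4Graph
import Cfsg.Agent.H489.OutSpor
import Cfsg.Agent.S1163
import Cfsg.Agent.S2126
import Cfsg.Agent.S1069
import Cfsg.Agent.S1159
import Cfsg.Agent.S2127
import Cfsg.Agent.S1068
import Cfsg.Agent.S2128
import Cfsg.Agent.S1074

/-!
# `Has3Out` for the Suzuki and Ree groups, the Tits group
-/

set_option autoImplicit false

namespace Cfsg.Agent.H169.ExcRank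

open Cfsg Cfsg.Lie Cfsg.Agent.H163.PG Cfsg.Agent.H169.ExcNum

universe u

theorem not_dvd_of_ppd {r p f m j : ℕ} (h : ∀ j, r ∣ (p ^ f) ^ j - 1 ↔ m ∣ j) (hj : ¬ m ∣ j) :
    ¬ r ∣ (p ^ f) ^ j - 1 := fun h1 => hj ((h j).1 h1)

theorem dvd_pow_add_one {r q a : ℕ} (hr : r.Prime) (h : r ∣ q ^ (2 * a) - 1) (h' : ¬ r ∣ q ^ a - 1) :
    r ∣ q ^ a + 1 := by
  have h1 : q ^ (2 * a) - 1 = (q ^ a + 1) * (q ^ a - 1) := by
    rw [two_mul, pow_add]
    exact (Nat.mul_self_sub_mul_self_eq (q ^ a) 1 ▸ by rw [one_mul])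
  rw [h1] at h
  exact (hr.dvd_mul.1 h).resolve_right h'

theorem not_dvd_add_one {r q a b : ℕ} (h : ¬ r ∣ q ^ (2 * a) - 1) (hb : b = q ^ a + 1) : ¬ r ∣ b := by
  subst hb
  intro h1
  apply h
  have h2 : q ^ (2 * a) - 1 = (q ^ a + 1) * (q ^ a - 1) := by
    rw [two_mul, pow_add]
    exact (Nat.mul_self_sub_mul_self_eq (q ^ a) 1 ▸ by rw [one_mul])
  rw [h2]
  exact Dvd.dvd.mul_right h1 _

theorem not_dvd_self {r f : ℕ} (hf : 0 < f) (h : f < r) : ¬ r ∣ f := fun h1 =>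
  absurd (Nat.le_of_dvd hf h1) (by omega)

/-! ### Suzuki groups -/

open Cfsg.Agent.H381.SzSpec in
theorem suz {F : Type u} [Field F] [Fintype F] {m : ℕ} (hm : 1 ≤ m) (hF : Fintype.card F = 2 ^ (2 * m + 1)) :
    Has3Out ↥(Cfsg.Lie.Sz F (2 ^ (m + 1))) := by
  obtain ⟨r, hr, -, hr1, hr2, hr3, hr4⟩ := ppd (p := 2) (f := 2 * m + 1) (m := 1) Nat.prime_two (by omega) (by omega)
    (by omega)
  obtain ⟨s, hs, -, hs1, hs2, hs3, hs4⟩ := ppd (p := 2) (f := 2 * m + 1) (m := 4) Nat.prime_two (by omega) (by omega)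
    (by omega)
  have hcard := (Cfsg.Agent.S1163.result hm hF).1
  have hout := Cfsg.Agent.S2126.result hm hF
  have hrq : r ∣ 2 ^ (2 * m + 1) - 1 := by
    have := (hr4 1).2 dvd_rfl
    rwa [pow_one] at this
  have hsq : ¬ s ∣ 2 ^ (2 * m + 1) - 1 := by
    intro h
    have := (hs4 1).1 (by rwa [pow_one])
    omega
  have h2 : ∀ t : ℕ, t.Prime → 2 < t → ¬ Adj ↥(Cfsg.Lie.Sz F (2 ^ (m + 1))) 2 t := by
    rintro t ht h3 ⟨x, hx⟩
    rcases spec hm hF x with h | ⟨n, hn, h⟩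
    · rw [hx] at h
      have h4 : t ∣ 2 ^ 2 := (Dvd.intro_left 2 rfl).trans h
      have h5 := (Nat.prime_dvd_prime_iff_eq ht Nat.prime_two).1 (ht.dvd_of_dvd_pow h4)
      omega
    · rw [hx] at h
      exact ne_two hn ((Dvd.intro _ rfl).trans h) rfl
  refine ⟨2, r, s, Nat.prime_two, hr, hs, by omega, ?_, by omega, ?_, ?_, ?_, h2 r hr (by omega), ?_,
    h2 s hs (by omega), ?_, ?_, ?_⟩
  · rintro rfl
    exact hsq hrq
  · rw [hcard]
    exact Dvd.dvd.mul_right (Dvd.dvd.mul_right (dvd_pow (dvd_pow_self 2 (by omega)) (by norm_num)) _) _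
  · rw [hcard]
    exact Dvd.dvd.mul_right (Dvd.dvd.mul_left hrq _) _
  · rw [hcard]
    refine Dvd.dvd.mul_left (dvd_pow_add_one hs ((hs4 4).2 dvd_rfl) fun h => ?_) _
    have := (hs4 2).1 h
    omega
  · rintro ⟨x, hx⟩
    rcases spec hm hF x with h | ⟨n, hn, h⟩
    · rw [hx] at h
      have h4 : r ∣ 2 ^ 2 := (Dvd.intro _ rfl).trans h
      have h5 := (Nat.prime_dvd_prime_iff_eq hr Nat.prime_two).1 (hr.dvd_of_dvd_pow h4)
      omega
    · rw [hx] at h
      have h4 := Cfsg.Agent.H98.SzPartition.eq_of_prime_dvd (mem_one m) hn hr hrq ((Dvd.intro _ rfl).trans h)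
      exact hsq (by rw [h4]; exact (Dvd.intro_left _ rfl).trans h)
  · rw [hout]; omega
  · rw [hout]; exact not_dvd_self (by omega) (by omega)
  · rw [hout]; exact not_dvd_self (by omega) (by omega)

/-! ### Ree groups -/

theorem ree {K : Type u} [Field K] [Fintype K] {m : ℕ} (hm : 1 ≤ m) (hK : Fintype.card K = 3 ^ (2 * m + 1)) :
    Has3Out ↥(Cfsg.Lie.twistedG2 K (3 ^ m)) := by
  obtain ⟨r, hr, -, hr1, hr2, hr3, hr4⟩ := ppd (p := 3) (f := 2 * m + 1) (m := 1) Nat.prime_three (by omega) (by omega)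
    (by omega)
  obtain ⟨s, hs, -, hs1, hs2, hs3, hs4⟩ := ppd (p := 3) (f := 2 * m + 1) (m := 2) Nat.prime_three (by omega) (by omega)
    (by omega)
  obtain ⟨t, ht, -, ht1, ht2, ht3, ht4⟩ := ppd (p := 3) (f := 2 * m + 1) (m := 6) Nat.prime_three (by omega) (by omega)
    (by omega)
  have hcard := Cfsg.Agent.S1069.result hK
  have hout := Cfsg.Agent.S2127.result hm hK
  have hspec := Cfsg.Agent.S1159.result hm hK
  set q : ℕ := 3 ^ (2 * m + 1) with hq
  have hq1 : 1 ≤ q := Nat.one_le_pow _ _ (by norm_num)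
  have hr3' : 3 < r := by
    have h1 : r ≠ 3 := by
      rintro rfl
      exact hr2 (dvd_pow_self 3 (by omega))
    omega
  have hrq : r ∣ q - 1 := by
    have := (hr4 1).2 dvd_rfl
    rwa [pow_one] at this
  have hsq : s ∣ q ^ 2 - 1 := (hs4 2).2 dvd_rfl
  have hsq1 : ¬ s ∣ q - 1 := by
    intro h
    have := (hs4 1).1 (by rwa [pow_one])
    omega
  have hsq' : s ∣ q + 1 := by
    have := dvd_pow_add_one (q := q) (a := 1) hs hsq (by rwa [pow_one])
    rwa [pow_one] at this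
  have htq1 : ¬ t ∣ q - 1 := by
    intro h
    have := (ht4 1).1 (by rwa [pow_one])
    omega
  have htq2 : ¬ t ∣ q + 1 := not_dvd_add_one (a := 1) (q := q) (fun h => by
    have := (ht4 2).1 h
    omega) (by rw [pow_one])
  have htq3 : t ∣ q ^ 3 + 1 := dvd_pow_add_one ht ((ht4 6).2 dvd_rfl) fun h => by
    have := (ht4 3).1 h
    omega
  have hsdiv : ∀ d : ℕ, d ∣ (q + 1) / 2 → d ∣ q + 1 := fun d h => h.trans (by
    refine ⟨2, ?_⟩
    have h2 : Odd q := Odd.pow (by decide)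
    obtain ⟨k, hk⟩ := h2
    omega)
  -- `(q + 1)` and `q ^ 2 - q + 1`
  have hprod : (q - 3 ^ (m + 1) + 1) * (q + 3 ^ (m + 1) + 1) + q = q ^ 2 + 1 := by
    have h1 : 3 ^ (m + 1) ≤ q := Nat.pow_le_pow_right (by norm_num) (by omega)
    obtain ⟨c, hc⟩ : ∃ c, q = 3 ^ (m + 1) + c := ⟨q - 3 ^ (m + 1), by omega⟩
    have h2 : 3 ^ (m + 1) * 3 ^ (m + 1) = 3 * q := by
      rw [hq, ← pow_add]
      have : m + 1 + (m + 1) = (2 * m + 1) + 1 := by omega
      rw [this, pow_succ (3 : ℕ) (2 * m + 1), mul_comm]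
    have h3 : q - 3 ^ (m + 1) = c := by omega
    rw [h3]
    generalize 3 ^ (m + 1) = a at *
    have h4 : a * a = 3 * (a + c) := by rw [h2, hc]
    rw [hc]
    nlinarith [h4]
  -- a prime dividing one of the two factors and `q - 1` or `q + 1`
  have hsmall : ∀ z : ℕ, z.Prime → 3 < z →
      (z ∣ q - 3 ^ (m + 1) + 1 ∨ z ∣ q + 3 ^ (m + 1) + 1) → ¬ z ∣ q - 1 ∧ ¬ z ∣ q + 1 := by
    intro z hz h3 h
    have h4 : z ∣ q ^ 2 + 1 - q := by
      have h5 : q ^ 2 + 1 - q = (q - 3 ^ (m + 1) + 1) * (q + 3 ^ (m + 1) + 1) := by omega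
      rw [h5]
      rcases h with h | h
      · exact Dvd.dvd.mul_right h _
      · exact Dvd.dvd.mul_left h _
    have hqq : q ≤ q ^ 2 := Nat.le_self_pow (by norm_num) q
    constructor
    · intro h5
      -- `q ^ 2 + 1 - q = q (q - 1) + 1`
      have h6 : q ^ 2 + 1 - q = q * (q - 1) + 1 := by
        obtain ⟨c, hc⟩ : ∃ c, q = c + 1 := ⟨q - 1, by omega⟩
        rw [hc, Nat.add_sub_cancel]
        refine Nat.sub_eq_of_eq_add ?_
        ring
      rw [h6] at h4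
      have h7 := (Nat.dvd_add_right (Dvd.dvd.mul_left h5 q)).1 h4
      exact hz.one_lt.ne' (Nat.dvd_one.1 h7)
    · intro h5
      -- `(q + 1) q + 3 = q ^ 2 + 1 - q + 2 (q + 1)`
      have h6 : (q ^ 2 + 1 - q) + 2 * (q + 1) = q * (q + 1) + 3 := by
        obtain ⟨c, hc⟩ : ∃ c, q ^ 2 + 1 = c + q := ⟨q ^ 2 + 1 - q, by omega⟩
        have h7 : q ^ 2 + 1 - q = c := by omega
        rw [h7]
        nlinarith
      have h7 := dvd_add h4 (Dvd.dvd.mul_left h5 2)
      rw [h6] at h7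
      have h8 := (Nat.dvd_add_right (Dvd.dvd.mul_left h5 q)).1 h7
      have := Nat.le_of_dvd (by norm_num) h8
      omega
  -- exclusion
  have key : ∀ a b : ℕ, a.Prime → b.Prime → 3 < a → 3 < b → a ≠ b →
      Adj ↥(Cfsg.Lie.twistedG2 K (3 ^ m)) a b → (a ∣ q - 1 ∧ b ∣ q - 1) ∨ (a ∣ q + 1 ∧ b ∣ q + 1) ∨
        (¬ a ∣ q - 1 ∧ ¬ a ∣ q + 1 ∧ ¬ b ∣ q - 1 ∧ ¬ b ∣ q + 1) := by
    intro a b ha hb h3a h3b hne hadj
    have h1 := (hspec (a * b)).1 hadj
    rcases h1 with h | h | h | h | h | h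
    · have h2 : a ∣ 2 * 3 := (Dvd.intro _ rfl).trans h
      rcases ha.dvd_mul.1 h2 with h4 | h4
      · have := Nat.le_of_dvd (by norm_num) h4; omega
      · have := Nat.le_of_dvd (by norm_num) h4; omega
    · have h2 : a ∣ 3 ^ 2 := (Dvd.intro _ rfl).trans h
      have := Nat.le_of_dvd (by norm_num) (ha.dvd_of_dvd_pow h2)
      omega
    · exact Or.inl ⟨(Dvd.intro _ rfl).trans h, (Dvd.intro_left _ rfl).trans h⟩
    · exact Or.inr (Or.inl ⟨hsdiv _ ((Dvd.intro _ rfl).trans h), hsdiv _ ((Dvd.intro_left _ rfl).trans h)⟩)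
    · obtain ⟨h4, h5⟩ := hsmall a ha h3a (Or.inl ((Dvd.intro _ rfl).trans h))
      obtain ⟨h6, h7⟩ := hsmall b hb h3b (Or.inl ((Dvd.intro_left _ rfl).trans h))
      exact Or.inr (Or.inr ⟨h4, h5, h6, h7⟩)
    · obtain ⟨h4, h5⟩ := hsmall a ha h3a (Or.inr ((Dvd.intro _ rfl).trans h))
      obtain ⟨h6, h7⟩ := hsmall b hb h3b (Or.inr ((Dvd.intro_left _ rfl).trans h))
      exact Or.inr (Or.inr ⟨h4, h5, h6, h7⟩)
  have hrq' : ¬ r ∣ q + 1 := by
    intro h
    have h1 : r ∣ 2 := by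
      have h2 := (Nat.dvd_add_right hrq (c := 2)).1 (by
        have : q - 1 + 2 = q + 1 := by omega
        rwa [this])
      exact h2
    have := Nat.le_of_dvd (by norm_num) h1
    omega
  have nrs : r ≠ s := by
    rintro rfl
    exact hsq1 hrq
  have nst : s ≠ t := by
    rintro rfl
    exact htq2 hsq'
  have nrt : r ≠ t := by
    rintro rfl
    exact htq1 hrq
  refine mk_has3Out (f := 2 * m + 1) hr hs ht (by omega) (by omega) (by omega) (by omega) (by omega) (by omega)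
    (by omega) (by rw [hout]; exact Dvd.intro_left 6 rfl) nrs nst nrt ?_ ?_ ?_ ?_ ?_ ?_
  · rw [hcard]
    exact Dvd.dvd.mul_right (Dvd.dvd.mul_left hrq _) _
  · rw [hcard]
    refine Dvd.dvd.mul_left (hsq'.trans ?_) _
    have := Odd.nat_add_dvd_pow_add_pow q 1 (n := 3) (by decide)
    rwa [one_pow] at this
  · rw [hcard]
    exact Dvd.dvd.mul_left htq3 _
  · intro h
    rcases key r s hr hs (by omega) (by omega) nrs h with h1 | h1 | h1
    · exact hsq1 h1.2
    · exact hrq' h1.1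
    · exact h1.1 hrq
  · intro h
    rcases key s t hs ht (by omega) (by omega) nst h with h1 | h1 | h1
    · exact hsq1 h1.1
    · exact htq2 h1.2
    · exact h1.2.1 hsq'
  · intro h
    rcases key r t hr ht (by omega) (by omega) nrt h with h1 | h1 | h1
    · exact htq1 h1.2
    · exact hrq' h1.1
    · exact h1.1 hrq

/-! ### large Ree groups -/

theorem twF4_le (K : Type u) [Field K] (e : ℕ) : twistedF4 K e ≤ chevF4.group K := by
  have hD : Cfsg.Agent.ChevalleyStructure.Elts.InList chevF4 := by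
    unfold Cfsg.Agent.ChevalleyStructure.Elts.InList; simp
  unfold twistedF4 ChevalleyDatum.genSubgroup
  rw [Subgroup.closure_le]
  rintro g ⟨l, -, hg⟩
  rw [(Cfsg.Agent.ChevalleyStructure.Elts.eq_wordG_iff hD g l).2 hg]
  exact Cfsg.Agent.ChevalleyStructure.Elts.wordG_mem_group hD l

theorem twF4 {K : Type u} [Field K] [Fintype K] {m : ℕ} (hm : 1 ≤ m) (hK : Fintype.card K = 2 ^ (2 * m + 1)) :
    Has3Out ↥(Cfsg.Lie.twistedF4 K (2 ^ m)) := by
  obtain ⟨r, hr, -, hr1, hr2, hr3, hr4⟩ := ppd (p := 2) (f := 2 * m + 1) (m := 12) Nat.prime_two (by omega) (by omega)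
    (by omega)
  obtain ⟨s, hs, -, hs1, hs2, hs3, hs4⟩ := ppd (p := 2) (f := 2 * m + 1) (m := 6) Nat.prime_two (by omega) (by omega)
    (by omega)
  obtain ⟨t, ht, -, ht1, ht2, ht3, ht4⟩ := ppd (p := 2) (f := 2 * m + 1) (m := 4) Nat.prime_two (by omega) (by omega)
    (by omega)
  have hcard := Cfsg.Agent.S1068.result hK
  have hout := Cfsg.Agent.S2128.result hm hK
  have nrs : r ≠ s := by rintro rfl; rw [hr3] at hs3; omega
  have nst : s ≠ t := by rintro rfl; rw [hs3] at ht3; omega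
  have nrt : r ≠ t := by rintro rfl; rw [hr3] at ht3; omega
  have key : ∀ a b : ℕ, a.Prime → b.Prime → 2 < a → 2 < b → a ≠ b → ¬ a ∣ 2 ^ (2 * m + 1) → ¬ b ∣ 2 ^ (2 * m + 1) →
      orderOf ((2 ^ (2 * m + 1) : ℕ) : ZMod a) ∈ [1, 2, 3, 4, 6, 8, 12] →
      orderOf ((2 ^ (2 * m + 1) : ℕ) : ZMod b) ∈ [1, 2, 3, 4, 6, 8, 12] →
      Adj ↥(Cfsg.Lie.twistedF4 K (2 ^ m)) a b →
      H130.F4Graph.Adj (orderOf ((2 ^ (2 * m + 1) : ℕ) : ZMod a)) (orderOf ((2 ^ (2 * m + 1) : ℕ) : ZMod b)) := by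
    intro a b ha hb h2a h2b hab hna hnb hoa hob hadj
    rw [← hK] at hna hnb hoa hob ⊢
    rw [← H130.F4Graph.odd_iff ha hb hab (by omega) (by omega) hna hnb hoa hob]
    exact hadj.of_injective (Subgroup.inclusion (twF4_le K (2 ^ m))) (Subgroup.inclusion_injective _)
  refine mk_has3Out (f := 2 * m + 1) hr hs ht (by omega) (by omega) (by omega) (by omega) (by omega) (by omega)
    (by omega) (by rw [hout]; exact Dvd.intro_left 6 rfl) nrs nst nrt ?_ ?_ ?_ ?_ ?_ ?_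
  · rw [hcard]
    refine Dvd.dvd.mul_left (dvd_pow_add_one hr ((hr4 12).2 dvd_rfl) fun h => ?_) _
    have := (hr4 6).1 h
    omega
  · rw [hcard]
    refine Dvd.dvd.mul_right (Dvd.dvd.mul_right (Dvd.dvd.mul_left (dvd_pow_add_one hs ((hs4 6).2 dvd_rfl)
      fun h => ?_) _) _) _
    have := (hs4 3).1 h
    omega
  · rw [hcard]
    exact Dvd.dvd.mul_right (Dvd.dvd.mul_left ((ht4 4).2 dvd_rfl) _) _
  · intro h
    have h1 := key r s hr hs (by omega) (by omega) nrs hr2 hs2 (by rw [hr3]; decide) (by rw [hs3]; decide) h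
    rw [hr3, hs3] at h1
    revert h1
    decide
  · intro h
    have h1 := key s t hs ht (by omega) (by omega) nst hs2 ht2 (by rw [hs3]; decide) (by rw [ht3]; decide) h
    rw [hs3, ht3] at h1
    revert h1
    decide
  · intro h
    have h1 := key r t hr ht (by omega) (by omega) nrt hr2 ht2 (by rw [hr3]; decide) (by rw [ht3]; decide) h
    rw [hr3, ht3] at h1
    revert h1
    decide

/-! ### the Tits group -/

theorem tits.{a, b} {S : Type a} [Group S] [Finite S] (h : Lie.IsoTits S) : Goal.{a, b} S := by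
  obtain ⟨e⟩ := h
  have hcard : Nat.card S = 2 ^ 11 * 3 ^ 3 * 5 ^ 2 * 13 := by
    rw [Nat.card_congr e.toEquiv]
    exact Cfsg.Agent.S1074.result.2.2.2
  refine goal_of_primes {2, 3, 5, 13} (by decide) ?_ ?_
  · intro p hp h
    rw [hcard] at h
    simp only [Finset.mem_insert, Finset.mem_singleton]
    rcases hp.dvd_mul.1 h with h | h
    · rcases hp.dvd_mul.1 h with h | h
      · rcases hp.dvd_mul.1 h with h | h
        · exact Or.inl ((Nat.prime_dvd_prime_iff_eq hp Nat.prime_two).1 (hp.dvd_of_dvd_pow h))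
        · exact Or.inr (Or.inl ((Nat.prime_dvd_prime_iff_eq hp Nat.prime_three).1 (hp.dvd_of_dvd_pow h)))
      · exact Or.inr (Or.inr (Or.inl ((Nat.prime_dvd_prime_iff_eq hp (by norm_num)).1 (hp.dvd_of_dvd_pow h))))
    · exact Or.inr (Or.inr (Or.inr ((Nat.prime_dvd_prime_iff_eq hp (by norm_num)).1 h)))
  · intro p hp h
    have h1 := Cfsg.Agent.H489.card_out_tits (K := S) ⟨e⟩
    have h2 : 0 < Nat.card (Cfsg.Out S) := by
      have : Finite (MulAut S) := inferInstance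
      have : Finite (Cfsg.Out S) := inferInstance
      exact Nat.card_pos
    have h3 := Nat.le_of_dvd h2 h
    have := hp.two_le
    simp only [Finset.mem_insert, Finset.mem_singleton]
    omega

end Cfsg.Agent.H169.ExcRank
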