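import Cfsg.Agent.H149.Sp.Base
import Cfsg.Agent.H291.HeFive
import Cfsg.Agent.H478.SporHe

/-!
# `Has3Out` for `He`: the primes 5, 7, 17 (S2529)

An element of order 5 fixes 8 of the 2058 points, an element of order 7 fixes none, an element of order 17 fixes one.
-/

set_option autoImplicit false
set_option maxRecDepth 100000

namespace Cfsg.Agent.H169.HeRow

open Subgroup Cfsg Cfsg.Spor Cfsg.Spor.He Cfsg.Agent.SporadicB.HePerm Cfsg.Agent.FixBN.HeStab
open Cfsg.Agent.H58.HeOdd Cfsg.Agent.H291.HeFive Cfsg.Agent.H149.Sp Cfsg.Agent.H163.PG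

/-- all fixed points of the word are in the list -/
def chkFix (w : List Gen) (l : List ℕ) : Bool :=
  allBelow 2058 fun i => bif Nat.beq (act w i) i then l.any (Nat.beq i) else true

theorem f0 : chkFix x5 [257, 632, 966, 1103, 1456, 1801, 1809, 2057] = true := by decide +kernel

theorem f1 : chkFix y5 [515, 632, 892, 1103, 1839, 1845, 1875, 2057] = true := by decide +kernel

theorem f2 : chkFix (x5 ++ y5) [134, 465, 632, 1046, 1103, 1538, 1735, 2057] = true := by decide +kernel

theorem f3 : chkFix (pw x5 2 ++ y5) [632, 723, 1094, 1103, 1228, 1487, 1910, 2057] = true := by decide +kernel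

theorem f4 : chkFix (pw x5 3 ++ y5) [60, 254, 566, 632, 1052, 1103, 1615, 2057] = true := by decide +kernel

theorem f5 : chkFix (pw x5 4 ++ y5) [59, 474, 632, 1043, 1103, 1398, 1474, 2057] = true := by decide +kernel

theorem mem_of_chkFix {w : List Gen} {l : List ℕ} (h : chkFix w l = true) {i : Fin 2058} (hi : phi (wd w) i = i) :
    (i : ℕ) ∈ l := by
  have h1 := of_allBelow h i i.2
  have h2 : act w i = i := by rw [← phi_wd_apply, hi]
  rw [h2, show Nat.beq (i : ℕ) (i : ℕ) = true from Nat.beq_refl _] at h1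
  have h3 : (l.any (Nat.beq (i : ℕ))) = true := h1
  rw [List.any_eq_true] at h3
  obtain ⟨j, hj, hij⟩ := h3
  rw [Nat.eq_of_beq_eq_true hij]
  exact hj

/-- an element of order 17 has at most one fixed point -/
theorem fix_unique {x : Cfsg.Spor.He} (hx : orderOf x = 17) {i j : Fin 2058} (hi : phi x i = i) (hj : phi x j = j) :
    i = j := by
  have : Fact (Nat.Prime 17) := ⟨by norm_num⟩
  obtain ⟨g, hg⟩ := CpAutON.Gen.conj_into (p := 17) (by rw [card_he]; norm_num) H478.SporHe.orderOf_w17 hx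
  obtain ⟨k, hk⟩ := mem_zpowers_iff.1 hg
  have key : ∀ i : Fin 2058, phi x i = i → i = phi g ⟨1544, by norm_num⟩ := by
    intro i hi
    have h1 : phi (x ^ k) i = i := by
      rw [map_zpow]
      have h2 : phi x ∈ MulAction.stabilizer (Equiv.Perm (Fin 2058)) i := hi
      exact (MulAction.stabilizer (Equiv.Perm (Fin 2058)) i).zpow_mem h2 k
    have h2 : phi (wd H478.SporHe.w17) (phi g⁻¹ i) = phi g⁻¹ i := by
      rw [← Equiv.Perm.mul_apply, ← map_mul]
      have h3 : wd H478.SporHe.w17 * g⁻¹ = g⁻¹ * x ^ k := by rw [hk]; group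
      rw [h3, map_mul, Equiv.Perm.mul_apply, h1]
    have h3 := H478.SporHe.fix_of h2
    rw [← h3, ← Equiv.Perm.mul_apply, ← map_mul, mul_inv_cancel, map_one, Equiv.Perm.one_apply]
  rw [key i hi, key j hj]

/-- no element of order 7 or 17 commutes with `z`, unless `z = 1` -/
def F (z : Cfsg.Spor.He) : Prop :=
  z ^ 5 = 1 ∧ ∀ x : Cfsg.Spor.He, orderOf x = 7 ∨ orderOf x = 17 → x * z = z * x → z = 1

theorem F.pow {z : Cfsg.Spor.He} (h : F z) (n : ℕ) : F (z ^ n) := by
  refine ⟨by rw [← pow_mul, mul_comm, pow_mul, h.1, one_pow], fun x hx hxz => ?_⟩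
  by_cases hn : 5 ∣ n
  · obtain ⟨m, rfl⟩ := hn
    rw [pow_mul, h.1, one_pow]
  · have hc : Nat.Coprime 5 n := (Nat.Prime.coprime_iff_not_dvd (by norm_num)).2 hn
    obtain ⟨m, hm⟩ : ∃ m, (z ^ n) ^ m = z := by
      have h1 : Nat.Coprime n (orderOf z) := by
        have h2 : orderOf z ∣ 5 := orderOf_dvd_of_pow_eq_one h.1
        exact (hc.symm).coprime_dvd_right h2
      exact exists_pow_eq_self_of_coprime h1
    have h2 : x * z = z * x := by
      rw [← hm]
      exact (show Commute x (z ^ n) from hxz).pow_right m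
    rw [h.2 x hx h2, one_pow]

theorem F.conj {z : Cfsg.Spor.He} (h : F z) (g : Cfsg.Spor.He) : F (g * z * g⁻¹) := by
  refine ⟨by rw [conj_pow, h.1, mul_one, mul_inv_cancel], fun x hx hxz => ?_⟩
  have h1 : orderOf (g⁻¹ * x * g) = orderOf x := by
    have h1 := MulEquiv.orderOf_eq (MulAut.conj g⁻¹) x
    rw [← h1]
    congr 1
    change g⁻¹ * x * g = g⁻¹ * x * g⁻¹⁻¹
    rw [inv_inv]
  rw [← h1] at hx
  have h2 := h.2 _ hx (by
    calc g⁻¹ * x * g * z = g⁻¹ * (x * (g * z * g⁻¹)) * g := by group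
      _ = g⁻¹ * ((g * z * g⁻¹) * x) * g := by rw [hxz]
      _ = z * (g⁻¹ * x * g) := by group)
  rw [h2, mul_one, mul_inv_cancel]

/-- **the fixed points** -/
theorem F_of {w : List Gen} {l : List ℕ} (h : chkFix w l = true) (hl : l.length = 8) (h5 : wd w ^ 5 = 1) :
    F (wd w) := by
  classical
  refine ⟨h5, fun x hx hxw => ?_⟩
  exfalso
  have hf5 : Fact (Nat.Prime 5) := ⟨by norm_num⟩
  have hf7 : Fact (Nat.Prime 7) := ⟨by norm_num⟩
  have hle : Fintype.card {i : Fin 2058 // phi (wd w) i = i} ≤ 8 := by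
    rw [← hl]
    have h1 : Function.Injective (fun i : {i : Fin 2058 // phi (wd w) i = i} =>
        (⟨((i : Fin 2058) : ℕ), List.mem_toFinset.2 (mem_of_chkFix h i.2)⟩ : l.toFinset)) := by
      intro i j hij
      exact Subtype.ext (Fin.ext (congrArg Subtype.val hij))
    have h2 := Fintype.card_le_of_injective _ h1
    rw [Fintype.card_coe] at h2
    exact h2.trans (List.toFinset_card_le l)
  have h5' : Fintype.card {i : Fin 2058 // phi (wd w) i = i} % 5 = 3 := by
    have h1 := Equiv.Perm.card_fixedPoints_modEq (α := Fin 2058) (f := (phi (wd w) : Fin 2058 → Fin 2058)) (p := 5) (n := 1)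
      (by
        rw [pow_one]
        have h2 : phi (wd w) ^ 5 = 1 := by rw [← map_pow, h5, map_one]
        funext i
        have h3 := congrArg (fun σ : Equiv.Perm (Fin 2058) => σ i) h2
        exact h3)
    have h2 : Fintype.card (Function.fixedPoints (phi (wd w) : Fin 2058 → Fin 2058)) =
        Fintype.card {i : Fin 2058 // phi (wd w) i = i} := Fintype.card_congr (Equiv.refl _)
    rw [Fintype.card_fin, h2] at h1
    exact h1.symm
  have hstab : ∀ i : Fin 2058, phi (wd w) i = i → phi (wd w) (phi x i) = phi x i := by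
    intro i hi
    rw [← Equiv.Perm.mul_apply, ← map_mul, ← hxw, map_mul, Equiv.Perm.mul_apply, hi]
  have h7 : ∀ p : ℕ, p.Prime → orderOf x = p → ∃ f : {i : Fin 2058 // phi (wd w) i = i} →
      {i : Fin 2058 // phi (wd w) i = i}, (∀ i, ((f i : _) : Fin 2058) = phi x i) ∧
      Fintype.card {i : Fin 2058 // phi (wd w) i = i} ≡ Fintype.card (Function.fixedPoints f) [MOD p] := by
    intro p hp hxp
    have hfp' : Fact p.Prime := ⟨hp⟩
    let f : {i : Fin 2058 // phi (wd w) i = i} → {i : Fin 2058 // phi (wd w) i = i} :=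
      fun i => ⟨phi x i, hstab i i.2⟩
    have hfp : ∀ (n : ℕ) (i : {i : Fin 2058 // phi (wd w) i = i}), ((f^[n] i : _) : Fin 2058) = (phi x ^ n) i := by
      intro n
      induction n with
      | zero => intro i; rfl
      | succ n ih =>
        intro i
        rw [Function.iterate_succ_apply', pow_succ', Equiv.Perm.mul_apply, ← ih i]
    refine ⟨f, fun i => rfl, ?_⟩
    apply Equiv.Perm.card_fixedPoints_modEq (α := {i : Fin 2058 // phi (wd w) i = i}) (f := f) (p := p) (n := 1)
    rw [pow_one]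
    funext i
    apply Subtype.ext
    have h2 : (phi x) ^ p = 1 := by rw [← map_pow, ← hxp, pow_orderOf_eq_one, map_one]
    have h3 := hfp p i
    rw [h2] at h3
    exact h3
  rcases hx with hx | hx
  · obtain ⟨f, hf, hc⟩ := h7 7 (by norm_num) hx
    have h2 : Fintype.card (Function.fixedPoints f) = 0 := by
      rw [Fintype.card_eq_zero_iff]
      refine ⟨fun i => H478.SporHe.no_fix hx ((i : {i : Fin 2058 // phi (wd w) i = i}) : Fin 2058) ?_⟩
      rw [← hf]
      exact congrArg Subtype.val i.2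
    rw [h2, Nat.ModEq] at hc
    omega
  · obtain ⟨f, hf, hc⟩ := h7 17 (by norm_num) hx
    have h2 : Fintype.card (Function.fixedPoints f) ≤ 1 := by
      rw [Fintype.card_le_one_iff]
      intro i j
      apply Subtype.ext
      apply Subtype.ext
      refine fix_unique hx ?_ ?_
      · rw [← hf]
        exact congrArg Subtype.val i.2
      · rw [← hf]
        exact congrArg Subtype.val j.2
    have h3 : Fintype.card (Function.fixedPoints f) = 0 ∨ Fintype.card (Function.fixedPoints f) = 1 := by omega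
    rcases h3 with h3 | h3
    · rw [h3, Nat.ModEq] at hc
      omega
    · rw [h3, Nat.ModEq] at hc
      omega

theorem pow5 (a : ℕ) : ((wd x5 : Cfsg.Spor.He) ^ a * wd y5) ^ 5 = 1 := by
  obtain ⟨e1, e2, e3, -, -⟩ := rel
  have hc : Commute ((wd x5 : Cfsg.Spor.He) ^ a) (wd y5) := Commute.pow_left e3 a
  rw [hc.mul_pow, ← pow_mul, mul_comm a, pow_mul, e1, one_pow, one_mul, e2]

/-- the elements `x^i y^j` -/
theorem F_xy (i j : ℕ) (hi : i < 5) (hj : j < 5) : F ((wd x5 : Cfsg.Spor.He) ^ i * wd y5 ^ j) := by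
  obtain ⟨e1, e2, e3, -, -⟩ := rel
  have i0 := F_of f0 rfl e1
  have i1 := F_of f1 rfl e2
  have i2 := F_of f2 rfl (by rw [wd_app]; simpa using pow5 1)
  have i3 := F_of f3 rfl (by rw [wd_app, wd_pw]; exact pow5 2)
  have i4 := F_of f4 rfl (by rw [wd_app, wd_pw]; exact pow5 3)
  have i5 := F_of f5 rfl (by rw [wd_app, wd_pw]; exact pow5 4)
  rw [wd_app] at i2
  rw [wd_app, wd_pw] at i3 i4 i5
  have key : ∀ a b : ℕ, ((wd x5 : Cfsg.Spor.He) ^ a * wd y5) ^ b = wd x5 ^ (a * b) * wd y5 ^ b := by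
    intro a b
    have hc : Commute ((wd x5 : Cfsg.Spor.He) ^ a) (wd y5) := Commute.pow_left e3 a
    rw [hc.mul_pow, ← pow_mul]
  have red : ∀ a : ℕ, (wd x5 : Cfsg.Spor.He) ^ a = wd x5 ^ (a % 5) := by
    intro a
    conv_lhs => rw [← Nat.div_add_mod a 5, pow_add, pow_mul, e1, one_pow, one_mul]
  have all : ∀ a, a < 5 → ∀ b, 0 < b → F ((wd x5 : Cfsg.Spor.He) ^ ((a * b) % 5) * wd y5 ^ b) := by
    intro a ha b _
    rw [← red, ← key]
    apply F.pow
    interval_cases a
    · rw [pow_zero, one_mul]; exact i1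
    · rw [pow_one]; exact i2
    · exact i3
    · exact i4
    · exact i5
  rcases Nat.eq_zero_or_pos j with h0 | h0
  · subst h0
    rw [pow_zero, mul_one]
    exact i0.pow i
  · have hex : ∃ a < 5, (a * j) % 5 = i := by
      interval_cases j <;> interval_cases i <;> decide
    obtain ⟨a, ha, hij⟩ := hex
    have := all a ha j h0
    rwa [hij] at this

theorem F_P0 {z : Cfsg.Spor.He} (hz : z ∈ P0) : F z := by
  obtain ⟨i, j, rfl⟩ := hz
  obtain ⟨e1, e2, -, -, -⟩ := rel
  have hi : (wd x5 : Cfsg.Spor.He) ^ i = wd x5 ^ (i % 5) := by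
    conv_lhs => rw [← Nat.div_add_mod i 5, pow_add, pow_mul, e1, one_pow, one_mul]
  have hj : (wd y5 : Cfsg.Spor.He) ^ j = wd y5 ^ (j % 5) := by
    conv_lhs => rw [← Nat.div_add_mod j 5, pow_add, pow_mul, e2, one_pow, one_mul]
  rw [hi, hj]
  exact F_xy _ _ (Nat.mod_lt _ (by norm_num)) (Nat.mod_lt _ (by norm_num))

/-- **elements of order 5** -/
theorem F_five {w : Cfsg.Spor.He} (hw : w ^ 5 = 1) : F w := by
  have : Fact (Nat.Prime 5) := ⟨by norm_num⟩
  have hf : (Nat.card Cfsg.Spor.He).factorization 5 = 2 := by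
    rw [card_he, show (4030387200 : ℕ) = 5 ^ 2 * 161215488 by norm_num, Nat.factorization_mul (by norm_num) (by norm_num),
      Nat.Prime.factorization_pow (by norm_num)]
    simp [Nat.factorization_eq_zero_of_not_dvd (show ¬ 5 ∣ 161215488 by norm_num)]
  have hcard : Nat.card ↥P0 = 5 ^ (Nat.card Cfsg.Spor.He).factorization 5 := by
    rw [hf]
    obtain ⟨k, hk⟩ := IsPGroup.iff_card.1 isPGroup_P0
    have h1 : Nat.card ↥P0 ∣ Nat.card Cfsg.Spor.He := card_subgroup_dvd_card _
    rw [hk] at h1 ⊢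
    have h2 : k ≤ 2 := by
      by_contra h3
      have h4 : 5 ^ 3 ∣ Nat.card Cfsg.Spor.He := (pow_dvd_pow 5 (by omega)).trans h1
      rw [card_he] at h4
      norm_num at h4
    have h3 : 2 ≤ k := by
      have h4 := dvd_P0
      rw [hk, show (25 : ℕ) = 5 ^ 2 by norm_num] at h4
      exact (Nat.pow_dvd_pow_iff_le_right (by norm_num)).1 h4
    rw [show k = 2 by omega]
  let P : Sylow 5 Cfsg.Spor.He := Sylow.ofCard P0 hcard
  have h1 : IsPGroup 5 ↥(zpowers w) := by
    rw [IsPGroup.iff_card]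
    rw [Nat.card_zpowers]
    exact (Nat.dvd_prime_pow (by norm_num)).1 (by simpa using orderOf_dvd_of_pow_eq_one hw : orderOf w ∣ 5 ^ 1) |>.imp fun _ h => h.2
  obtain ⟨Q, hQ⟩ := h1.exists_le_sylow
  obtain ⟨g, hg⟩ := MulAction.exists_smul_eq Cfsg.Spor.He Q P
  have h2 : g * w * g⁻¹ ∈ P0 := by
    have h3 : g * w * g⁻¹ ∈ ((g • Q : Sylow 5 Cfsg.Spor.He) : Subgroup Cfsg.Spor.He) := by
      rw [Sylow.coe_subgroup_smul]
      exact ⟨w, hQ (mem_zpowers w), rfl⟩
    rw [hg] at h3
    exact h3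
  have h3 := (F_P0 h2).conj g⁻¹
  rwa [show g⁻¹ * (g * w * g⁻¹) * g⁻¹⁻¹ = w by group] at h3

/-- **`He`** -/
theorem has3Out_he {G : Type*} [Group G] [Finite G] (h : Spor.IsoHe G) (hs : IsSporadicGroup G) :
    Has3Out G := by
  have hN := NotCT.Orders.he h
  have key : ∀ p : ℕ, p = 7 ∨ p = 17 → ¬ Adj G 5 p := by
    intro p hp
    have hpp : p.Prime := by rcases hp with rfl | rfl <;> norm_num
    obtain ⟨e⟩ := h
    refine not_adj_of_not_comm (by norm_num) hpp fun x y hx hy hxy => ?_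
    have h1 : (e x) ^ 5 = 1 := by rw [← map_pow, ← hx, pow_orderOf_eq_one, map_one]
    have h2 := (F_five h1).2 (e y) (by rw [MulEquiv.orderOf_eq, hy]; exact hp) (by rw [← map_mul, ← hxy, map_mul])
    have h3 : x = 1 := e.injective (by rw [h2, map_one])
    rw [h3, orderOf_one] at hx
    norm_num at hx
  have h1 : ¬ Adj G 5 7 := key 7 (Or.inl rfl)
  have h2 : ¬ Adj G 7 17 := by
    obtain ⟨e⟩ := h
    refine not_adj_of_not_comm (by norm_num) (by norm_num) fun x y hx hy hxy => ?_
    refine H478.SporHe.no119 (x := e y) (y := e x) (by rw [MulEquiv.orderOf_eq, hy]) (by rw [MulEquiv.orderOf_eq, hx]) ?_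
    rw [← map_mul, ← hxy, map_mul]
  have h3 : ¬ Adj G 5 17 := key 17 (Or.inr rfl)
  exact has3Out_of_odd hs (p := 5) (q := 7) (r := 17) (by norm_num) (by norm_num) (by norm_num) (by norm_num)
    (by norm_num) (by norm_num) (by rw [hN]; norm_num) h1 h2 h3

end Cfsg.Agent.H169.HeRow
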