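import Cfsg.Agent.H149.Sp.Quot
import Cfsg.Agent.H149.Sp.Base
import Cfsg.Agent.H393.Iso.Ru
import Cfsg.Agent.H547.SelfCent.Ru
import Cfsg.Agent.Ru127.Y
import Cfsg.Agent.H514.OrdSz

/-!
# `Has3Out` for `Ru`: the primes 7, 13, 29 (S2529)
-/

set_option autoImplicit false

namespace Cfsg.Agent.H169.RuRow

open Subgroup Cfsg Cfsg.Agent.RuB Cfsg.Agent.H149.Sp Cfsg.Agent.H163.PG Cfsg.Agent.H393.Iso
open Eng (prodL okPair okGood okKs)

variable {G : Type*} [Group G] [Finite G]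

theorem false_cz (C : Core G) {p : ℕ} (hp : ¬ p ∣ 245760) {x : G} (hx : orderOf x = p)
    (h : x * C.z 1 = C.z 1 * x) : False :=
  not_comm_of_card (by rw [Ru127.Sg.card_cent C]; exact hp) hx h

theorem na_L (C : Core G) (hsz : Cfsg.Lie.IsoSuzuki ↥C.L) {p : ℕ} (hp : ¬ p ∣ 245760) : NA p ↥C.L := by
  intro x t hx ht hxt
  have hz : orderOf (⟨C.z 1, C.z_mem 1⟩ : ↥C.L) = 2 := by
    apply two_of_sq
    · exact Subtype.ext (C.z_sq 1)
    · intro h
      exact one_ne_zero (C.z_eq_one (congrArg Subtype.val h))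
  obtain ⟨k, hk⟩ := H514.OC.Sz.conj_two hsz hz ht
  have h1 : orderOf ((k⁻¹ * x * k : ↥C.L) : G) = p := by
    rw [orderOf_coe, ← hx]
    have h1 := orderOf_injective (MulAut.conj k⁻¹).toMonoidHom (MulAut.conj k⁻¹).injective x
    rw [← h1]
    congr 1
    change k⁻¹ * x * k = k⁻¹ * x * k⁻¹⁻¹
    rw [inv_inv]
  refine false_cz C hp h1 ?_
  have h2 : (⟨C.z 1, C.z_mem 1⟩ : ↥C.L) = k⁻¹ * t * k := by rw [← hk]; group
  have h3 : (k⁻¹ * x * k) * (⟨C.z 1, C.z_mem 1⟩ : ↥C.L) = ⟨C.z 1, C.z_mem 1⟩ * (k⁻¹ * x * k) := by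
    rw [h2]
    calc k⁻¹ * x * k * (k⁻¹ * t * k) = k⁻¹ * (x * t) * k := by group
      _ = k⁻¹ * (t * x) * k := by rw [hxt]
      _ = k⁻¹ * t * k * (k⁻¹ * x * k) := by group
  exact congrArg Subtype.val h3

/-- the elements of order 13 of `Sz(8)` -/
theorem card_L (C : Core G) (hsz : Cfsg.Lie.IsoSuzuki ↥C.L) [IsSimpleGroup ↥C.L] (hL : Nat.card ↥C.L = 29120) {y : ↥C.L}
    (hy : orderOf y = 13) : Nat.card (Eng.Cm y) = 13 ∧ Nat.card (Eng.Nm y) = 52 := by
  obtain ⟨c, k, hC, hN, hodd, hk, hk1, hi, -⟩ := Eng.single (G := ↥C.L) (s := 13) (by norm_num) (by rw [hL]; norm_num)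
    (by rw [hL]; norm_num) (na_L C hsz (by norm_num)) hy
  have h1 : c * k * (Eng.Nm y).index = 2240 := by
    have h2 := (Eng.Nm y).card_mul_index
    rw [hN, hL] at h2
    apply Nat.eq_of_mul_eq_mul_left (show 0 < 13 by norm_num)
    rw [← mul_assoc, ← mul_assoc, h2]
  have hkk : k ∈ [2, 3, 4, 6, 12] := Eng.okKs_spec (s := 13) (by decide) (by norm_num) hk hk1
  have h3 := Eng.okPair_spec (L := [(5, 1), (7, 1)]) (a := 6)
    (ks := [2, 3, 4, 6, 12]) (m := 13) (bad := fun c => c == 1) (by simp; norm_num)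
    (by decide +kernel) (by norm_num) (by decide +kernel) hodd hkk h1 hi
  have hc : c = 1 := by simpa using h3
  subst hc
  rw [hC, hN]
  refine ⟨rfl, ?_⟩
  rw [one_mul] at h1
  have h4 : k = 4 := by
    simp only [List.mem_cons, List.not_mem_nil, or_false] at hkk
    rcases hkk with rfl | rfl | rfl | rfl | rfl <;> omega
  rw [h4]

/-- the subgroup `V × S`, `S ≤ L` -/
def VS (C : Core G) (S : Subgroup ↥C.L) : Subgroup G where
  carrier := {g | ∃ b, ∃ l : ↥C.L, l ∈ S ∧ g = C.v b * (l : G)}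
  one_mem' := ⟨0, 1, S.one_mem, by rw [C.v_zero, one_mul]; rfl⟩
  mul_mem' := by
    rintro _ _ ⟨b, l, hl, rfl⟩ ⟨c, m, hm, rfl⟩
    refine ⟨b + c, l * m, S.mul_mem hl hm, ?_⟩
    rw [C.v_add, coe_mul]
    calc C.v b * (l : G) * (C.v c * (m : G)) = C.v b * ((l : G) * C.v c) * m := by group
      _ = C.v b * (C.v c * (l : G)) * m := by rw [C.v_comm c l l.2]
      _ = C.v b * C.v c * ((l : G) * m) := by group
  inv_mem' := by
    rintro _ ⟨b, l, hl, rfl⟩
    refine ⟨b, l⁻¹, S.inv_mem hl, ?_⟩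
    rw [mul_inv_rev, C.v_inv, coe_inv, C.v_comm b _ (inv_mem l.2)]

theorem mem_VS {C : Core G} {S : Subgroup ↥C.L} {g : G} :
    g ∈ VS C S ↔ ∃ b, ∃ l : ↥C.L, l ∈ S ∧ g = C.v b * (l : G) := Iff.rfl

theorem card_VS (C : Core G) (S : Subgroup ↥C.L) : Nat.card ↥(VS C S) = 4 * Nat.card S := by
  have h1 : Nat.card (A4 × S) = 4 * Nat.card S := by
    rw [Nat.card_prod, Nat.card_eq_fintype_card]
    rfl
  rw [← h1]
  symm
  refine Nat.card_congr (Equiv.ofBijective (fun p : A4 × S => (⟨C.v p.1 * ((p.2 : ↥C.L) : G),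
    p.1, p.2, p.2.2, rfl⟩ : ↥(VS C S))) ⟨?_, ?_⟩)
  · rintro ⟨a, l⟩ ⟨b, m⟩ h
    obtain ⟨h2, h3⟩ := C.vl_inj l.1.2 m.1.2 (congrArg Subtype.val h)
    rw [Prod.mk.injEq]
    exact ⟨h2, Subtype.ext (Subtype.ext h3)⟩
  · rintro ⟨_, b, l, hl, rfl⟩
    exact ⟨(b, ⟨l, hl⟩), rfl⟩

theorem v_pow_odd (C : Core G) (b : A4) {n : ℕ} (hn : Odd n) : C.v b ^ n = C.v b := by
  obtain ⟨m, rfl⟩ := hn
  rw [pow_succ, pow_mul, pow_two, C.v_sq, one_pow, one_mul]

/-- elements of odd order commuting with `v a` are in `L` -/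
theorem mem_L (C : Core G) {a : A4} (ha : a ≠ 0) {y : G} {n : ℕ} (hn : Odd n) (hy : orderOf y = n)
    (h : y * C.v a = C.v a * y) : y ∈ C.L := by
  obtain ⟨b, l, hl, rfl⟩ := C.cent a ha y h
  have h1 : Commute (C.v b) l := C.v_comm b l hl
  have h2 : (C.v b * l) ^ n = 1 := by rw [← hy, pow_orderOf_eq_one]
  rw [h1.mul_pow, v_pow_odd C b hn] at h2
  have h3 : b = 0 := C.v_notin b (by
    rw [eq_inv_of_mul_eq_one_left h2]
    exact inv_mem (pow_mem hl n))
  rw [h3, C.v_zero, one_mul]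
  exact hl

theorem cm_inf_v (C : Core G) {a : A4} (ha : a ≠ 0) (y : ↥C.L) :
    Eng.Cm (y : G) ⊓ Eng.Cm (C.v a) = VS C (Eng.Cm y) := by
  ext g
  rw [mem_inf, mem_cent, mem_cent, mem_VS]
  constructor
  · rintro ⟨h1, h2⟩
    obtain ⟨b, l, hl, rfl⟩ := C.cent a ha g h2
    refine ⟨b, ⟨l, hl⟩, mem_cent.2 (Subtype.ext ?_), rfl⟩
    have h3 : C.v b * (l * (y : G)) = C.v b * ((y : G) * l) := by
      calc C.v b * (l * (y : G)) = C.v b * l * (y : G) := by group
        _ = (y : G) * (C.v b * l) := h1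
        _ = ((y : G) * C.v b) * l := by group
        _ = (C.v b * (y : G)) * l := by rw [C.v_comm b y y.2]
        _ = C.v b * ((y : G) * l) := by group
    exact mul_left_cancel h3
  · rintro ⟨b, l, hl, rfl⟩
    have h1 : (l : G) * (y : G) = (y : G) * (l : G) := congrArg Subtype.val (mem_cent.1 hl)
    constructor
    · calc C.v b * (l : G) * (y : G) = C.v b * ((l : G) * (y : G)) := by group
        _ = C.v b * ((y : G) * (l : G)) := by rw [h1]
        _ = (C.v b * (y : G)) * l := by group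
        _ = (y : G) * C.v b * l := by rw [C.v_comm b y y.2]
        _ = (y : G) * (C.v b * (l : G)) := by group
    · calc C.v b * (l : G) * C.v a = C.v b * ((l : G) * C.v a) := by group
        _ = C.v b * (C.v a * (l : G)) := by rw [C.v_comm a l l.2]
        _ = (C.v b * C.v a) * l := by group
        _ = C.v a * C.v b * l := by rw [C.v_v_comm]
        _ = C.v a * (C.v b * (l : G)) := by group

/-- **the common centralizer** of an element of order 13 and an involution -/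
theorem card_inter (C : Core G) (hsz : Cfsg.Lie.IsoSuzuki ↥C.L) [IsSimpleGroup ↥C.L] (hL : Nat.card ↥C.L = 29120)
    {y t : G} (hy : orderOf y = 13) (ht : orderOf t = 2) (hyt : y * t = t * y) :
    Nat.card ↥(Eng.Cm y ⊓ Eng.Cm t) = 52 := by
  rcases KFacts.Ru.InvC.invol_cases C (sq_of_two ht) (ne_one_of_two ht) with ⟨g, hg⟩ | ⟨g, a, ha, hg⟩
  · exfalso
    have h1 : orderOf (g⁻¹ * y * g) = 13 := by
      rw [← hy]
      have h1 := orderOf_injective (MulAut.conj g⁻¹).toMonoidHom (MulAut.conj g⁻¹).injective y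
      rw [← h1]
      congr 1
      change g⁻¹ * y * g = g⁻¹ * y * g⁻¹⁻¹
      rw [inv_inv]
    refine false_cz C (p := 13) (by norm_num) h1 ?_
    have h2 : C.z 1 = g⁻¹ * t * g := by rw [← hg]; group
    rw [h2]
    calc g⁻¹ * y * g * (g⁻¹ * t * g) = g⁻¹ * (y * t) * g := by group
      _ = g⁻¹ * (t * y) * g := by rw [hyt]
      _ = g⁻¹ * t * g * (g⁻¹ * y * g) := by group
  · have h2 : C.v a = g⁻¹ * t * g := by rw [← hg]; group
    have h1 : orderOf (g⁻¹ * y * g) = 13 := by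
      rw [← hy]
      have h1 := orderOf_injective (MulAut.conj g⁻¹).toMonoidHom (MulAut.conj g⁻¹).injective y
      rw [← h1]
      congr 1
      change g⁻¹ * y * g = g⁻¹ * y * g⁻¹⁻¹
      rw [inv_inv]
    have h3 : (g⁻¹ * y * g) * C.v a = C.v a * (g⁻¹ * y * g) := by
      rw [h2]
      calc g⁻¹ * y * g * (g⁻¹ * t * g) = g⁻¹ * (y * t) * g := by group
        _ = g⁻¹ * (t * y) * g := by rw [hyt]
        _ = g⁻¹ * t * g * (g⁻¹ * y * g) := by group
    have h4 : g⁻¹ * y * g ∈ C.L := mem_L C ha (n := 13) (by decide) h1 h3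
    have h5 := cm_inf_v C ha ⟨_, h4⟩
    have h6 : Nat.card ↥(Eng.Cm (g⁻¹ * y * g) ⊓ Eng.Cm (C.v a)) = 52 := by
      rw [h5, card_VS, (card_L C hsz hL (by rw [← orderOf_coe]; exact h1)).1]
    rw [← h6]
    refine Nat.card_congr (((MulAut.conj g⁻¹).toEquiv).subtypeEquiv fun x => ?_)
    rw [mem_inf, mem_inf, mem_cent, mem_cent, mem_cent, mem_cent]
    have key : ∀ w : G, x * w = w * x ↔ (MulAut.conj g⁻¹).toEquiv x * (g⁻¹ * w * g) =
        (g⁻¹ * w * g) * (MulAut.conj g⁻¹).toEquiv x := by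
      intro w
      have h7 : (MulAut.conj g⁻¹).toEquiv x = g⁻¹ * x * g := by
        change g⁻¹ * x * g⁻¹⁻¹ = _
        rw [inv_inv]
      rw [h7]
      constructor
      · intro h
        calc g⁻¹ * x * g * (g⁻¹ * w * g) = g⁻¹ * (x * w) * g := by group
          _ = g⁻¹ * (w * x) * g := by rw [h]
          _ = g⁻¹ * w * g * (g⁻¹ * x * g) := by group
      · intro h
        calc x * w = g * (g⁻¹ * x * g * (g⁻¹ * w * g)) * g⁻¹ := by group
          _ = g * (g⁻¹ * w * g * (g⁻¹ * x * g)) * g⁻¹ := by rw [h]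
          _ = w * x := by group
    rw [← key y, h2, ← key t]

/-- an element of order 7 normalizing a group of order 4 centralizes it -/
theorem comm_of_seven {K : Type*} [Group K] [Finite K] {w : K} (hw : orderOf w = 7) (Q : Subgroup K)
    (hQ : Nat.card Q = 4) (hn : w ∈ normalizer (Q : Set K)) {x : K} (hx : x ∈ Q) : x * w = w * x := by
  have h1 : (MulAut.toPerm ↥Q (Q.normalizerMonoidHom ⟨w, hn⟩)) = 1 := by
    rw [← orderOf_eq_one_iff]
    have h2 : orderOf (MulAut.toPerm ↥Q (Q.normalizerMonoidHom ⟨w, hn⟩)) ∣ 7 := by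
      have h3 : orderOf (⟨w, hn⟩ : ↥(normalizer (Q : Set K))) = 7 := by rw [← hw, ← orderOf_coe]
      rw [← h3]
      exact orderOf_map_dvd ((MulAut.toPerm ↥Q).comp Q.normalizerMonoidHom) _
    have h4 : orderOf (MulAut.toPerm ↥Q (Q.normalizerMonoidHom ⟨w, hn⟩)) ∣ 24 := by
      have h5 : Nat.card (Equiv.Perm ↥Q) = 24 := by
        rw [Nat.card_perm, hQ]
        rfl
      rw [← h5]
      exact orderOf_dvd_natCard _
    exact Nat.dvd_one.1 ((Nat.dvd_gcd h2 h4).trans (by decide))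
  have h2 := congrArg Subtype.val (Equiv.congr_fun h1 ⟨x, hx⟩)
  have h3 : w * x * w⁻¹ = x := h2
  rw [mul_inv_eq_iff_eq_mul] at h3
  exact h3.symm

theorem exists_a : ∃ a : A4, a ≠ 0 := ⟨(1, 0), by decide⟩

/-- **the centralizer of an element of order 13** -/
theorem card_cy (C : Core G) (hsz : Cfsg.Lie.IsoSuzuki ↥C.L) [IsSimpleGroup ↥C.L] (hL : Nat.card ↥C.L = 29120)
    (hG : Nat.card G = 145926144000) {y : ↥C.L} (hy : orderOf y = 13) :
    ∃ m k, Nat.card (Eng.Cm (y : G)) = 13 * (4 * m) ∧ Odd m ∧ Nat.card (Eng.Nm (y : G)) = 13 * (4 * m) * k ∧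
      4 ∣ k ∧ k ∣ 12 ∧ (Eng.Nm (y : G)).index % 13 = 1 := by
  have hf2 : Fact (Nat.Prime 2) := ⟨Nat.prime_two⟩
  have hyG : orderOf (y : G) = 13 := by rw [orderOf_coe, hy]
  obtain ⟨k, hk, hN⟩ := Eng.card_nm (s := 13) (by norm_num) hyG
  obtain ⟨a, ha⟩ := exists_a
  have hva : orderOf (C.v a) = 2 := two_of_sq (C.v_sq a) (fun h => ha (C.v_eq_one h))
  have hL1 := card_L C hsz hL hy
  -- 52 divides
  have h52 : 52 ∣ Nat.card (Eng.Cm (y : G)) := by
    have h1 := cm_inf_v C ha y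
    have h2 : Nat.card ↥(Eng.Cm (y : G) ⊓ Eng.Cm (C.v a)) = 52 := by
      rw [h1, card_VS, hL1.1]
    rw [← h2]
    exact card_dvd_of_le inf_le_left
  -- 8 does not divide
  have h8 : ¬ 8 ∣ Nat.card (Eng.Cm (y : G)) := by
    intro h8
    obtain ⟨P⟩ : Nonempty (Sylow 2 ↥(Eng.Cm (y : G))) := inferInstance
    have h1 : 2 ^ 3 ∣ Nat.card (P : Subgroup ↥(Eng.Cm (y : G))) :=
      P.pow_dvd_card_of_pow_dvd_card (by norm_num; exact h8)
    have hnt : Nontrivial (P : Subgroup ↥(Eng.Cm (y : G))) := by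
      rw [← Finite.one_lt_card_iff_nontrivial]
      exact lt_of_lt_of_le (by norm_num) (Nat.le_of_dvd Nat.card_pos h1)
    have hcn := P.2.center_nontrivial
    obtain ⟨z, hz⟩ : ∃ z : center (P : Subgroup ↥(Eng.Cm (y : G))), orderOf z = 2 := by
      apply exists_prime_orderOf_dvd_card' 2
      obtain ⟨n, hn⟩ := IsPGroup.iff_card.1 (P.2.to_subgroup (center _))
      rw [hn]
      apply dvd_pow_self
      rintro rfl
      rw [pow_zero] at hn
      have := Finite.one_lt_card_iff_nontrivial.2 hcn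
      omega
    set t : G := (((z : (P : Subgroup ↥(Eng.Cm (y : G)))) : ↥(Eng.Cm (y : G))) : G) with ht
    have ht2 : orderOf t = 2 := by
      rw [ht, orderOf_coe, orderOf_coe, orderOf_coe, hz]
    have hty : (y : G) * t = t * y := (mem_cent.1 ((z : (P : Subgroup ↥(Eng.Cm (y : G)))) : ↥(Eng.Cm (y : G))).2).symm
    have h2 := card_inter C hsz hL hyG ht2 hty
    have h3 : (P : Subgroup ↥(Eng.Cm (y : G))).map (Eng.Cm (y : G)).subtype ≤ Eng.Cm (y : G) ⊓ Eng.Cm t := by
      rintro _ ⟨p, hp, rfl⟩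
      refine mem_inf.2 ⟨p.2, mem_cent.2 ?_⟩
      have h4 := mem_center_iff.1 z.2 ⟨p, hp⟩
      exact congrArg (fun q : (P : Subgroup ↥(Eng.Cm (y : G))) => ((q : ↥(Eng.Cm (y : G))) : G)) h4
    have h4 := card_dvd_of_le h3
    rw [h2, card_map_of_injective (Eng.Cm (y : G)).subtype_injective] at h4
    exact absurd (h1.trans h4) (by norm_num)
  -- 16 divides the order of the normalizer
  have h16 : 16 ∣ Nat.card (Eng.Nm (y : G)) := by
    have h1 : VS C (Eng.Nm y) ≤ Eng.Nm (y : G) := by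
      rintro _ ⟨b, l, hl, rfl⟩
      refine mul_mem (Eng.cm_le_nm _ (mem_cent.2 (C.v_comm b y y.2))) (Eng.mem_nm_of ?_)
      have h2 := (Eng.mem_nm.1 hl y).1 (mem_zpowers y)
      obtain ⟨n, hn⟩ := mem_zpowers_iff.1 h2
      exact mem_zpowers_iff.2 ⟨n, congrArg Subtype.val hn⟩
    have h2 := card_dvd_of_le h1
    rw [card_VS, hL1.2] at h2
    exact Dvd.dvd.trans (by norm_num) h2
  obtain ⟨m, hm⟩ := h52
  have hmo : Odd m := by
    rw [← Nat.not_even_iff_odd]
    rintro ⟨m', rfl⟩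
    apply h8
    rw [hm]
    exact ⟨13 * m', by ring⟩
  refine ⟨m, k, by rw [hm]; ring, hmo, by rw [hN, hm]; ring, ?_, hk, ?_⟩
  · rw [hN, hm] at h16
    have h5 : 4 * 4 ∣ 4 * (m * 13 * k) := by
      refine Dvd.dvd.trans (by norm_num) (h16.trans (Dvd.intro 1 ?_))
      ring
    have h6 : 4 ∣ m * 13 * k := Nat.dvd_of_mul_dvd_mul_left (by norm_num) h5
    have h7 : Nat.Coprime 4 (m * 13) := by
      have h8 : Odd (m * 13) := hmo.mul (by decide)
      exact Nat.Coprime.pow_left 2 (Nat.coprime_two_left.2 h8)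
    exact h7.dvd_of_dvd_mul_left h6
  · exact Eng.index_nm_mod (by norm_num) (by rw [hG]; norm_num) hyG

/-- **7 and 13 are not adjacent** -/
theorem not_comm (C : Core G) (hsz : Cfsg.Lie.IsoSuzuki ↥C.L) [IsSimpleGroup ↥C.L] (hL : Nat.card ↥C.L = 29120)
    (hG : Nat.card G = 145926144000) {y : ↥C.L} (hy : orderOf y = 13) (h7 : 7 ∣ Nat.card (Eng.Cm (y : G))) : False := by
  have hf2 : Fact (Nat.Prime 2) := ⟨Nat.prime_two⟩
  have hf7 : Fact (Nat.Prime 7) := ⟨by norm_num⟩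
  have hyG : orderOf (y : G) = 13 := by rw [orderOf_coe, hy]
  obtain ⟨m, k, hC, hmo, hN, hk4, hk12, hi⟩ := card_cy C hsz hL hG hy
  -- the numbers
  have hm7 : 7 ∣ m := by
    rw [hC] at h7
    exact (Nat.Coprime.dvd_of_dvd_mul_left (by norm_num) (Nat.Coprime.dvd_of_dvd_mul_left (by norm_num) h7))
  have h1 : m * k * (Eng.Nm (y : G)).index = 2806272000 := by
    have h2 := (Eng.Nm (y : G)).card_mul_index
    rw [hN, hG] at h2
    apply Nat.eq_of_mul_eq_mul_left (show 0 < 52 by norm_num)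
    rw [show 52 * 2806272000 = 145926144000 by norm_num, ← h2]
    ring
  have hkk : k ∈ [4, 12] := by
    obtain ⟨k', rfl⟩ := hk4
    have h3 : k' ∣ 3 := Nat.dvd_of_mul_dvd_mul_left (show 0 < 4 by norm_num) hk12
    rcases (Nat.dvd_prime (by norm_num)).1 h3 with rfl | rfl <;> simp
  have h3 := Eng.okPair_spec (L := [(3, 3), (5, 3), (7, 1), (29, 1)]) (a := 12)
    (ks := [4, 12]) (m := 13) (bad := fun m => m % 7 != 0 || m == 105 || m == 315 || m == 1015 || m == 3045)
    (by simp; norm_num) (by decide +kernel) (by norm_num) (by decide +kernel) hmo hkk h1 hi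
  -- an element of order 7
  obtain ⟨x, hx⟩ := exists_prime_orderOf_dvd_card' (G := ↥(Eng.Cm (y : G))) 7 h7
  have h49 : ¬ 7 ^ 2 ∣ Nat.card ↥(Eng.Cm (y : G)) := fun h => by
    have h4 := h.trans (card_subgroup_dvd_card _)
    rw [hG] at h4
    exact absurd h4 (by norm_num)
  have hi7 := Eng.index_nm_mod (s := 7) (by norm_num) h49 hx
  obtain ⟨j, hj, hNx⟩ := Eng.card_nm (s := 7) (by norm_num) hx
  -- no involution commutes with `x`
  have hno : ∀ w t : ↥(Eng.Cm (y : G)), orderOf w = 7 → orderOf t = 2 → t * w = w * t → False := by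
    intro w t hw ht htx
    have h4 := card_inter C hsz hL hyG (t := (t : G)) (by rw [orderOf_coe, ht]) (mem_cent.1 t.2).symm
    have h5 : (w : G) ∈ Eng.Cm (y : G) ⊓ Eng.Cm (t : G) :=
      mem_inf.2 ⟨w.2, mem_cent.2 (congrArg Subtype.val htx).symm⟩
    have h6 : orderOf (⟨(w : G), h5⟩ : ↥(Eng.Cm (y : G) ⊓ Eng.Cm (t : G))) = 7 := by
      rw [← hw, ← orderOf_coe, ← orderOf_coe w]
    have h8 := orderOf_dvd_natCard (⟨(w : G), h5⟩ : ↥(Eng.Cm (y : G) ⊓ Eng.Cm (t : G)))
    rw [h6, h4] at h8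
    exact absurd h8 (by norm_num)
  have hodd : Odd (Nat.card (Eng.Cm x)) := by
    rw [← Nat.not_even_iff_odd, even_iff_two_dvd]
    intro h
    obtain ⟨t, ht⟩ := exists_prime_orderOf_dvd_card' 2 h
    exact hno x t hx (by rw [orderOf_coe, ht]) (mem_cent.1 t.2)
  -- 91 divides the order of the centralizer
  have h91 : 91 ∣ Nat.card (Eng.Cm x) := by
    have h5 : 7 ∣ Nat.card (Eng.Cm x) := by
      have h6 : orderOf (⟨x, mem_cent.2 rfl⟩ : Eng.Cm x) = 7 := by rw [← hx, ← orderOf_coe]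
      exact h6 ▸ orderOf_dvd_natCard _
    have h6 : 13 ∣ Nat.card (Eng.Cm x) := by
      have h8 : orderOf (⟨⟨(y : G), mem_cent.2 rfl⟩, mem_cent.2 (Subtype.ext (mem_cent.1 x.2).symm)⟩ : Eng.Cm x) = 13 := by
        rw [← hyG, ← orderOf_coe, ← orderOf_coe]
      exact h8 ▸ orderOf_dvd_natCard _
    exact Nat.Coprime.mul_dvd_of_dvd_of_dvd (by norm_num : Nat.Coprime 7 13) h5 h6
  obtain ⟨c, hc⟩ := h91
  have hco : Odd c := (Nat.odd_mul.1 (hc ▸ hodd)).2
  have hjj : j ∈ [1, 2, 3, 6] := by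
    have h4 : j ≤ 6 := Nat.le_of_dvd (by norm_num) hj
    interval_cases j <;> first | (simp; done) | (exfalso; omega)
  have h5 : c * j * (Eng.Nm x).index * 7 = 4 * m := by
    have h6 := (Eng.Nm x).card_mul_index
    rw [hNx, hc, hC] at h6
    apply Nat.eq_of_mul_eq_mul_left (show 0 < 13 by norm_num)
    rw [← h6]
    ring
  have hcases : (m = 105 ∨ m = 1015 ∨ m = 3045) ∨ m = 315 := by
    simp only [Bool.or_eq_true, bne_iff_ne, ne_eq, beq_iff_eq] at h3
    rcases h3 with (((h3 | h3) | h3) | h3) | h3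
    · exact absurd (Nat.mod_eq_zero_of_dvd hm7) h3
    · exact Or.inl (Or.inl h3)
    · exact Or.inr h3
    · exact Or.inl (Or.inr (Or.inl h3))
    · exact Or.inl (Or.inr (Or.inr h3))
  rcases hcases with hm | hm
  · rcases hm with rfl | rfl | rfl
    · have h6 := Eng.okPair_spec (M := 60) (L := [(3, 1), (5, 1)]) (a := 2) (ks := [1, 2, 3, 6]) (m := 7)
        (bad := fun _ => false) (by simp; norm_num) (by decide +kernel) (by norm_num) (by decide +kernel) hco hjj
        (by omega) hi7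
      exact absurd h6 (by decide)
    · have h6 := Eng.okPair_spec (M := 580) (L := [(5, 1), (29, 1)]) (a := 2) (ks := [1, 2, 3, 6]) (m := 7)
        (bad := fun _ => false) (by simp; norm_num) (by decide +kernel) (by norm_num) (by decide +kernel) hco hjj
        (by omega) hi7
      exact absurd h6 (by decide)
    · have h6 := Eng.okPair_spec (M := 1740) (L := [(3, 1), (5, 1), (29, 1)]) (a := 2) (ks := [1, 2, 3, 6]) (m := 7)
        (bad := fun _ => false) (by simp; norm_num) (by decide +kernel) (by norm_num) (by decide +kernel) hco hjj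
        (by omega) hi7
      exact absurd h6 (by decide)
  · subst hm
    have h6 := Eng.okPair_spec (M := 180) (L := [(3, 2), (5, 1)]) (a := 2) (ks := [1, 2, 3, 6]) (m := 7)
      (bad := fun c => c == 5) (by simp; norm_num) (by decide +kernel) (by norm_num) (by decide +kernel) hco hjj
      (by omega) hi7
    have hc5 : c = 5 := by simpa using h6
    subst hc5
    have hj1 : j = 1 := by
      simp only [List.mem_cons, List.not_mem_nil, or_false] at hjj
      rcases hjj with rfl | rfl | rfl | rfl <;> omega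
    rw [hj1, mul_one] at hNx
    have hNC : Eng.Nm x = Eng.Cm x := (eq_of_le_of_card_ge (Eng.cm_le_nm x) hNx.le).symm
    -- Burnside
    obtain ⟨P, hP⟩ := Eng.exists_sylow (s := 7) (by norm_num) h49 hx
    have hPN : normalizer (P : Set ↥(Eng.Cm (y : G))) ≤ centralizer (P : Set ↥(Eng.Cm (y : G))) := by
      have h3 : (P : Set ↥(Eng.Cm (y : G))) = ((zpowers x : Subgroup ↥(Eng.Cm (y : G))) : Set ↥(Eng.Cm (y : G))) := by
        rw [← hP]; rfl
      rw [h3, Eng.cent_zpowers]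
      exact hNC.le
    have h4 := MonoidHom.ker_transferSylow_isComplement' P hPN
    set K := (MonoidHom.transferSylow P hPN).ker with hK
    have h7' := h4.card_mul_card
    have hKi : K.index = 7 := by
      have h8 := K.card_mul_index
      rw [← h7', hP, Nat.card_zpowers, hx] at h8
      exact Nat.eq_of_mul_eq_mul_left Nat.card_pos h8
    -- Frattini
    obtain ⟨Q⟩ : Nonempty (Sylow 2 K) := inferInstance
    have h8 := Sylow.normalizer_sup_eq_top Q
    set R : Subgroup ↥(Eng.Cm (y : G)) := (Q : Subgroup K).map K.subtype with hR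
    have h9 : 7 ∣ Nat.card (normalizer (R : Set ↥(Eng.Cm (y : G)))) := by
      have h10 : K.relIndex (normalizer (R : Set ↥(Eng.Cm (y : G)))) = 7 := by
        rw [← relIndex_sup_right, h8, relIndex_top_right, hKi]
      rw [← h10]
      exact (K.subgroupOf _).index_dvd_card
    obtain ⟨w, hw⟩ := exists_prime_orderOf_dvd_card' 7 h9
    have hw7 : orderOf (w : ↥(Eng.Cm (y : G))) = 7 := by rw [orderOf_coe, hw]
    -- the order of `Q`
    have hR4 : Nat.card R = 4 := by
      have h11 : Nat.card K * 7 = 13 * (4 * 315) := by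
        rw [← hC, ← hKi]
        exact K.card_mul_index
      have h12 : Nat.card K = 2 ^ 2 * 585 := by omega
      rw [hR, card_map_of_injective K.subtype_injective]
      obtain ⟨n, hn⟩ := IsPGroup.iff_card.1 Q.2
      have h13 : 2 ^ 2 ∣ Nat.card (Q : Subgroup K) :=
        Q.pow_dvd_card_of_pow_dvd_card (by rw [h12]; exact dvd_mul_right _ _)
      have h14 : Nat.card (Q : Subgroup K) ∣ 2 ^ 2 * 585 := h12 ▸ card_subgroup_dvd_card _
      rw [hn] at h13 h14 ⊢
      have h15 : 2 ≤ n := (Nat.pow_dvd_pow_iff_le_right (by norm_num)).1 h13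
      have h16 : n < 3 := by
        by_contra h17
        push Not at h17
        exact absurd ((pow_dvd_pow 2 h17).trans h14) (by norm_num)
      have h17 : n = 2 := by omega
      rw [h17]
      norm_num
    obtain ⟨t, ht⟩ := exists_prime_orderOf_dvd_card' (G := R) 2 (by rw [hR4]; norm_num)
    exact hno w t hw7 (by rw [orderOf_coe, ht]) (comm_of_seven hw7 R hR4 w.2 t.2)

open scoped Pointwise in
/-- **`Ru`** -/
theorem has3Out_ru {G : Type*} [Group G] [Finite G] (h : Spor.IsoRu G) (hs : IsSporadicGroup G) : Has3Out G := by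
  have hG : Nat.card G = 145926144000 := NotCT.Orders.ru h
  obtain ⟨C, hsz, hL⟩ := CTwoTab.Ru.exists_core_sz h
  have hsimp : IsSimpleGroup ↥C.L := CTwoTab.Ru.simple_sz hsz
  have h29 : ∀ (p : ℕ) (x y : G), ¬ p ∣ 29 → orderOf x = p → orderOf y = 29 → x * y ≠ y * x := by
    intro p x y hp hx hy hxy
    refine not_comm_of_card (p := p) ?_ hx hxy
    rw [H547.SelfCent.Ru.ru h (na_ru h) hy]
    exact hp
  have n1 : ¬ Adj G 7 13 := by
    refine not_adj_of_not_comm (by norm_num) (by norm_num) fun x y hx hy hxy => ?_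
    have hf : Fact (Nat.Prime 13) := ⟨by norm_num⟩
    obtain ⟨y0, hy0⟩ := exists_prime_orderOf_dvd_card' (G := ↥C.L) 13 (by rw [hL]; norm_num)
    have hy0G : orderOf (y0 : G) = 13 := by rw [orderOf_coe, hy0]
    have h169 : ¬ 13 ^ 2 ∣ Nat.card G := by rw [hG]; norm_num
    obtain ⟨P, hP⟩ := Eng.exists_sylow (by norm_num) h169 hy
    obtain ⟨Q, hQ⟩ := Eng.exists_sylow (by norm_num) h169 hy0G
    obtain ⟨g, hg⟩ := MulAction.exists_smul_eq G P Q
    have h1 : (y0 : G) ∈ (MulAut.conj g • (P : Subgroup G) : Subgroup G) := by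
      rw [← Sylow.coe_subgroup_smul, hg, hQ]
      exact mem_zpowers _
    obtain ⟨z, hz, hz2⟩ := mem_smul_pointwise_iff_exists _ _ _ |>.1 h1
    rw [hP] at hz
    obtain ⟨n, rfl⟩ := mem_zpowers_iff.1 hz
    refine not_comm C hsz hL hG hy0 ?_
    have h2 : (g * x * g⁻¹) ∈ Eng.Cm (y0 : G) := by
      rw [mem_cent, ← hz2]
      have h3 : Commute x (y ^ n) := (show Commute x y from hxy).zpow_right n
      change g * x * g⁻¹ * (g * y ^ n * g⁻¹) = g * y ^ n * g⁻¹ * (g * x * g⁻¹)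
      calc g * x * g⁻¹ * (g * y ^ n * g⁻¹) = g * (x * y ^ n) * g⁻¹ := by group
        _ = g * (y ^ n * x) * g⁻¹ := by rw [h3.eq]
        _ = g * y ^ n * g⁻¹ * (g * x * g⁻¹) := by group
    have h3 : orderOf (⟨g * x * g⁻¹, h2⟩ : Eng.Cm (y0 : G)) = 7 := by
      rw [← orderOf_coe, ← hx]
      exact orderOf_injective (MulAut.conj g).toMonoidHom (MulAut.conj g).injective x
    rw [← h3]
    exact orderOf_dvd_natCard _
  have n2 : ¬ Adj G 13 29 := not_adj_of_not_comm (by norm_num) (by norm_num) fun x y hx hy =>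
    h29 13 x y (by norm_num) hx hy
  have n3 : ¬ Adj G 7 29 := not_adj_of_not_comm (by norm_num) (by norm_num) fun x y hx hy =>
    h29 7 x y (by norm_num) hx hy
  exact has3Out_of_odd hs (p := 7) (q := 13) (r := 29) (by norm_num) (by norm_num) (by norm_num) (by norm_num)
    (by norm_num) (by norm_num) (by rw [hG]; norm_num) n1 n2 n3

end Cfsg.Agent.H169.RuRow
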