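import Mathlib
import Cfsg.Agent.ClassicalGeometry.AutPSL.Main
import Cfsg.Agent.ClassicalGeometry.PSL2Basic
import Cfsg.Agent.S0262

/-!
# Automorphisms of `PSL₂(q)` of `r`-power order centralizing a Sylow `r`-subgroup, `r` odd, are inner
-/

set_option autoImplicit false

namespace Cfsg.Agent.H169.PSLTwoAut

open Matrix
open scoped Pointwise
open Cfsg.Agent.ClassicalGeometry.AutPSL.Root
open Cfsg.Agent.ClassicalGeometry.AutPSL.Auto
open Cfsg.Agent.ClassicalGeometry.AutPSL.Main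

variable {F : Type*} [Field F]

theorem conj_of_det_sq (A : GL (Fin 2) F) (c : F) (hc : (A : Matrix (Fin 2) (Fin 2) F).det = c ^ 2) :
    ∃ g : Matrix.ProjectiveSpecialLinearGroup (Fin 2) F, lift (cj A) = MulAut.conj g := by
  have hdet : (A : Matrix (Fin 2) (Fin 2) F).det ≠ 0 := by
    have := A.det.ne_zero
    exact this
  have hc0 : c ≠ 0 := by
    rintro rfl
    apply hdet
    rw [hc]; ring
  let B : Matrix.SpecialLinearGroup (Fin 2) F := ⟨c⁻¹ • (A : Matrix (Fin 2) (Fin 2) F), by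
    rw [Matrix.det_smul, hc, Fintype.card_fin]
    field_simp⟩
  refine ⟨pr B, ?_⟩
  apply MulEquiv.ext
  intro x
  obtain ⟨x, rfl⟩ := pr_surjective x
  rw [lift_pr, MulAut.conj_apply, ← map_inv, ← map_mul, ← map_mul]
  congr 1
  apply Subtype.ext
  rw [coe_cj, Matrix.SpecialLinearGroup.coe_mul, Matrix.SpecialLinearGroup.coe_mul]
  have hB : ((B⁻¹ : Matrix.SpecialLinearGroup (Fin 2) F) : Matrix (Fin 2) (Fin 2) F)
      = c • ((A⁻¹ : GL (Fin 2) F) : Matrix (Fin 2) (Fin 2) F) := by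
    have h1 : (B : Matrix (Fin 2) (Fin 2) F) * (c • ((A⁻¹ : GL (Fin 2) F) : Matrix (Fin 2) (Fin 2) F)) = 1 := by
      change (c⁻¹ • (A : Matrix (Fin 2) (Fin 2) F)) * _ = 1
      rw [Matrix.smul_mul, Matrix.mul_smul, smul_smul, inv_mul_cancel₀ hc0, one_smul,
        ← Units.val_mul, mul_inv_cancel, Units.val_one]
    have h2 : ((B⁻¹ : Matrix.SpecialLinearGroup (Fin 2) F) : Matrix (Fin 2) (Fin 2) F)
        * (B : Matrix (Fin 2) (Fin 2) F) = 1 := by
      rw [← Matrix.SpecialLinearGroup.coe_mul, inv_mul_cancel, Matrix.SpecialLinearGroup.coe_one]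
    calc ((B⁻¹ : Matrix.SpecialLinearGroup (Fin 2) F) : Matrix (Fin 2) (Fin 2) F)
        = ((B⁻¹ : Matrix.SpecialLinearGroup (Fin 2) F) : Matrix (Fin 2) (Fin 2) F) *
          ((B : Matrix (Fin 2) (Fin 2) F) * (c • ((A⁻¹ : GL (Fin 2) F) : Matrix (Fin 2) (Fin 2) F))) := by
          rw [h1, mul_one]
      _ = _ := by rw [← mul_assoc, h2, one_mul]
  rw [hB]
  change _ = (c⁻¹ • (A : Matrix (Fin 2) (Fin 2) F)) * _ * _
  rw [Matrix.smul_mul, Matrix.mul_smul, Matrix.smul_mul, smul_smul, mul_inv_cancel₀ hc0, one_smul]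

theorem det_sq_of_odd (A : GL (Fin 2) F) {m : ℕ} (hm : Odd m) (h : (lift (cj A)) ^ m = 1) :
    ∃ c : F, (A : Matrix (Fin 2) (Fin 2) F).det = c ^ 2 := by
  have h1 : lift (cj (A ^ m) * fld (1 : F ≃+* F)) = lift (fld (1 : F ≃+* F)) := by
    rw [map_one fld, mul_one, map_pow, map_pow, h, map_one]
  obtain ⟨⟨s, hs⟩, -⟩ := injective_aux h1
  have hdet : (A : Matrix (Fin 2) (Fin 2) F).det ≠ 0 := A.det.ne_zero
  have h2 : (A : Matrix (Fin 2) (Fin 2) F).det ^ m = s ^ 2 := by
    have h3 := congrArg Matrix.det hs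
    rw [scalar_apply, det_diagonal, Finset.prod_const, Finset.card_univ, Fintype.card_fin] at h3
    rw [h3, Units.val_pow_eq_pow_val, Matrix.det_pow]
  obtain ⟨k, hk⟩ := hm
  set d := (A : Matrix (Fin 2) (Fin 2) F).det with hd
  refine ⟨s * (d ^ k)⁻¹, ?_⟩
  rw [mul_pow, ← h2, hk, pow_succ, pow_mul, ← pow_mul d 2 k, mul_comm 2 k, pow_mul, inv_pow]
  field_simp

theorem inner_of_odd (A : GL (Fin 2) F) {m : ℕ} (hm : Odd m) (h : (lift (cj A)) ^ m = 1) :
    ∃ g : Matrix.ProjectiveSpecialLinearGroup (Fin 2) F, lift (cj A) = MulAut.conj g := by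
  obtain ⟨c, hc⟩ := det_sq_of_odd A hm h
  exact conj_of_det_sq A c hc

theorem fld_mul_cj_apply (σ : F ≃+* F) (A : GL (Fin 2) F) (g : Matrix.SpecialLinearGroup (Fin 2) F) :
    (fld σ (cj A g)) = cj (Matrix.GeneralLinearGroup.map (σ : F →+* F) A) (fld σ g) := by
  have h1 : ∀ g : Matrix.SpecialLinearGroup (Fin 2) F,
      ((fld σ g : Matrix.SpecialLinearGroup (Fin 2) F) : Matrix (Fin 2) (Fin 2) F)
      = (g : Matrix (Fin 2) (Fin 2) F).map σ := by
    intro g
    ext i j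
    rw [coe_fld_apply, Matrix.map_apply]
  have h2 : ∀ B : GL (Fin 2) F,
      ((Matrix.GeneralLinearGroup.map (σ : F →+* F) B : GL (Fin 2) F) : Matrix (Fin 2) (Fin 2) F)
      = (B : Matrix (Fin 2) (Fin 2) F).map σ := by
    intro B
    ext i j
    rw [Matrix.GeneralLinearGroup.map_apply, Matrix.map_apply]
    rfl
  have h4 : ∀ M N : Matrix (Fin 2) (Fin 2) F, (M * N).map σ = M.map σ * N.map σ := by
    intro M N
    exact Matrix.map_mul (f := (σ : F →+* F))
  apply Subtype.ext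
  rw [coe_cj, h1, h1, coe_cj, ← map_inv, h2, h2, h4, h4]

theorem fld_mul_cj (σ : F ≃+* F) (A : GL (Fin 2) F) :
    fld σ * cj A = cj (Matrix.GeneralLinearGroup.map (σ : F →+* F) A) * fld σ := by
  apply MulEquiv.ext
  intro g
  rw [MulAut.mul_apply, MulAut.mul_apply]
  exact fld_mul_cj_apply σ A g

theorem pow_form (A : GL (Fin 2) F) (σ : F ≃+* F) (m : ℕ) :
    ∃ A' : GL (Fin 2) F, (cj A * fld σ) ^ m = cj A' * fld (σ ^ m) := by
  induction m with
  | zero => exact ⟨1, by simp⟩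
  | succ m ih =>
    obtain ⟨A', hA'⟩ := ih
    refine ⟨A' * Matrix.GeneralLinearGroup.map ((σ ^ m : F ≃+* F) : F →+* F) A, ?_⟩
    rw [pow_succ, hA', map_mul cj, pow_succ, map_mul fld, mul_assoc (cj A'), ← mul_assoc (fld (σ ^ m)),
      fld_mul_cj]
    simp only [mul_assoc]

theorem sigma_pow (A : GL (Fin 2) F) (σ : F ≃+* F) (m : ℕ) (h : (lift (cj A * fld σ)) ^ m = 1) :
    σ ^ m = 1 := by
  obtain ⟨A', hA'⟩ := pow_form A σ m
  rw [← map_pow, hA'] at h
  have h1 : lift (cj A' * fld (σ ^ m)) = lift (fld (1 : F ≃+* F)) := by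
    rw [h, map_one fld, map_one]
  exact (injective_aux h1).2

/-- The unipotent case. -/
theorem inner_of_unip (A : GL (Fin 2) F) (σ : F ≃+* F)
    (h : ∀ t : F, lift (cj A * fld σ) (pr (Matrix.SpecialLinearGroup.transvection
      (show (0 : Fin 2) ≠ 1 by decide) t)) = pr (Matrix.SpecialLinearGroup.transvection
      (show (0 : Fin 2) ≠ 1 by decide) t)) :
    ∃ g : Matrix.ProjectiveSpecialLinearGroup (Fin 2) F, lift (cj A * fld σ) = MulAut.conj g := by
  have h1 : ∀ t : F, (A : Matrix (Fin 2) (Fin 2) F) * single 0 1 (σ t)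
      = single 0 1 t * (A : Matrix (Fin 2) (Fin 2) F) := by
    intro t
    have h2 := h t
    rw [lift_pr, MulAut.mul_apply, fld_transvection] at h2
    exact cj_transvection_eq h2
  have e1 := congrFun (congrFun (h1 1) 0) 1
  have e2 := congrFun (congrFun (h1 1) 1) 1
  simp [Matrix.mul_apply, Fin.sum_univ_two, single_apply] at e1 e2
  have hdet : (A : Matrix (Fin 2) (Fin 2) F).det = ((A : Matrix (Fin 2) (Fin 2) F) 0 0) ^ 2 := by
    rw [Matrix.det_fin_two, e2, ← e1]; ring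
  have hA0 : (A : Matrix (Fin 2) (Fin 2) F) 0 0 ≠ 0 := by
    intro h0
    apply A.det.ne_zero
    change (A : Matrix (Fin 2) (Fin 2) F).det = 0
    rw [hdet, h0]; ring
  have hσ : σ = 1 := by
    apply RingEquiv.ext
    intro t
    have e3 := congrFun (congrFun (h1 t) 0) 1
    simp [Matrix.mul_apply, Fin.sum_univ_two, single_apply] at e3
    rw [← e1, mul_comm] at e3
    exact mul_right_cancel₀ hA0 e3
  rw [hσ, map_one fld, mul_one]
  exact conj_of_det_sq A _ hdet

/-- An element of `SL₂(F)` whose trace is fixed by the `p^s`-power map has order dividing `(p^(2s) - 1) p`. -/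
theorem pow_eq_one_of_trace {p : ℕ} [Fact p.Prime] [CharP F p] (y : Matrix.SpecialLinearGroup (Fin 2) F) {s : ℕ}
    (ht : (y : Matrix (Fin 2) (Fin 2) F).trace ^ (p ^ s) = (y : Matrix (Fin 2) (Fin 2) F).trace) :
    y ^ (((p ^ s - 1) * (p ^ s + 1)) * p) = 1 := by
  have hp : p.Prime := Fact.out
  have hp1 : 1 ≤ p ^ s := Nat.one_le_iff_ne_zero.2 (pow_ne_zero _ hp.ne_zero)
  -- work in the matrix ring
  set a : Matrix (Fin 2) (Fin 2) F := (y : Matrix (Fin 2) (Fin 2) F) with ha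
  set a' : Matrix (Fin 2) (Fin 2) F := ((y⁻¹ : Matrix.SpecialLinearGroup (Fin 2) F) : Matrix (Fin 2) (Fin 2) F) with ha'
  have haa' : a * a' = 1 := by
    rw [ha, ha', ← Matrix.SpecialLinearGroup.coe_mul, mul_inv_cancel, Matrix.SpecialLinearGroup.coe_one]
  have ha'a : a' * a = 1 := by
    rw [ha, ha', ← Matrix.SpecialLinearGroup.coe_mul, inv_mul_cancel, Matrix.SpecialLinearGroup.coe_one]
  have hsum : a + a' = scalar (Fin 2) a.trace := by
    rw [ha', Matrix.SpecialLinearGroup.coe_inv, Matrix.adjugate_fin_two]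
    ext i j
    fin_cases i <;> fin_cases j <;> simp [Matrix.trace_fin_two, ← ha, add_comm]
  have hcomm : Commute a a' := haa'.trans ha'a.symm
  have hpow : a ^ (p ^ s) + a' ^ (p ^ s) = a + a' := by
    rw [← add_pow_char_pow_of_commute (p := p) _ hcomm, hsum, ← map_pow, ht]
  set Q := p ^ s with hQ
  have hc1 : a ^ Q * a' ^ Q = 1 := by
    rw [← hcomm.mul_pow, haa', one_pow]
  -- `(a^Q - a)(a^Q - a') = 0`
  have hprod : (a ^ Q - a) * (a ^ Q - a') = 0 := by
    have e1 : (a ^ Q - a) * (a ^ Q - a') = a ^ Q * a ^ Q - (a + a') * a ^ Q + 1 := by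
      have e2 : a ^ Q * a' = a' * a ^ Q := (hcomm.pow_left Q).eq
      rw [sub_mul, mul_sub, mul_sub, haa', e2, add_mul]
      abel
    rw [e1, ← hpow, add_mul, (hcomm.symm.pow_pow Q Q).eq, hc1]
    abel
  -- multiply by units
  have hprod2 : (a ^ (Q - 1) - 1) * (a ^ (Q + 1) - 1) = 0 := by
    have e1 : a ^ (Q - 1) - 1 = a' * (a ^ Q - a) := by
      rw [mul_sub, ha'a]
      congr 1
      obtain ⟨k, hk⟩ : ∃ k, Q = k + 1 := ⟨Q - 1, by omega⟩
      rw [hk, Nat.add_sub_cancel, pow_succ', ← mul_assoc, ha'a, one_mul]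
    have e2 : a ^ (Q + 1) - 1 = (a ^ Q - a') * a := by
      rw [sub_mul, ha'a, pow_succ]
    rw [e1, e2, mul_assoc, ← mul_assoc (a ^ Q - a), hprod, zero_mul, mul_zero]
  -- the element `w = a^((Q-1)(Q+1))`
  have hdvd1 : ∃ b, a ^ ((Q - 1) * (Q + 1)) - 1 = b * (a ^ (Q - 1) - 1) ∧ Commute b a := by
    refine ⟨∑ i ∈ Finset.range (Q + 1), (a ^ (Q - 1)) ^ i, ?_, ?_⟩
    · rw [pow_mul, geom_sum_mul]
    · exact Commute.sum_left _ _ _ (fun i _ => ((Commute.refl a).pow_left _).pow_left _)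
  have hdvd2 : ∃ b, a ^ ((Q - 1) * (Q + 1)) - 1 = (a ^ (Q + 1) - 1) * b := by
    refine ⟨∑ i ∈ Finset.range (Q - 1), (a ^ (Q + 1)) ^ i, ?_⟩
    rw [mul_comm (Q - 1), pow_mul, mul_geom_sum]
  obtain ⟨b, hb, -⟩ := hdvd1
  obtain ⟨b', hb'⟩ := hdvd2
  have hsq : (a ^ ((Q - 1) * (Q + 1)) - 1) ^ 2 = 0 := by
    rw [pow_two]
    nth_rw 1 [hb]
    rw [hb', mul_assoc, ← mul_assoc (a ^ (Q - 1) - 1), hprod2, zero_mul, mul_zero]
  have hfin : (a ^ ((Q - 1) * (Q + 1))) ^ p = 1 := by
    have e1 : (a ^ ((Q - 1) * (Q + 1)) - 1) ^ p = 0 := by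
      obtain ⟨k, hk⟩ : ∃ k, p = 2 + k := ⟨p - 2, by have := hp.two_le; omega⟩
      rw [hk, pow_add, hsq, zero_mul]
    have e2 := sub_pow_char_of_commute (p := p) (Commute.one_right (a ^ ((Q - 1) * (Q + 1))))
    rw [e1, one_pow] at e2
    exact (sub_eq_zero.1 e2.symm)
  apply Subtype.ext
  rw [Matrix.SpecialLinearGroup.coe_pow, ← ha, pow_mul, hfin]
  rfl

theorem lte {M r m : ℕ} (hr : r.Prime) (hm : 1 ≤ m) (hM : 1 ≤ M) (h : r ^ m ∣ M - 1) (d : ℕ) (hd : r ∣ d) :
    r ^ (m + 1) ∣ M ^ d - 1 := by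
  have h1 : r ^ (m + 1) ∣ M ^ r - 1 := by
    have e1 : (M ^ r - 1 : ℕ) = (∑ i ∈ Finset.range r, M ^ i) * (M - 1) := by
      zify [hM, Nat.one_le_pow r M hM]
      exact (geom_sum_mul (M : ℤ) r).symm
    rw [e1, pow_succ, mul_comm (r ^ m) r]
    refine Nat.mul_dvd_mul ?_ h
    have h2 : ((∑ i ∈ Finset.range r, M ^ i : ℕ) : ZMod r) = 0 := by
      have h3 : ((M : ℕ) : ZMod r) = 1 := by
        have h4 : r ∣ M - 1 := dvd_trans (dvd_pow_self r (by omega)) h
        have h5 : ((M - 1 : ℕ) : ZMod r) = 0 := (ZMod.natCast_eq_zero_iff _ _).2 h4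
        rw [Nat.cast_sub hM, Nat.cast_one, sub_eq_zero] at h5
        exact h5
      push_cast
      rw [h3]
      simp
    exact (ZMod.natCast_eq_zero_iff _ _).1 h2
  obtain ⟨e, rfl⟩ := hd
  refine h1.trans ?_
  rw [pow_mul]
  have := Nat.sub_dvd_pow_sub_pow (M ^ r) 1 e
  rwa [one_pow] at this

theorem sigma_fix_trace (A : GL (Fin 2) F) (σ : F ≃+* F) {n : ℕ} (hn : Odd n)
    (hβ : (lift (cj A * fld σ)) ^ n = 1) (y : Matrix.SpecialLinearGroup (Fin 2) F)
    (hfix : lift (cj A * fld σ) (pr y) = pr y) :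
    σ (y : Matrix (Fin 2) (Fin 2) F).trace = (y : Matrix (Fin 2) (Fin 2) F).trace := by
  have hσ := sigma_pow A σ n hβ
  rw [lift_pr, MulAut.mul_apply] at hfix
  obtain ⟨c, hc⟩ := exists_smul_of_pr_eq hfix
  have hdet := congrArg Matrix.det hc
  rw [Matrix.det_smul, Fintype.card_fin, Matrix.SpecialLinearGroup.det_coe,
    Matrix.SpecialLinearGroup.det_coe, mul_one] at hdet
  have htr := congrArg Matrix.trace hc
  have h1 : ((cj A (fld σ y) : Matrix.SpecialLinearGroup (Fin 2) F) : Matrix (Fin 2) (Fin 2) F).trace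
      = σ (y : Matrix (Fin 2) (Fin 2) F).trace := by
    rw [coe_cj, Matrix.trace_mul_comm, ← mul_assoc, ← Units.val_mul, inv_mul_cancel, Units.val_one, one_mul]
    rw [Matrix.trace_fin_two, Matrix.trace_fin_two, coe_fld_apply, coe_fld_apply, map_add]
  rw [Matrix.trace_smul, h1, smul_eq_mul] at htr
  set t := (y : Matrix (Fin 2) (Fin 2) F).trace with ht
  have hc2 : c = 1 ∨ c = -1 := by
    have : (c - 1) * (c + 1) = 0 := by linear_combination -hdet
    rcases mul_eq_zero.1 this with h | h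
    · exact Or.inl (sub_eq_zero.1 h)
    · exact Or.inr (eq_neg_of_add_eq_zero_left h)
  rcases hc2 with rfl | rfl
  · rw [one_mul] at htr
    exact htr.symm
  · have h2 : σ t = -t := by linear_combination htr
    have h3 : ∀ i : ℕ, (σ ^ i) t = (-1) ^ i * t := by
      intro i
      induction i with
      | zero => simp
      | succ i ih =>
        rw [pow_succ, RingAut.mul_apply, h2, map_neg, ih, pow_succ]; ring
    have h4 := h3 n
    rw [hσ, RingAut.one_apply, hn.neg_one_pow] at h4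
    rw [h2]
    linear_combination -h4

theorem sigma_eq_one [Fintype F] {p : ℕ} [Fact p.Prime] [CharP F p] {r : ℕ} [Fact r.Prime] (hr2 : r ≠ 2)
    (hrp : r ≠ p) (A : GL (Fin 2) F) (σ : F ≃+* F) {k : ℕ} (hβ : (lift (cj A * fld σ)) ^ (r ^ k) = 1)
    (y : Matrix.SpecialLinearGroup (Fin 2) F) {m : ℕ} (hm1 : 1 ≤ m) (hy : orderOf y = r ^ m)
    (hm : ¬ r ^ (m + 1) ∣ Nat.card (Matrix.SpecialLinearGroup (Fin 2) F))
    (hfix : lift (cj A * fld σ) (pr y) = pr y) : σ = 1 := by
  classical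
  have hr : r.Prime := Fact.out
  have hp : p.Prime := Fact.out
  have hodd : Odd (r ^ k) := (hr.odd_of_ne_two hr2).pow
  have htr := sigma_fix_trace A σ hodd hβ y hfix
  have hσ := sigma_pow A σ _ hβ
  by_contra hσ1
  let H : Subgroup (F ≃+* F) := Subgroup.zpowers σ
  have hfinA : Finite (F ≃+* F) := Finite.of_injective (fun τ : F ≃+* F => (τ : F → F)) DFunLike.coe_injective
  letI : Fintype H := Fintype.ofFinite _
  let K := FixedPoints.subfield H F
  have hfin : Module.finrank K F = Fintype.card H := FixedPoints.finrank_eq_card H F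
  letI : Fintype K := Fintype.ofFinite _
  have hcardF : Fintype.card F = Fintype.card K ^ (Fintype.card H) := by
    rw [← hfin]; exact Module.card_eq_pow_finrank
  have hcardH : Fintype.card H = orderOf σ := by
    rw [← Nat.card_eq_fintype_card]; exact Nat.card_zpowers σ
  have hdH : r ∣ Fintype.card H := by
    rw [hcardH]
    have h1 : orderOf σ ∣ r ^ k := orderOf_dvd_of_pow_eq_one hσ
    obtain ⟨j, -, hj⟩ := (Nat.dvd_prime_pow hr).1 h1
    rw [hj]
    rcases Nat.eq_zero_or_pos j with rfl | hj0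
    · exact absurd (orderOf_eq_one_iff.1 (by rw [hj, pow_zero])) hσ1
    · exact dvd_pow_self r (by omega)
  haveI : CharP K p := (algebraMap K F).charP_iff_charP p |>.2 inferInstance
  obtain ⟨⟨s, hs0⟩, -, hs⟩ := FiniteField.card K p
  simp only [PNat.mk_coe] at hs
  -- the trace lies in `K`
  set t := (y : Matrix (Fin 2) (Fin 2) F).trace with ht
  have htK : t ∈ K := by
    intro g
    obtain ⟨⟨g, hg⟩⟩ : Nonempty {g' : H // g' = g} := ⟨⟨g, rfl⟩⟩
    obtain ⟨i, hi⟩ := Subgroup.mem_zpowers_iff.1 g.2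
    have hfixt : σ • t = t := htr
    have h3 : σ ∈ MulAction.stabilizer (F ≃+* F) t := hfixt
    have h4 : (g : F ≃+* F) ∈ MulAction.stabilizer (F ≃+* F) t := by
      rw [← hi]; exact Subgroup.zpow_mem _ h3 i
    rw [← hg]
    exact h4
  have htpow : t ^ (p ^ s) = t := by
    have h1 := FiniteField.pow_card (K := K) ⟨t, htK⟩
    rw [hs] at h1
    exact congrArg Subtype.val h1
  have hy1 := pow_eq_one_of_trace (p := p) y htpow
  have hdvd1 : r ^ m ∣ ((p ^ s - 1) * (p ^ s + 1)) * p := by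
    rw [← hy]; exact orderOf_dvd_of_pow_eq_one hy1
  have hdvd2 : r ^ m ∣ (p ^ s - 1) * (p ^ s + 1) :=
    (Nat.Coprime.pow_left m ((Nat.coprime_primes hr hp).2 hrp)).dvd_of_dvd_mul_right hdvd1
  have hQ1 : 1 ≤ p ^ s := Nat.one_le_iff_ne_zero.2 (pow_ne_zero _ hp.ne_zero)
  have hM : (p ^ s - 1) * (p ^ s + 1) = (p ^ s) ^ 2 - 1 := by
    rw [mul_comm, ← Nat.sq_sub_sq, one_pow]
  rw [hM] at hdvd2
  have h5 := lte (M := (p ^ s) ^ 2) hr hm1 (Nat.one_le_pow _ _ hQ1) hdvd2 _ hdH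
  apply hm
  rw [Cfsg.Agent.ClassicalGeometry.PSL2Basic.card_SL2, hcardF, hs]
  refine Dvd.dvd.mul_left ?_ _
  rw [← pow_mul, ← pow_mul] at *
  rw [mul_comm _ 2, ← mul_assoc, mul_comm s 2] at *
  simpa [pow_mul, mul_assoc, mul_comm, mul_left_comm] using h5

theorem inner_conj {P : Type*} [Group P] {β : MulAut P} (g : P)
    (h : ∃ x : P, (MulAut.conj g)⁻¹ * β * MulAut.conj g = MulAut.conj x) : ∃ x : P, β = MulAut.conj x := by
  obtain ⟨x, hx⟩ := h
  refine ⟨g * x * g⁻¹, ?_⟩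
  rw [map_mul, map_mul, map_inv, ← hx]
  group

/-- a subgroup of prime power order is moved into a given Sylow subgroup -/
theorem exists_conj_le {P : Type*} [Group P] [Finite P] {r : ℕ} [Fact r.Prime] (R : Sylow r P)
    (U : Subgroup P) (hU : IsPGroup r U) : ∃ g : P, ∀ u ∈ U, g * u * g⁻¹ ∈ R := by
  obtain ⟨Q, hQ⟩ := hU.exists_le_sylow
  obtain ⟨g, hg⟩ := MulAction.exists_smul_eq P Q R
  refine ⟨g, fun u hu => ?_⟩
  rw [← hg]
  have h1 : u ∈ Q := hQ hu
  have h2 : (MulAut.conj g) • u ∈ (MulAut.conj g) • (Q : Subgroup P) :=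
    Subgroup.smul_mem_pointwise_smul u (MulAut.conj g) _ h1
  exact h2

theorem inner_odd [Fintype F] {r : ℕ} [Fact r.Prime] (hr2 : r ≠ 2)
    (β : MulAut (Matrix.ProjectiveSpecialLinearGroup (Fin 2) F)) {k : ℕ} (hβ : β ^ (r ^ k) = 1)
    (R : Sylow r (Matrix.ProjectiveSpecialLinearGroup (Fin 2) F))
    (hdvd : r ∣ Nat.card (Matrix.ProjectiveSpecialLinearGroup (Fin 2) F))
    (hR : ∀ x ∈ (R : Subgroup (Matrix.ProjectiveSpecialLinearGroup (Fin 2) F)), β x = x) :
    ∃ g : Matrix.ProjectiveSpecialLinearGroup (Fin 2) F, β = MulAut.conj g := by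
  classical
  have hr : r.Prime := Fact.out
  obtain ⟨p, hpF⟩ := CharP.exists F
  have hp : p.Prime := (CharP.char_is_prime_or_zero F p).resolve_right (by
    rintro rfl
    exact CharP.char_ne_zero_of_finite F 0 rfl)
  haveI : Fact p.Prime := ⟨hp⟩
  have hconj : ∀ g : Matrix.ProjectiveSpecialLinearGroup (Fin 2) F,
      ((MulAut.conj g)⁻¹ * β * MulAut.conj g) ^ (r ^ k) = 1 := by
    intro g
    have := conj_pow (i := r ^ k) (a := (MulAut.conj g)⁻¹) (b := β)
    rw [inv_inv] at this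
    rw [this, hβ]; group
  have hfixc : ∀ (g x : Matrix.ProjectiveSpecialLinearGroup (Fin 2) F), g * x * g⁻¹ ∈ R →
      ((MulAut.conj g)⁻¹ * β * MulAut.conj g) x = x := by
    intro g x hx
    rw [MulAut.mul_apply, MulAut.mul_apply, MulAut.conj_apply, hR _ hx, ← MulAut.conj_apply]
    exact (MulAut.conj g).symm_apply_apply x
  rcases eq_or_ne r p with rfl | hrp
  · -- defining characteristic
    let φ : Multiplicative F →* Matrix.ProjectiveSpecialLinearGroup (Fin 2) F :=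
      { toFun := fun t => pr (Matrix.SpecialLinearGroup.transvection
          (show (0 : Fin 2) ≠ 1 by decide) t.toAdd)
        map_one' := by
          rw [toAdd_one]
          have : (Matrix.SpecialLinearGroup.transvection (show (0 : Fin 2) ≠ 1 by decide) (0 : F)) = 1 := by
            apply Subtype.ext
            change Matrix.transvection _ _ _ = _
            rw [Matrix.transvection_zero]; rfl
          rw [this, map_one]
        map_mul' := by
          intro a b
          rw [← map_mul, toAdd_mul]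
          congr 1
          apply Subtype.ext
          rw [Matrix.SpecialLinearGroup.coe_mul]
          change Matrix.transvection _ _ _ = Matrix.transvection _ _ _ * Matrix.transvection _ _ _
          rw [Matrix.transvection_mul_transvection_same]
          decide }
    have hφ : IsPGroup r φ.range := by
      rintro ⟨x, t, rfl⟩
      refine ⟨1, ?_⟩
      apply Subtype.ext
      change (φ t) ^ (r ^ 1) = 1
      rw [pow_one, ← map_pow]
      have : t ^ r = 1 := by
        apply Multiplicative.toAdd.injective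
        rw [toAdd_pow, toAdd_one, nsmul_eq_mul, CharP.cast_eq_zero, zero_mul]
      rw [this, map_one]
    obtain ⟨g, hg⟩ := exists_conj_le R φ.range hφ
    apply inner_conj g
    obtain ⟨A, σ, hA⟩ := surj_two r ((MulAut.conj g)⁻¹ * β * MulAut.conj g)
    rw [hA]
    apply inner_of_unip
    intro t
    rw [← hA]
    exact hfixc g _ (hg _ ⟨Multiplicative.ofAdd t, rfl⟩)
  · -- the other characteristic
    obtain ⟨P⟩ : Nonempty (Sylow r (Matrix.SpecialLinearGroup (Fin 2) F)) := inferInstance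
    have hcyc := Cfsg.Agent.S0262.result p r hr2 hrp P
    obtain ⟨⟨y, hyP⟩, hy⟩ := hcyc.exists_zpow_surjective
    have hord : orderOf y = r ^ (Nat.card (Matrix.SpecialLinearGroup (Fin 2) F)).factorization r := by
      rw [← P.card_eq_multiplicity]
      rw [← Subgroup.orderOf_mk (H := (P : Subgroup (Matrix.SpecialLinearGroup (Fin 2) F))) y hyP]
      exact orderOf_eq_card_of_forall_mem_zpowers hy
    have hN0 : Nat.card (Matrix.SpecialLinearGroup (Fin 2) F) ≠ 0 := Nat.card_pos.ne'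
    have hrN : r ∣ Nat.card (Matrix.SpecialLinearGroup (Fin 2) F) :=
      hdvd.trans (Subgroup.card_dvd_of_surjective pr pr_surjective)
    have hm1 : 1 ≤ (Nat.card (Matrix.SpecialLinearGroup (Fin 2) F)).factorization r :=
      (hr.dvd_iff_one_le_factorization hN0).1 hrN
    have hU : IsPGroup r ((P : Subgroup (Matrix.SpecialLinearGroup (Fin 2) F)).map pr) := P.isPGroup'.map pr
    obtain ⟨g, hg⟩ := exists_conj_le R _ hU
    apply inner_conj g
    obtain ⟨A, σ, hA⟩ := surj_two p ((MulAut.conj g)⁻¹ * β * MulAut.conj g)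
    have hAp : (lift (cj A * fld σ)) ^ (r ^ k) = 1 := by rw [← hA]; exact hconj g
    have hfy : lift (cj A * fld σ) (pr y) = pr y := by
      rw [← hA]
      exact hfixc g _ (hg _ (Subgroup.mem_map_of_mem pr hyP))
    have hσ := sigma_eq_one hr2 hrp A σ hAp y hm1 hord
      (Nat.pow_succ_factorization_not_dvd hN0 hr) hfy
    rw [hσ, map_one fld, mul_one] at hAp hA
    rw [hA]
    exact inner_of_odd A (hr.odd_of_ne_two hr2).pow hAp

end Cfsg.Agent.H169.PSLTwoAut
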