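import Cfsg.Agent.H169.ExcRows
import Cfsg.Agent.H163.PG.Few
import Cfsg.Agent.S1059
import Cfsg.Agent.S2121

/-!
# The goal for the groups `G₂(q)`, `q ≥ 3`
-/

set_option autoImplicit false
set_option linter.unusedSectionVars false

namespace Cfsg.Agent.H169.ExcG2

open CoxeterSystem Cfsg Cfsg.Lie Cfsg.Lie.ChevalleyDatum
open Cfsg.Agent.ChevalleyStructure Cfsg.Agent.ChevalleyStructure.Elts Cfsg.Agent.ChevalleyStructure.CoxeterGeom
  Cfsg.Agent.ChevalleyStructure.CoxeterGeomTypes Cfsg.Agent.ChevalleyStructure.NPerm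
open Cfsg.Agent.Tits.Roots Cfsg.Agent.Tits.Core Cfsg.Agent.Nodes Cfsg.Agent.Nodes.Reps Cfsg.Agent.Nodes.BNOf
  Cfsg.Agent.Nodes.RGDChev Cfsg.Agent.Nodes.Bruhat Cfsg.Agent.Nodes.SubComb Cfsg.Agent.Nodes.Coroot
open Cfsg.Agent.KFacts.RgdField Cfsg.Agent.KFacts.RgdChevCoord Cfsg.Agent.BpExc.TorCent Cfsg.Agent.BpExc.TorChev
open Cfsg.Agent.GpExc.Field Cfsg.Agent.BpExc.Tow Cfsg.Agent.BpExc.TowChev Cfsg.Agent.BpExc.Fr
  Cfsg.Agent.BpExc.LangFr Cfsg.Agent.LangThm Cfsg.Agent.BpExc Cfsg.Agent.H129.TorusChar Cfsg.Agent.H129.TorusCent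
  Cfsg.Agent.H129.TorusTw Cfsg.Agent.H129.TorusMain Cfsg.Agent.H129.TorusUntw Cfsg.Agent.H720.TorusReal
open Cfsg.Agent.H163.PG Cfsg.Agent.H169.ExcNum Cfsg.Agent.H169.ExcRows Cfsg.Agent.H169.TorPair

universe u

/-- elements of order `2 r`, `r` a prime divisor of `q² ± q + 1` -/
theorem two_no {F : Type u} [Field F] [Fintype F] {q : ℕ} (hq : Fintype.card F = q) (hodd : Odd q) {r m : ℕ}
    (hr : r.Prime) (hrl : 3 < r) (hrq : ¬ r ∣ q) (hm : orderOf (q : ZMod r) = m) (h36 : m = 3 ∨ m = 6) :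
    ¬ Adj ↥(chevG2.group F) 2 r := by
  rintro ⟨x, hx⟩
  have hp : IsType chevG2 2 CoxeterMatrix.G₂ := by simp [IsType, typeList]
  obtain ⟨p, e, hpF, hpc, hpk, he, rfl, hk⟩ := exists_closure hq
  have hAk : Cfsg.Agent.BpExc.TorAll.HAlg p (AlgebraicClosure F) := Cfsg.Agent.H944.RootVals.hAlg_closure p F
  have cs := CoxeterMatrix.G₂.toCoxeterSystem
  have : Finite CoxeterMatrix.G₂.Group := finite_W hp cs
  have hrp : r ≠ p := fun h => hrq (by rw [h]; exact dvd_pow_self p he.ne')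
  have hpp : p.Prime := Fact.out
  have h2p : 2 ≠ p := by
    rintro rfl
    have : Odd 2 := (Nat.odd_pow_iff he.ne').1 hodd
    exact absurd this (by decide)
  have ho : orderOf (Cfsg.Agent.GpExc.Field.emb hp.inList (algebraMap F (AlgebraicClosure F)) x) = 2 * r := by
    rw [orderOf_injective _ (emb_injective hp.inList (algebraMap F (AlgebraicClosure F)))]
    exact hx
  obtain ⟨w, N, hN, hθ, hd⟩ := order_dvd hp cs hAk hk isFrob_phi (fr_phi hp cs)
    (phi_emb hp (algebraMap F (AlgebraicClosure F)) hq x)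
    (by rw [ho]; exact (Nat.mul_pos Nat.two_pos hr.pos).ne')
    (by rw [ho]; exact Nat.Coprime.mul_left ((Nat.coprime_primes Nat.prime_two hpp).2 h2p)
          ((Nat.coprime_primes hr hpp).2 hrp))
  rw [ho, Nat.cast_mul] at hd
  have hrank : Module.finrank ℤ (Fin 2 → ℤ) = 2 := by rw [Module.finrank_fintype_fun_eq_card, Fintype.card_fin]
  obtain ⟨h1, h2⟩ := Cfsg.Agent.H169.CycDvd.exists_cyclotomic (thL hp cs w _) hN hθ hr (by rw [hrank]; exact hrl)
    ((Dvd.intro_left _ rfl).trans hd)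
  simp only [Int.cast_natCast] at h1 h2
  rw [hm] at h1 h2
  have hmon : (thL hp cs w (AddEquiv.refl (Fin 2 → ℤ))).charpoly.Monic := LinearMap.charpoly_monic _
  have h3 : Polynomial.cyclotomic m ℤ = (thL hp cs w (AddEquiv.refl (Fin 2 → ℤ))).charpoly := by
    refine (Polynomial.eq_of_monic_of_dvd_of_natDegree_le (Polynomial.cyclotomic.monic m ℤ) hmon h2 ?_).symm
    rw [LinearMap.charpoly_natDegree, hrank, Polynomial.natDegree_cyclotomic]
    rcases h36 with rfl | rfl <;> decide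
  have h4 : (2 : ℤ) ∣ (Polynomial.cyclotomic m ℤ).eval ((p ^ e : ℕ) : ℤ) := by
    rw [h3]
    exact (Dvd.intro _ rfl).trans hd
  have hO : Odd ((p ^ e : ℕ) : ℤ) := by exact_mod_cast hodd
  have h5 : ¬ (2 : ℤ) ∣ (Polynomial.cyclotomic m ℤ).eval ((p ^ e : ℕ) : ℤ) := by
    generalize ((p ^ e : ℕ) : ℤ) = a at hO
    rcases h36 with rfl | rfl
    · rw [Polynomial.cyclotomic_three]
      simp only [Polynomial.eval_add, Polynomial.eval_pow, Polynomial.eval_X, Polynomial.eval_one]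
      intro h
      obtain ⟨k, rfl⟩ := hO
      obtain ⟨c, hc⟩ := h
      have : (2 * k + 1) ^ 2 + (2 * k + 1) + 1 = 2 * (2 * k ^ 2 + 3 * k + 1) + 1 := by ring
      omega
    · rw [Polynomial.cyclotomic_six]
      simp only [Polynomial.eval_add, Polynomial.eval_sub, Polynomial.eval_pow, Polynomial.eval_X,
        Polynomial.eval_one]
      intro h
      obtain ⟨k, rfl⟩ := hO
      obtain ⟨c, hc⟩ := h
      have : (2 * k + 1) ^ 2 - (2 * k + 1) + 1 = 2 * (2 * k ^ 2 + k) + 1 := by ring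
      omega
  exact h5 h4

theorem g2_of_three_le (F : Type u) [Field F] [Fintype F] {p f : ℕ} [Fact p.Prime] [CharP F p] (hf : 0 < f)
    (hF : Fintype.card F = p ^ f) (h3 : 3 ≤ p ^ f) (hp3 : p ^ f ≠ 3) : Has3Out ↥(chevG2.group F) := by
  have hp : IsType chevG2 2 CoxeterMatrix.G₂ := by simp [IsType, typeList]
  have hpp : p.Prime := Fact.out
  obtain ⟨r, hr, hr1, hr0, hr2, hr3, hr4⟩ := ppd_three (p := p) (f := f) Fact.out hf
  obtain ⟨s, hs, -, hs1, hs2, hs3, hs4⟩ := ppd (p := p) (f := f) (m := 6) Fact.out (by omega) (by omega) (by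
    rintro ⟨rfl, h⟩
    obtain rfl : f = 1 := by omega
    omega)
  have hcard := Cfsg.Agent.S1059.result (F := F) hF
  have hout := Cfsg.Agent.S2121.result (F := F) p f hF h3
  have hrs : ¬ Adj ↥(chevG2.group F) r s :=
    no_adj hp hF hr hs hr2 hs2 (by omega) (by omega) hr3 hs3 (by decide) (by decide)
  have drG : r ∣ Nat.card ↥(chevG2.group F) := by
    rw [hcard]
    exact Dvd.dvd.mul_left ((hr4 6).2 (by norm_num)) _
  have dsG : s ∣ Nat.card ↥(chevG2.group F) := by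
    rw [hcard]
    exact Dvd.dvd.mul_left ((hs4 6).2 (by norm_num)) _
  have nrs : r ≠ s := by rintro rfl; rw [hr3] at hs3; omega
  by_cases hf1 : f = 1
  · subst hf1
    rw [pow_one] at *
    have hp2 : p ≠ 2 := by rintro rfl; omega
    have hodd : Odd p := hpp.odd_of_ne_two hp2
    rw [if_neg hp3] at hout
    have h2 : ∀ t : ℕ, t.Prime → ¬ t ∣ Nat.card (Cfsg.Out ↥(chevG2.group F)) := by
      intro t ht h
      rw [hout] at h
      exact ht.one_lt.ne' (Nat.dvd_one.1 h)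
    refine ⟨2, r, s, Nat.prime_two, hr, hs, by omega, nrs, by omega, ?_, drG, dsG,
      two_no hF hodd hr (by omega) hr2 hr3 (Or.inl rfl), hrs,
      two_no hF hodd hs (by omega) hs2 hs3 (Or.inr rfl), h2 2 Nat.prime_two, h2 r hr, h2 s hs⟩
    rw [hcard]
    refine Dvd.dvd.mul_right (Dvd.dvd.mul_left ?_ _) _
    obtain ⟨k, hk⟩ := hodd
    refine ⟨2 * k ^ 2 + 2 * k, ?_⟩
    rw [hk]
    refine Nat.sub_eq_of_eq_add ?_
    ring
  · -- a prime of order `1` or `2`
    obtain ⟨t, m, ht, ht1, ht0, ht2, ht3, ht4, hm⟩ : ∃ t m : ℕ, t.Prime ∧ f < t ∧ 3 < t ∧ ¬ t ∣ p ^ f ∧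
        orderOf ((p ^ f : ℕ) : ZMod t) = m ∧ (∀ j, t ∣ (p ^ f) ^ j - 1 ↔ m ∣ j) ∧ (m = 1 ∨ m = 2) := by
      by_cases h8 : p = 2 ∧ f * 2 = 6
      · obtain ⟨rfl, h8⟩ := h8
        obtain rfl : f = 3 := by omega
        obtain ⟨t, ht, -, ht1, ht2, ht3, ht4⟩ := ppd (p := 2) (f := 3) (m := 1) Nat.prime_two (by omega) (by omega)
          (by omega)
        exact ⟨t, 1, ht, by omega, by omega, ht2, ht3, ht4, Or.inl rfl⟩
      · obtain ⟨t, ht, -, ht1, ht2, ht3, ht4⟩ := ppd (p := p) (f := f) (m := 2) hpp (by omega) (by omega) h8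
        exact ⟨t, 2, ht, by omega, by omega, ht2, ht3, ht4, Or.inr rfl⟩
    have hmr : 2 < (3 : ℕ).totient + m.totient := by rcases hm with rfl | rfl <;> decide
    have hms : 2 < m.totient + (6 : ℕ).totient := by rcases hm with rfl | rfl <;> decide
    refine mk_has3Out (f := f) hr ht hs hf (by omega) (by omega) (by omega) (by omega) (by omega) (by omega)
      (by
        rw [hout]
        split_ifs
        · exact Nat.mul_dvd_mul_right (by norm_num) f
        · exact Dvd.intro_left 6 rfl) ?_ ?_ nrs drG ?_ dsG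
      (no_adj hp hF hr ht hr2 ht2 (by omega) (by omega) hr3 ht3 (by omega) hmr)
      (no_adj hp hF ht hs ht2 hs2 (by omega) (by omega) ht3 hs3 (by omega) hms) hrs
    · rintro rfl; rw [hr3] at ht3; omega
    · rintro rfl; rw [ht3] at hs3; omega
    · rw [hcard]
      exact Dvd.dvd.mul_left ((ht4 6).2 (by rcases hm with rfl | rfl <;> decide)) _

theorem g2_goal.{a, b} (F : Type a) [Field F] [Fintype F] (h3 : 3 ≤ Fintype.card F) :
    Goal.{a, b} ↥(chevG2.group F) := by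
  obtain ⟨p, f, hpp, hpc, hf, hF⟩ := exists_pf F
  by_cases hq : p ^ f = 3
  · rw [hq] at hF
    have hcard := Cfsg.Agent.S1059.result (F := F) hF
    have hp3 : p = 3 := by
      have h1 : p ∣ 3 := by rw [← hq]; exact dvd_pow_self p hf.ne'
      exact (Nat.prime_dvd_prime_iff_eq Fact.out Nat.prime_three).1 h1
    subst hp3
    have hf1 : f = 1 := by
      by_contra h
      have h2 : 3 ^ 2 ≤ 3 ^ f := Nat.pow_le_pow_right (by norm_num) (by omega)
      omega
    subst hf1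
    have hout := Cfsg.Agent.S2121.result (F := F) 3 1 hF (by norm_num)
    rw [if_pos rfl] at hout
    refine goal_of_primes {2, 3, 7, 13} (by decide) ?_ ?_
    · intro p hp h
      rw [hcard] at h
      have e : 3 ^ 6 * (3 ^ 2 - 1) * (3 ^ 6 - 1) = 2 ^ 6 * 3 ^ 6 * 7 * 13 := by norm_num
      rw [e] at h
      simp only [Finset.mem_insert, Finset.mem_singleton]
      rcases hp.dvd_mul.1 h with h | h
      · rcases hp.dvd_mul.1 h with h | h
        · rcases hp.dvd_mul.1 h with h | h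
          · exact Or.inl ((Nat.prime_dvd_prime_iff_eq hp Nat.prime_two).1 (hp.dvd_of_dvd_pow h))
          · exact Or.inr (Or.inl ((Nat.prime_dvd_prime_iff_eq hp Nat.prime_three).1 (hp.dvd_of_dvd_pow h)))
        · exact Or.inr (Or.inr (Or.inl ((Nat.prime_dvd_prime_iff_eq hp (by norm_num)).1 h)))
      · exact Or.inr (Or.inr (Or.inr ((Nat.prime_dvd_prime_iff_eq hp (by norm_num)).1 h)))
    · intro p hp h
      rw [hout] at h
      simp only [Finset.mem_insert, Finset.mem_singleton]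
      exact Or.inl ((Nat.prime_dvd_prime_iff_eq hp Nat.prime_two).1 h)
  · exact goal_of_has3Out (g2_of_three_le F hf hF (hF ▸ h3) hq)

end Cfsg.Agent.H169.ExcG2
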