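import Cfsg.Agent.H169.ExcD4
import Cfsg.Agent.H169.ExcRank
import Cfsg.Agent.H169.ExcG2
import Cfsg.Prelude.Def_Classification2

/-!
# The goal for all exceptional groups of Lie type
-/

set_option autoImplicit false

namespace Cfsg.Agent.H169.ExcAll

open Cfsg Cfsg.Lie Cfsg.Agent.H163.PG

/-- **Part (5) of the solvable prime graph theorem.** -/
theorem goal_exceptional.{a, b} {S : Type a} [Group S] [Finite S] (h : IsExceptionalLieType S) : Goal.{a, b} S := by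
  rcases h with h | h | h | h | h | h | h | h | h | h | h
  · obtain ⟨F, _, _, h3, ⟨e⟩⟩ := h
    exact Goal.congr e.symm (ExcG2.g2_goal F h3)
  · obtain ⟨F, _, _, ⟨e⟩⟩ := h
    exact Goal.congr e.symm (goal_of_has3Out (ExcRows.F4 F))
  · obtain ⟨F, _, _, ⟨e⟩⟩ := h
    exact Goal.congr e.symm (goal_of_has3Out (ExcRows.E6 F))
  · obtain ⟨F, _, _, ⟨e⟩⟩ := h
    exact Goal.congr e.symm (goal_of_has3Out (ExcRows.E7 F))
  · obtain ⟨F, _, _, ⟨e⟩⟩ := h
    exact Goal.congr e.symm (goal_of_has3Out (ExcRows.E8 F))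
  · obtain ⟨K, _, _, q, hq, hK, ⟨e⟩⟩ := h
    exact Goal.congr e.symm (goal_of_has3Out (ExcTw.twE6 hq hK))
  · obtain ⟨K, _, _, q, hq, hK, ⟨e⟩⟩ := h
    exact Goal.congr e.symm (ExcD4.twD4_goal hq hK)
  · obtain ⟨F, _, _, m, hm, hF, ⟨e⟩⟩ := h
    exact Goal.congr e.symm (goal_of_has3Out (ExcRank.suz hm hF))
  · obtain ⟨K, _, _, m, hm, hK, ⟨e⟩⟩ := h
    exact Goal.congr e.symm (goal_of_has3Out (ExcRank.ree hm hK))
  · obtain ⟨K, _, _, m, hm, hK, ⟨e⟩⟩ := h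
    exact Goal.congr e.symm (goal_of_has3Out (ExcRank.twF4 hm hK))
  · exact ExcRank.tits h

end Cfsg.Agent.H169.ExcAll
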