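import Cfsg.Agent.H169.U3
import Cfsg.Agent.H149.PGUGoal

/-!
# The row `PSU_3(q)` of S2529: conclusion

`goalA_one` (odd characteristic with an odd prime divisor of `q - 1`), `goalA_fermat` (`q = p` a Fermat prime),
`goalA_two` (even characteristic), `goal_psu3`.
-/

set_option autoImplicit false
set_option linter.unusedSectionVars false

namespace Cfsg.Agent.H169.U3

open Cfsg Cfsg.Agent.H163.PG Cfsg.Agent.H169.UAut Cfsg.Agent.H169.U3Adj Cfsg.Agent.H169.U3Diag
open Cfsg.Agent.LieClassical.HermBasic (conj conj_apply)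
open Cfsg.Agent.Schreier.PSU (f₁ f₂)

universe u v

variable {F : Type u} [Field F] [Fintype F] {p f q : ℕ}

theorem charP_of' {q : ℕ} (hp : p.Prime) (hf : 1 ≤ f) (hq : q = p ^ f) (hF : Fintype.card F = q ^ 2) : CharP F p := by
  obtain ⟨c, hc⟩ := CharP.exists F
  obtain ⟨m, hc', hm⟩ := FiniteField.card F c
  have h1 : c ∣ p ^ (f * 2) := by
    rw [pow_mul, ← hq, ← hF, hm]
    exact dvd_pow_self c m.pos.ne'
  rw [← (Nat.prime_dvd_prime_iff_eq hc' hp).1 (hc'.dvd_of_dvd_pow h1)]
  exact hc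

theorem not_adj_of_not_dvd' {S : Type v} [Group S] {r s : ℕ} (h : ¬ r ∣ Nat.card S) : ¬ Adj S r s := by
  rintro ⟨g, hg⟩
  apply h
  exact (Dvd.intro s hg.symm : r ∣ orderOf g).trans (orderOf_dvd_natCard g)

theorem outer_dvd {S : Type v} [Group S] [Finite S] (hZ : Subgroup.center S = ⊥) {A : Subgroup (MulAut S)}
    {s : ℕ} (hs : s.Prime) (hsA : s ∣ Nat.card A) (hsS : ¬ s ∣ Nat.card S) : s ∣ Nat.card (Cfsg.Out S) := by
  have h1 : Nat.card A ∣ Nat.card (MulAut S) := Subgroup.card_subgroup_dvd_card A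
  rw [← card_out_mul hZ] at h1
  exact (hs.dvd_mul.1 (hsA.trans h1)).resolve_right hsS

theorem has3_of_inner' {S : Type v} [Group S] (hZ : Subgroup.center S = ⊥) {A : Subgroup (MulAut S)} (hA : Inn S ≤ A)
    {p q r : ℕ} (hp : p.Prime) (hq : q.Prime) (hr : r.Prime) (hpq : p ≠ q) (hqr : q ≠ r) (hpr : p ≠ r)
    (dp : p ∣ Nat.card S) (dq : q ∣ Nat.card S) (dr : r ∣ Nat.card S)
    (ip : ∀ y ∈ A, orderOf y = p → y ∈ Inn S) (iq : ∀ y ∈ A, orderOf y = q → y ∈ Inn S)
    (ir : ∀ y ∈ A, orderOf y = r → y ∈ Inn S)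
    (n1 : ¬ Adj S p q) (n2 : ¬ Adj S q r) (n3 : ¬ Adj S p r) : Has3 A :=
  ⟨p, q, r, hp, hq, hr, hpq, hqr, hpr, dvd_card_A hZ hA dp, dvd_card_A hZ hA dq, dvd_card_A hZ hA dr,
    not_adj' hZ hp hq hpq ip iq n1, not_adj' hZ hq hr hqr iq ir n2, not_adj' hZ hp hr hpr ip ir n3⟩

section

variable (hp : p.Prime) (hf : 1 ≤ f) (hq : q = p ^ f) (hF : Fintype.card F = q ^ 2) (h32 : q ≠ 2)
include hp hf hq hF h32

/-- elements of prime order prime to `2 f gcd(3, q + 1)` are inner -/
theorem inner_of {r : ℕ} (hr : r.Prime) (h2 : r ≠ 2) (h3 : ¬ r ∣ Nat.gcd 3 (q + 1)) (hrf : ¬ r ∣ f)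
    {x : MulAut (PSU 3 F q)} (hx : orderOf x = r) : x ∈ Inn (PSU 3 F q) := by
  refine inner_of_not_dvd hr ?_ hx
  rw [card_out_psu hp hf hq hF le_rfl (fun h => h32 h.2)
    (Cfsg.Agent.H292.PsuTwo.center_psu hF le_rfl (fun h => h32 h.2))]
  intro h
  rcases hr.dvd_mul.1 h with h | h
  · exact h3 h
  · rcases hr.dvd_mul.1 h with h | h
    · exact h2 ((Nat.prime_dvd_prime_iff_eq hr Nat.prime_two).1 h)
    · exact hrf h

theorem inner_six {r : ℕ} (h : Six p f q r) {x : MulAut (PSU 3 F q)} (hx : orderOf x = r) : x ∈ Inn (PSU 3 F q) :=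
  inner_of hp hf hq hF h32 h.ppd.prime h.ne_two
    (fun hd => h.ne_three ((Nat.prime_dvd_prime_iff_eq h.ppd.prime Nat.prime_three).1
      (hd.trans (Nat.gcd_dvd_left _ _)))) h.not_f hx

/-- inner-diagonal elements of prime order prime to `gcd(3, q + 1)` are inner -/
theorem inner_of_diag {r : ℕ} (hr : r.Prime) (h3 : ¬ r ∣ Nat.gcd 3 (q + 1))
    {x : MulAut (PSU 3 F q)} (hxD : x ∈ inndiagPSU 3 F q) (hx : orderOf x = r) : x ∈ Inn (PSU 3 F q) :=
  mem_inn_of_coprime hF le_rfl hxD (k := r) (by rw [← hx]; exact pow_orderOf_eq_one x)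
    ((Nat.Prime.coprime_iff_not_dvd hr).2 h3)

/-- odd characteristic, `r` an odd prime divisor of `q - 1` -/
theorem goalA_one (hp2 : p ≠ 2) {r : ℕ} (hr : r.Prime) (hr2 : r ≠ 2) (hrd : r ∣ q - 1) (hrf : f ≤ 2 ∨ Ppd p f r) :
    GoalA (PSU 3 F q) := by
  intro A hA
  left
  have hpF := Fact.mk hp
  have hpC : CharP F p := charP_of' hp hf hq hF
  have hq1 : 1 ≤ q := by rw [hq]; exact Nat.one_le_pow _ _ hp.pos
  have hZ := Cfsg.Agent.H292.PsuTwo.center_psu hF (le_refl 3) (fun h => h32 h.2)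
  obtain ⟨s, hs⟩ := Ppd.exists (p := p) (n := f * 6) hp.two_le (by omega) (fun h => hp2 h.1)
  have h6 := six_of_ppd hp hf hq hs
  have hpo : Odd p := hp.odd_of_ne_two hp2
  have hpq : p ∣ q := by rw [hq]; exact dvd_pow_self p (by omega)
  have hr1 : ¬ r ∣ q + 1 := not_dvd_succ_of_pred hr hr2 hq1 hrd
  have hrq : r ∣ q ^ 2 - 1 := (dvd_sq_iff hr).2 (Or.inr hrd)
  have hrp : r ≠ p := by
    rintro rfl
    exact not_dvd_sq_of_self hq1 hr hpq hrq
  have hrs : r ≠ s := by
    rintro rfl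
    exact not_dvd_quad_of_pred hq1 hr hrd h6.quad
  have hrg : ¬ r ∣ Nat.gcd 3 (q + 1) := fun h => hr1 (h.trans (Nat.gcd_dvd_right _ _))
  have hpg : ¬ p ∣ Nat.gcd 3 (q + 1) := fun h => not_dvd_succ_of_self hp hpq (h.trans (Nat.gcd_dvd_right _ _))
  have hrnf : ¬ r ∣ f := by
    intro hd
    have h1 := Nat.le_of_dvd hf hd
    rcases hrf with h | h
    · have := hr.two_le
      omega
    · have := h.lt hf
      omega
  have ir : ∀ y ∈ A, orderOf y = r → y ∈ Inn (PSU 3 F q) := fun y _ hy => inner_of hp hf hq hF h32 hr hr2 hrg hrnf hy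
  have is : ∀ y ∈ A, orderOf y = s → y ∈ Inn (PSU 3 F q) := fun y _ hy => inner_six hp hf hq hF h32 h6 hy
  have ip : ∀ {t : ℕ}, (f ≤ 2 ∨ ∀ x : MulAut (PSU 3 F q), orderOf x = p → x ∉ inndiagPSU 3 F q →
      ¬ t ∣ Nat.card ↥(inndiagPSU 3 F q ⊓ Subgroup.centralizer {x})) → ∀ x ∈ A, orderOf x = p →
      x ∈ Inn (PSU 3 F q) ∨ ¬ t ∣ Nat.card ↥(inndiagPSU 3 F q ⊓ Subgroup.centralizer {x}) := by
    intro t ht x _ hx
    by_cases hxD : x ∈ inndiagPSU 3 F q
    · exact Or.inl (inner_of_diag hp hf hq hF h32 hp hpg hxD hx)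
    · rcases ht with h | h
      · exfalso
        have h1 := Nat.le_of_dvd hf (psu_cent_field hp hf hq hF le_rfl (fun h => h32 h.2) hp hpo hx hxD).1
        have h2 := hp.two_le
        omega
      · exact Or.inr (h x hx hxD)
  refine ⟨p, r, s, hp, hr, hs.prime, hrp.symm, hrs, h6.ne_p.symm, dvd_card_A hZ hA (char_dvd_psu hp hf hq hF (by norm_num)),
    dvd_card_A hZ hA (one_dvd_card hF hr hr1 hrq), dvd_card_A hZ hA (h6.dvd_card hF hq1), ?_, ?_, ?_⟩
  · refine not_adj hZ hp hr hrp.symm (inndiagPSU 3 F q) (inn_le_inndiag hF) ir (ip ?_) (na_char hF hq hf hr hr2 hrp hr1)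
    rcases hrf with h | h
    · exact Or.inl h
    · exact Or.inr fun x hx hxD => cent_one hp hf hq hF h32 hp hpo hx hxD h hr1
  · exact not_adj' hZ hr hs.prime hrs ir is (na_one_six hF hq hr hs.prime hr2 hrp hrd h6.ne_three h6.quad)
  · refine not_adj hZ hp hs.prime h6.ne_p.symm (inndiagPSU 3 F q) (inn_le_inndiag hF) is (ip ?_)
      (na_char hF hq hf hs.prime h6.ne_two h6.ne_p h6.not_succ)
    exact Or.inr fun x hx hxD => cent_six hp hf hq hF h32 hp hpo hx hxD hs

omit h32 in
theorem two_dvd_card (hp2 : p ≠ 2) : 2 ∣ Nat.card (PSU 3 F q) := by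
  have hq1 : 1 ≤ q := by rw [hq]; exact Nat.one_le_pow _ _ hp.pos
  have hqo : Odd q := by rw [hq]; exact (hp.odd_of_ne_two hp2).pow
  have h1 := card_eq hF
  have h2 : 2 ∣ Nat.gcd 3 (q + 1) * Nat.card (PSU 3 F q) := by
    rw [h1]
    apply Dvd.dvd.mul_right
    apply Dvd.dvd.mul_left
    obtain ⟨k, hk⟩ := hqo
    rw [sq_sub_one_eq, hk]
    exact Dvd.dvd.mul_right (Dvd.intro (k + 1) (by ring)) _
  rcases Nat.prime_two.dvd_mul.1 h2 with h | h
  · have := h.trans (Nat.gcd_dvd_left 3 _)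
    omega
  · exact h

/-- `q = p` a Fermat prime -/
theorem goalA_fermat (hf1 : f = 1) {k : ℕ} (hk : q - 1 = 2 ^ k) (h7 : 7 ≤ q) (h3 : 3 ∣ q + 1) :
    GoalA (PSU 3 F q) := by
  subst hf1
  intro A hA
  classical
  have hpF := Fact.mk hp
  have hpC : CharP F p := charP_of' hp le_rfl hq hF
  have hqp : q = p := by rw [hq, pow_one]
  have hp2 : p ≠ 2 := by omega
  have hq1 : 1 ≤ q := by omega
  have hZ := Cfsg.Agent.H292.PsuTwo.center_psu hF (le_refl 3) (fun h => h32 h.2)
  have hg : Nat.gcd 3 (q + 1) = 3 := Nat.gcd_eq_left h3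
  have hO : Nat.card (Cfsg.Out (PSU 3 F q)) = 3 * (2 * 1) := by
    rw [card_out_psu hp le_rfl hq hF le_rfl (fun h => h32 h.2) hZ, hg]
  obtain ⟨t, ht⟩ := Ppd.exists (p := p) (n := 1 * 6) hp.two_le (by omega) (fun h => hp2 h.1)
  have h6 := six_of_ppd hp le_rfl hq ht
  have hpo : Odd p := hp.odd_of_ne_two hp2
  have hpq : p ∣ q := by rw [hqp]
  have hqo : 2 ∣ q + 1 := by
    rw [hqp]
    obtain ⟨m, hm⟩ := hpo
    omega
  have h2S := two_dvd_card hp le_rfl hq hF hp2
  have h3S := three_dvd_card hF hq1 h3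
  have hp3 : p ≠ 3 := by omega
  by_cases hcase : ¬ 9 ∣ q + 1 ∧ ¬ 3 ∣ (Inn (PSU 3 F q)).relIndex A
  · left
    obtain ⟨h9, hrel⟩ := hcase
    refine has3_of_inner' hZ hA Nat.prime_three hp ht.prime hp3.symm h6.ne_p.symm h6.ne_three.symm h3S
      (char_dvd_psu hp le_rfl hq hF (by norm_num)) (h6.dvd_card hF hq1)
      (fun y hyA hy => inner_of_not_dvd_relIndex Nat.prime_three hrel hyA hy)
      (fun y _ hy => inner_of hp le_rfl hq hF h32 hp hp2
        (fun h => not_dvd_succ_of_self hp hpq (h.trans (Nat.gcd_dvd_right _ _)))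
        (fun h => by have := hp.two_le; have := Nat.le_of_dvd (by norm_num) h; omega) hy)
      (fun y _ hy => inner_six hp le_rfl hq hF h32 h6 hy) (na_three_char hF hq le_rfl h3 h9)
      (na_char hF hq le_rfl ht.prime h6.ne_two h6.ne_p h6.not_succ) (na_three_six hF hq le_rfl h3 ht.prime h6.ne_three h6.quad)
  · right
    have hcase' : 9 ∣ q + 1 ∨ 3 ∣ (Inn (PSU 3 F q)).relIndex A := by
      by_contra h
      rw [not_or] at h
      exact hcase h
    have hπ : ∀ s : ℕ, s.Prime → s ∣ Nat.card A → s ∣ Nat.card (PSU 3 F q) := by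
      intro s hs hsA
      by_contra hcon
      have h1 := outer_dvd hZ hs hsA hcon
      rw [hO] at h1
      rcases hs.dvd_mul.1 h1 with h | h
      · rw [(Nat.prime_dvd_prime_iff_eq hs Nat.prime_three).1 h] at hcon
        exact hcon h3S
      · rw [(Nat.prime_dvd_prime_iff_eq hs Nat.prime_two).1 (by simpa using h)] at hcon
        exact hcon h2S
    have key : ∀ r : ℕ, r.Prime → r ∣ Nat.card A → ¬ (r ∣ q ^ 2 - q + 1 ∧ r ≠ 3) → r = p ∨ r ∣ q + 1 := by
      intro r hr hrA ho
      rcases dvd_cases hp hq hF hr (hπ r hr hrA) with h | h | h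
      · exact Or.inl h
      · right
        rcases (dvd_sq_iff hr).1 h with h | h
        · exact h
        · rw [hk] at h
          rw [(Nat.prime_dvd_prime_iff_eq hr Nat.prime_two).1 (hr.dvd_of_dvd_pow h)]
          exact hqo
      · exact absurd h ho
    have hpA : ∀ r : ℕ, r.Prime → r ∣ q + 1 → Adj A p r := by
      intro r hr h1
      by_cases h2 : 9 ∣ q + 1 ∨ r ≠ 3
      · exact adj_A hZ hA (adj_char (p := p) hF hr h1 (Or.inr h2))
      · rw [not_or, not_not] at h2
        obtain ⟨h9, rfl⟩ := h2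
        have hD := inndiag_le hp le_rfl hq hF h32 hg (by norm_num) hA (hcase'.resolve_left h9)
        exact (adj_diag hF hD h3 hp hp3 (hpq.mul_right _)).symm
    refine ⟨fun r => r ∣ q ^ 2 - q + 1 ∧ r ≠ 3, fun r s hr hs hrs hrA hsA hX => ?_⟩
    by_cases hXr : r ∣ q ^ 2 - q + 1 ∧ r ≠ 3
    · have hXs : s ∣ q ^ 2 - q + 1 ∧ s ≠ 3 := hX.1 hXr
      exact adj_A hZ hA (adj_six hF hq hr hs hrs hXr.2 hXs.2 hXr.1 hXs.1)
    · have hXs : ¬ (s ∣ q ^ 2 - q + 1 ∧ s ≠ 3) := fun h => hXr (hX.2 h)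
      rcases key r hr hrA hXr with h1 | h1
      · rw [h1] at hrs ⊢
        rcases key s hs hsA hXs with h3 | h3
        · exact absurd h3.symm hrs
        · exact hpA s hs h3
      · rcases key s hs hsA hXs with h3 | h3
        · rw [h3]
          exact (hpA r hr h1).symm
        · exact adj_A hZ hA (adj_succ hF hr hs hrs h1 h3)

end

section

variable (hf : 1 ≤ f) (hq : q = 2 ^ f) (hF : Fintype.card F = q ^ 2) (h32 : q ≠ 2)
include hf hq hF h32

/-- even characteristic -/
theorem goalA_two (h4 : 4 ≤ f) : GoalA (PSU 3 F q) := by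
  intro A hA
  classical
  have hp := Nat.prime_two
  have hpF := Fact.mk hp
  have hpC : CharP F 2 := charP_of' hp hf hq hF
  have hq1 : 1 ≤ q := by rw [hq]; exact Nat.one_le_pow _ _ hp.pos
  have hqe : 2 ∣ q := by rw [hq]; exact dvd_pow_self 2 (by omega)
  have hZ := Cfsg.Agent.H292.PsuTwo.center_psu hF (le_refl 3) (fun h => h32 h.2)
  have hodd : Odd (Nat.gcd 3 (q + 1)) := Odd.of_dvd_nat (by decide : Odd 3) (Nat.gcd_dvd_left 3 _)
  have h2S : 2 ∣ Nat.card (PSU 3 F q) := char_dvd_psu hp hf hq hF (by norm_num)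
  have h3cases : 3 ∣ q + 1 ∨ (¬ 3 ∣ q + 1 ∧ 3 ∣ q - 1) := by
    have h1 : ¬ 3 ∣ q := by
      rw [hq]
      intro h
      have := (Nat.prime_dvd_prime_iff_eq Nat.prime_three Nat.prime_two).1 (Nat.prime_three.dvd_of_dvd_pow h)
      omega
    have h2 : q % 3 = 1 ∨ q % 3 = 2 := by omega
    rcases h2 with h2 | h2
    · right
      constructor <;> omega
    · left
      omega
  have h3sq : 3 ∣ q ^ 2 - 1 := by
    rw [dvd_sq_iff Nat.prime_three]
    rcases h3cases with h | h
    · exact Or.inl h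
    · exact Or.inr h.2
  have h3S : 3 ∣ Nat.card (PSU 3 F q) := by
    rcases h3cases with h | h
    · exact three_dvd_card hF hq1 h
    · exact one_dvd_card hF Nat.prime_three h.1 h3sq
  obtain ⟨s, hs⟩ := Ppd.exists (p := 2) (n := f * 6) le_rfl (by omega) (by omega)
  have h6 := six_of_ppd hp hf hq hs
  obtain ⟨r, hr, hrd, hr2, hrf, hrp⟩ : ∃ r : ℕ, r.Prime ∧ r ∣ q - 1 ∧ r ≠ 2 ∧ ¬ r ∣ f ∧ (f ≠ 6 → Ppd 2 f r) := by
    by_cases hf6 : f = 6
    · subst hf6
      refine ⟨7, by norm_num, ?_, by norm_num, by norm_num, fun h => absurd rfl h⟩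
      rw [hq]
      norm_num
    · obtain ⟨r, hr⟩ := Ppd.exists (p := 2) (n := f) le_rfl (by omega) (by omega)
      refine ⟨r, hr.prime, ?_, hr.ne_two (by omega), ?_, fun _ => hr⟩
      · rw [hq, hr.dvd_iff (by norm_num)]
      · intro hd
        have h1 := Nat.le_of_dvd hf hd
        have h2 := hr.lt hf
        omega
  have hr1 : ¬ r ∣ q + 1 := not_dvd_succ_of_pred hr hr2 hq1 hrd
  have hrq : r ∣ q ^ 2 - 1 := (dvd_sq_iff hr).2 (Or.inr hrd)
  have hrs : r ≠ s := by
    rintro rfl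
    exact not_dvd_quad_of_pred hq1 hr hrd h6.quad
  have hrg : ¬ r ∣ Nat.gcd 3 (q + 1) := fun h => hr1 (h.trans (Nat.gcd_dvd_right _ _))
  have ir : ∀ y ∈ A, orderOf y = r → y ∈ Inn (PSU 3 F q) := fun y _ hy => inner_of hp hf hq hF h32 hr hr2 hrg hrf hy
  have is : ∀ y ∈ A, orderOf y = s → y ∈ Inn (PSU 3 F q) := fun y _ hy => inner_six hp hf hq hF h32 h6 hy
  have dr := one_dvd_card hF hr hr1 hrq
  have ds := h6.dvd_card hF hq1
  have nrs := na_one_six hF hq hr hs.prime hr2 hr2 hrd h6.ne_three h6.quad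
  by_cases h2A : 2 ∣ (Inn (PSU 3 F q)).relIndex A
  swap
  · left
    exact has3_of_inner' hZ hA hp hr hs.prime hr2.symm hrs h6.ne_two.symm h2S dr ds
      (fun y hyA hy => inner_of_not_dvd_relIndex hp h2A hyA hy) ir is (na_char hF hq hf hr hr2 hr2 hr1) nrs
      (na_char hF hq hf hs.prime h6.ne_two h6.ne_p h6.not_succ)
  obtain ⟨g, hgD, hgA⟩ := exists_graph hF le_rfl (fun h => h32 h.2) hodd hA h2A
  obtain ⟨hγ, hγ2⟩ := graph_std hF le_rfl g hgD
  by_cases ht : ∃ t : ℕ, t.Prime ∧ t ∣ Nat.card A ∧ ¬ t ∣ Nat.card (PSU 3 F q)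
  · left
    obtain ⟨t, ht, htA, htS⟩ := ht
    have ht2 : t ≠ 2 := by rintro rfl; exact htS h2S
    have ht3 : t ≠ 3 := by rintro rfl; exact htS h3S
    have hto := ht.odd_of_ne_two ht2
    have ht5 : 5 ≤ t := by
      have := ht.two_le
      obtain ⟨m, hm⟩ := hto
      omega
    have htr : t ≠ r := by rintro rfl; exact htS dr
    have hts : t ≠ s := by rintro rfl; exact htS ds
    have htg : ¬ t ∣ Nat.gcd 3 (q + 1) := fun h => ht3 ((Nat.prime_dvd_prime_iff_eq ht Nat.prime_three).1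
      (h.trans (Nat.gcd_dvd_left _ _)))
    have it : ∀ {w : ℕ}, (∀ x : MulAut (PSU 3 F q), orderOf x = t → x ∉ inndiagPSU 3 F q →
        ¬ w ∣ Nat.card ↥(inndiagPSU 3 F q ⊓ Subgroup.centralizer {x})) → ∀ x ∈ A, orderOf x = t →
        x ∈ Inn (PSU 3 F q) ∨ ¬ w ∣ Nat.card ↥(inndiagPSU 3 F q ⊓ Subgroup.centralizer {x}) := by
      intro w hw x _ hx
      by_cases hxD : x ∈ inndiagPSU 3 F q
      · exact Or.inl (inner_of_diag hp hf hq hF h32 ht htg hxD hx)
      · exact Or.inr (hw x hx hxD)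
    refine ⟨t, r, s, ht, hr, hs.prime, htr, hrs, hts, htA, dvd_card_A hZ hA dr, dvd_card_A hZ hA ds, ?_,
      not_adj' hZ hr hs.prime hrs ir is nrs, ?_⟩
    · refine not_adj hZ ht hr htr (inndiagPSU 3 F q) (inn_le_inndiag hF) ir (it ?_) (not_adj_of_not_dvd' htS)
      intro x hx hxD
      have h7 := (psu_cent_field hp hf hq hF le_rfl (fun h => h32 h.2) ht hto hx hxD).1
      refine cent_one hp hf hq hF h32 ht hto hx hxD (hrp ?_) hr1
      rintro rfl
      have h8 : t ∣ 2 * 3 := h7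
      rcases ht.dvd_mul.1 h8 with h | h
      · exact ht2 ((Nat.prime_dvd_prime_iff_eq ht Nat.prime_two).1 h)
      · exact ht3 ((Nat.prime_dvd_prime_iff_eq ht Nat.prime_three).1 h)
    · refine not_adj hZ ht hs.prime hts (inndiagPSU 3 F q) (inn_le_inndiag hF) is (it ?_) (not_adj_of_not_dvd' htS)
      exact fun x hx hxD => cent_six hp hf hq hF h32 ht hto hx hxD hs
  push Not at ht
  by_cases hcase : 3 ∣ q + 1 ∧ ¬ 9 ∣ q + 1 ∧ ¬ 3 ∣ (Inn (PSU 3 F q)).relIndex A
  · left
    obtain ⟨h31, h9, hrel⟩ := hcase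
    have n3r : 3 ≠ r := by rintro rfl; exact hr1 h31
    exact has3_of_inner' hZ hA Nat.prime_three hr hs.prime n3r hrs h6.ne_three.symm h3S dr ds
      (fun y hyA hy => inner_of_not_dvd_relIndex Nat.prime_three hrel hyA hy) ir is
      (na_three_one hF hq h31 h9 hr hr2 hr2 hrd) nrs (na_three_six hF hq hf h31 hs.prime h6.ne_three h6.quad)
  right
  have hD : 3 ∣ q + 1 → ¬ 9 ∣ q + 1 → inndiagPSU 3 F q ≤ A := by
    intro h1 h2
    have hrel : 3 ∣ (Inn (PSU 3 F q)).relIndex A := by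
      by_contra h
      exact hcase ⟨h1, h2, h⟩
    exact inndiag_le hp hf hq hF h32 (Nat.gcd_eq_left h1) (three_not_dvd hp hq h1 h2) hA hrel
  have hn2 : ∀ w : ℕ, w ∣ q ^ 2 - 1 → w ≠ 2 := by
    rintro w h rfl
    exact not_dvd_sq_of_self hq1 hp hqe h
  have h2w : ∀ w : ℕ, w.Prime → w ∣ q ^ 2 - 1 → Adj A 2 w := by
    intro w hw hwd
    have hw2 := hn2 w hwd
    by_cases h3 : w = 3 ∧ 3 ∣ q + 1 ∧ 9 ∣ q + 1
    · obtain ⟨rfl, h31, h9⟩ := h3
      exact adj_A hZ hA (adj_char (p := 2) hF hw h31 (Or.inr (Or.inl h9)))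
    · obtain ⟨y, hyD, hy, hc⟩ := graph_cent hf hq hF h32 hγ hγ2 hw hw2 hwd
      have hyA : y ∈ A := by
        by_cases hg : w ∣ Nat.gcd 3 (q + 1)
        · have hw3 := (Nat.prime_dvd_prime_iff_eq hw Nat.prime_three).1 (hg.trans (Nat.gcd_dvd_left _ _))
          subst hw3
          have h31 := hg.trans (Nat.gcd_dvd_right _ _)
          exact hD h31 (fun h9 => h3 ⟨rfl, h31, h9⟩) hyD
        · exact hA (inner_of_diag hp hf hq hF h32 hw hg hyD hy)
      refine adj_of_commute hp hw hw2.symm (x := (⟨_, hgA⟩ : A)) (y := ⟨y, hyA⟩) ?_ ?_ ?_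
      · rw [Subgroup.orderOf_mk]
        exact hγ2
      · rw [Subgroup.orderOf_mk]
        exact hy
      · exact Subtype.ext hc
  have hww : ∀ w z : ℕ, w.Prime → z.Prime → w ≠ z → w ∣ q ^ 2 - 1 → z ∣ q ^ 2 - 1 → Adj A w z := by
    intro w z hw hz hwz h1 h2
    by_cases h3 : ¬ 3 ∣ q + 1 ∨ 9 ∣ q + 1 ∨ (w ≠ 3 ∧ z ≠ 3)
    · exact adj_A hZ hA (adj_sq hF hq hw hz hwz h1 h2 h3)
    · rw [not_or, not_or, not_not] at h3
      obtain ⟨h31, h9, h5⟩ := h3
      have hDA := hD h31 h9
      by_cases hw3 : w = 3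
      · subst hw3
        exact adj_diag hF hDA h31 hz hwz.symm (h2.mul_left _)
      · have hz3 : z = 3 := by
          by_contra h
          exact h5 ⟨hw3, h⟩
        subst hz3
        exact (adj_diag hF hDA h31 hw hwz (h1.mul_left _)).symm
  refine ⟨fun r => r ∣ q ^ 2 - q + 1 ∧ r ≠ 3, fun w z hw hz hwz hwA hzA hX => ?_⟩
  by_cases hXw : w ∣ q ^ 2 - q + 1 ∧ w ≠ 3
  · have hXz : z ∣ q ^ 2 - q + 1 ∧ z ≠ 3 := hX.1 hXw
    exact adj_A hZ hA (adj_six hF hq hw hz hwz hXw.2 hXz.2 hXw.1 hXz.1)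
  · have hXz : ¬ (z ∣ q ^ 2 - q + 1 ∧ z ≠ 3) := fun h => hXw (hX.2 h)
    rcases dvd_cases hp hq hF hw (ht w hw hwA) with h1 | h1 | h1
    · rcases dvd_cases hp hq hF hz (ht z hz hzA) with h2 | h2 | h2
      · exact absurd (h1.trans h2.symm) hwz
      · rw [h1]
        exact h2w z hz h2
      · exact absurd h2 hXz
    · rcases dvd_cases hp hq hF hz (ht z hz hzA) with h2 | h2 | h2
      · rw [h2]
        exact (h2w w hw h1).symm
      · exact hww w z hw hz hwz h1 h2
      · exact absurd h2 hXz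
    · exact absurd h1 hXw

end

/-! ### few primes -/

theorem eq_of_dvd_pow {r a k : ℕ} (hr : r.Prime) (ha : a.Prime) (h : r ∣ a ^ k) : r = a :=
  (Nat.prime_dvd_prime_iff_eq hr ha).1 (hr.dvd_of_dvd_pow h)

theorem goal_few.{b} (hp : p.Prime) (hf : 1 ≤ f) (hq : q = p ^ f) (hF : Fintype.card F = q ^ 2) (h32 : q ≠ 2)
    (P : Finset ℕ) (hP : P.card ≤ 4) (h1 : ∀ r : ℕ, r.Prime → r ∣ q ^ 3 * (q ^ 2 - 1) * (q ^ 3 + 1) → r ∈ P)
    (h2 : ∀ r : ℕ, r.Prime → r ∣ 3 * (2 * f) → r ∈ P) : Goal.{u, b} (PSU 3 F q) := by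
  refine goal_of_primes P hP (fun r hr h => h1 r hr ?_) (fun r hr h => h2 r hr ?_)
  · rw [← card_eq hF]
    exact h.mul_left _
  · rw [card_out_psu hp hf hq hF le_rfl (fun h => h32 h.2)
      (Cfsg.Agent.H292.PsuTwo.center_psu hF le_rfl (fun h => h32 h.2))] at h
    exact h.trans (Nat.mul_dvd_mul_right (Nat.gcd_dvd_left _ _) _)

/-- **the row `PSU_3(q)` of S2529** -/
theorem goal_psu3.{b} (hF : Fintype.card F = q ^ 2) (h32 : q ≠ 2) : Goal.{u, b} (PSU 3 F q) := by
  obtain ⟨p, f, hp, hf, hq⟩ := Cfsg.Agent.H149.PGU.exists_pf hF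
  have hq1 : 1 ≤ q := by rw [hq]; exact Nat.one_le_pow _ _ hp.pos
  have two3 : ∀ P : Finset ℕ, 2 ∈ P → 3 ∈ P → ∀ r : ℕ, r.Prime → r ∣ 2 ∨ r ∣ 3 → r ∈ P := by
    intro P h2 h3 r hr h
    rcases h with h | h
    · rwa [(Nat.prime_dvd_prime_iff_eq hr Nat.prime_two).1 h]
    · rwa [(Nat.prime_dvd_prime_iff_eq hr Nat.prime_three).1 h]
  by_cases hp2 : p = 2
  · subst hp2
    by_cases h4 : 4 ≤ f
    · exact goal_of_goalA (goalA_two hf hq hF h32 h4)
    · have hf23 : f = 2 ∨ f = 3 := by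
        have : f ≠ 1 := by
          rintro rfl
          exact h32 (by rw [hq]; norm_num)
        omega
      rcases hf23 with rfl | rfl
      · have hq4 : q = 4 := by rw [hq]; norm_num
        refine goal_few hp hf hq hF h32 {2, 3, 5, 13} (by decide) (fun r hr h => ?_) (fun r hr h => ?_)
        · rw [hq4] at h
          have h' : r ∣ 2 ^ 6 * 3 * 5 * (5 * 13) := by norm_num at h ⊢; exact h
          rcases hr.dvd_mul.1 h' with h | h
          · rcases hr.dvd_mul.1 h with h | h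
            · rcases hr.dvd_mul.1 h with h | h
              · simp [eq_of_dvd_pow hr Nat.prime_two h]
              · simp [(Nat.prime_dvd_prime_iff_eq hr Nat.prime_three).1 h]
            · simp [(Nat.prime_dvd_prime_iff_eq hr Nat.prime_five).1 h]
          · rcases hr.dvd_mul.1 h with h | h
            · simp [(Nat.prime_dvd_prime_iff_eq hr Nat.prime_five).1 h]
            · simp [(Nat.prime_dvd_prime_iff_eq hr (by norm_num)).1 h]
        · refine two3 _ (by simp) (by simp) r hr ?_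
          rcases hr.dvd_mul.1 h with h | h
          · exact Or.inr h
          · rcases hr.dvd_mul.1 h with h | h <;> exact Or.inl h
      · have hq4 : q = 8 := by rw [hq]; norm_num
        refine goal_few hp hf hq hF h32 {2, 3, 7, 19} (by decide) (fun r hr h => ?_) (fun r hr h => ?_)
        · rw [hq4] at h
          have h' : r ∣ 2 ^ 9 * (3 ^ 2 * 7) * (3 ^ 3 * 19) := by norm_num at h ⊢; exact h
          rcases hr.dvd_mul.1 h' with h | h
          · rcases hr.dvd_mul.1 h with h | h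
            · simp [eq_of_dvd_pow hr Nat.prime_two h]
            · rcases hr.dvd_mul.1 h with h | h
              · simp [eq_of_dvd_pow hr Nat.prime_three h]
              · simp [(Nat.prime_dvd_prime_iff_eq hr (by norm_num)).1 h]
          · rcases hr.dvd_mul.1 h with h | h
            · simp [eq_of_dvd_pow hr Nat.prime_three h]
            · simp [(Nat.prime_dvd_prime_iff_eq hr (by norm_num)).1 h]
        · refine two3 _ (by simp) (by simp) r hr ?_
          rcases hr.dvd_mul.1 h with h | h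
          · exact Or.inr h
          · rcases hr.dvd_mul.1 h with h | h
            · exact Or.inl h
            · exact Or.inr h
  · by_cases hex : ∃ r : ℕ, r.Prime ∧ r ≠ 2 ∧ r ∣ q - 1 ∧ (f ≤ 2 ∨ Ppd p f r)
    · obtain ⟨r, hr, hr2, hrd, hrf⟩ := hex
      exact goal_of_goalA (goalA_one hp hf hq hF h32 hp2 hr hr2 hrd hrf)
    · push Not at hex
      have hf2 : f ≤ 2 := by
        by_contra hf3
        obtain ⟨r, hr⟩ := Ppd.exists (p := p) (n := f) hp.two_le (by omega) (fun h => hp2 h.1)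
        exact (hex r hr.prime (hr.ne_two (by omega)) (by rw [hq, hr.dvd_iff hp.pos])).2 hr
      have hpow : ∃ k, q - 1 = 2 ^ k := by
        have h0 : q - 1 ≠ 0 := by
          have : 2 ≤ q := by
            rw [hq]
            calc 2 ≤ p := hp.two_le
              _ = p ^ 1 := (pow_one p).symm
              _ ≤ p ^ f := Nat.pow_le_pow_right hp.pos hf
          omega
        refine ⟨_, Nat.eq_prime_pow_of_unique_prime_dvd h0 (p := 2) ?_⟩
        intro r hr hd
        by_contra hr2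
        exact absurd hf2 (not_le.2 (hex r hr hr2 hd).1)
      obtain ⟨k, hk⟩ := hpow
      have hf12 : f = 1 ∨ f = 2 := by omega
      rcases hf12 with rfl | rfl
      · rw [pow_one] at hq
        subst hq
        by_cases h3 : q = 3
        · subst h3
          refine goal_few hp hf (by norm_num) hF h32 {2, 3, 7} (by decide) (fun r hr h => ?_) (fun r hr h => ?_)
          · have h' : r ∣ 3 ^ 3 * 2 ^ 3 * (2 ^ 2 * 7) := by norm_num at h ⊢; exact h
            rcases hr.dvd_mul.1 h' with h | h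
            · rcases hr.dvd_mul.1 h with h | h
              · simp [eq_of_dvd_pow hr Nat.prime_three h]
              · simp [eq_of_dvd_pow hr Nat.prime_two h]
            · rcases hr.dvd_mul.1 h with h | h
              · simp [eq_of_dvd_pow hr Nat.prime_two h]
              · simp [(Nat.prime_dvd_prime_iff_eq hr (by norm_num)).1 h]
          · refine two3 _ (by simp) (by simp) r hr ?_
            rcases hr.dvd_mul.1 h with h | h
            · exact Or.inr h
            · exact Or.inl (by simpa using h)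
        · by_cases h5 : q = 5
          · subst h5
            refine goal_few hp hf (by norm_num) hF h32 {2, 3, 5, 7} (by decide) (fun r hr h => ?_) (fun r hr h => ?_)
            · have h' : r ∣ 5 ^ 3 * (2 ^ 3 * 3) * (2 * 3 ^ 2 * 7) := by norm_num at h ⊢; exact h
              rcases hr.dvd_mul.1 h' with h | h
              · rcases hr.dvd_mul.1 h with h | h
                · simp [eq_of_dvd_pow hr Nat.prime_five h]
                · rcases hr.dvd_mul.1 h with h | h
                  · simp [eq_of_dvd_pow hr Nat.prime_two h]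
                  · simp [(Nat.prime_dvd_prime_iff_eq hr Nat.prime_three).1 h]
              · rcases hr.dvd_mul.1 h with h | h
                · rcases hr.dvd_mul.1 h with h | h
                  · simp [(Nat.prime_dvd_prime_iff_eq hr Nat.prime_two).1 h]
                  · simp [eq_of_dvd_pow hr Nat.prime_three h]
                · simp [(Nat.prime_dvd_prime_iff_eq hr (by norm_num)).1 h]
            · refine two3 _ (by simp) (by simp) r hr ?_
              rcases hr.dvd_mul.1 h with h | h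
              · exact Or.inr h
              · exact Or.inl (by simpa using h)
          · have h7 : 7 ≤ q := by
              have := hp.two_le
              have h4 : q ≠ 4 := by rintro rfl; exact absurd hp (by norm_num)
              have h6 : q ≠ 6 := by rintro rfl; exact absurd hp (by norm_num)
              omega
            have h31 : 3 ∣ q + 1 := by
              have h8 : 2 ^ k % 3 = 1 ∨ 2 ^ k % 3 = 2 := by
                clear hk hex
                induction k with
                | zero => left; norm_num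
                | succ n ih => omega
              have h9 : ¬ 3 ∣ q := fun h => h3 ((Nat.prime_dvd_prime_iff_eq Nat.prime_three hp).1 h).symm
              omega
            exact goal_of_goalA (goalA_fermat hp hf (pow_one q).symm hF h32 rfl hk h7 h31)
      · -- `q = 9`
        have h3 : p = 3 := by
          have h1 : (p + 1) * (p - 1) = 2 ^ k := by
            rw [← hk, hq, ← sq_sub_one_eq]
          obtain ⟨a, -, ha⟩ := (Nat.dvd_prime_pow Nat.prime_two).1 (Dvd.intro _ h1)
          obtain ⟨b, -, hb⟩ := (Nat.dvd_prime_pow Nat.prime_two).1 (Dvd.intro_left _ h1)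
          have hab : 2 ^ a = 2 ^ b + 2 := by
            have := hp.two_le
            omega
          have hb1 : 1 ≤ b := by
            rcases Nat.eq_zero_or_pos b with rfl | h
            · exfalso
              rw [pow_zero] at hb
              have := hp.two_le
              omega
            · exact h
          have hb2 : b = 1 := by
            by_contra hne
            have h4 : 4 ∣ 2 ^ b := by
              have : (2 : ℕ) ^ 2 ∣ 2 ^ b := pow_dvd_pow 2 (by omega)
              simpa using this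
            have h5 : 2 ≤ a := by
              by_contra h
              have : a = 0 ∨ a = 1 := by omega
              have h6 : 1 ≤ 2 ^ b := Nat.one_le_two_pow
              rcases this with rfl | rfl
              · omega
              · omega
            have h6 : 4 ∣ 2 ^ a := by
              have : (2 : ℕ) ^ 2 ∣ 2 ^ a := pow_dvd_pow 2 h5
              simpa using this
            omega
          subst hb2
          have := hp.two_le
          omega
        subst h3
        have hq9 : q = 9 := by rw [hq]; norm_num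
        refine goal_few hp hf hq hF h32 {2, 3, 5, 73} (by decide) (fun r hr h => ?_) (fun r hr h => ?_)
        · rw [hq9] at h
          have h' : r ∣ 3 ^ 6 * (2 ^ 4 * 5) * (2 * 5 * 73) := by norm_num at h ⊢; exact h
          rcases hr.dvd_mul.1 h' with h | h
          · rcases hr.dvd_mul.1 h with h | h
            · simp [eq_of_dvd_pow hr Nat.prime_three h]
            · rcases hr.dvd_mul.1 h with h | h
              · simp [eq_of_dvd_pow hr Nat.prime_two h]
              · simp [(Nat.prime_dvd_prime_iff_eq hr Nat.prime_five).1 h]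
          · rcases hr.dvd_mul.1 h with h | h
            · rcases hr.dvd_mul.1 h with h | h
              · simp [(Nat.prime_dvd_prime_iff_eq hr Nat.prime_two).1 h]
              · simp [(Nat.prime_dvd_prime_iff_eq hr Nat.prime_five).1 h]
            · simp [(Nat.prime_dvd_prime_iff_eq hr (by norm_num)).1 h]
        · refine two3 _ (by simp) (by simp) r hr ?_
          rcases hr.dvd_mul.1 h with h | h
          · exact Or.inr h
          · rcases hr.dvd_mul.1 h with h | h <;> exact Or.inl h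

/-! ### two non-adjacent primes different from the characteristic -/

theorem na_two_six (hp : p.Prime) (hp2 : p ≠ 2) (hf : 1 ≤ f) (hF : Fintype.card F = q ^ 2) (hq : q = p ^ f) {s : ℕ}
    (h6 : Six p f q s) : ¬ Adj (PSU 3 F q) 2 s := by
  intro h
  have hpF := Fact.mk hp
  have hpC : CharP F p := charP_of' hp hf hq hF
  have hq1 : 1 ≤ q := by rw [hq]; exact Nat.one_le_pow _ _ hp.pos
  have hs := h6.ppd.prime
  have h1 : ¬ s ∣ q - 1 := fun h1 => not_dvd_quad_of_pred hq1 hs h1 h6.quad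
  rcases adj_cases (p := p) hF h with h | h | h | h | ⟨h, -⟩
  · exact h6.not_succ ((Dvd.intro_left _ rfl).trans h)
  · rcases hs.dvd_mul.1 ((Dvd.intro_left _ rfl).trans h) with h2 | h2
    · exact h6.ne_p ((Nat.prime_dvd_prime_iff_eq hs hp).1 h2)
    · exact h6.not_succ (h2.trans (div_dvd' (gcd_dvd_succ q)))
  · rcases (dvd_sq_iff hs).1 (((Dvd.intro_left _ rfl).trans h).trans (div_dvd' (gcd_dvd_sq hq1))) with h2 | h2
    · exact h6.not_succ h2
    · exact h1 h2
  · exact odd_quad hq1 (((Dvd.intro _ rfl).trans h).trans (div_dvd' (gcd_dvd_quad hq1)))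
  · exact hp2 h

/-- `PSU_3(q)`, `q ≠ 2`, has two non-adjacent primes not dividing `q` -/
theorem exists_na (hF : Fintype.card F = q ^ 2) (h32 : q ≠ 2) :
    ∃ r s : ℕ, r.Prime ∧ s.Prime ∧ r ≠ s ∧ ¬ r ∣ q ∧ ¬ s ∣ q ∧ r ∣ Nat.card (PSU 3 F q) ∧ s ∣ Nat.card (PSU 3 F q) ∧
      ¬ Adj (PSU 3 F q) r s := by
  obtain ⟨p, f, hp, hf, hq⟩ := Cfsg.Agent.H149.PGU.exists_pf hF
  have hpF := Fact.mk hp
  have hpC : CharP F p := charP_of' hp hf hq hF
  have hq1 : 1 ≤ q := by rw [hq]; exact Nat.one_le_pow _ _ hp.pos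
  have hpn : ∀ r : ℕ, r.Prime → r ≠ p → ¬ r ∣ q := fun r hr hrp hd => by
    rw [hq] at hd
    exact hrp (eq_of_dvd_pow hr hp hd)
  obtain ⟨s, hs⟩ := Ppd.exists (p := p) (n := f * 6) hp.two_le (by omega) (by
    rintro ⟨rfl, h⟩
    have hf1 : f = 1 := by omega
    rw [hf1, pow_one] at hq
    exact h32 hq)
  have h6 := six_of_ppd hp hf hq hs
  by_cases hp2 : p = 2
  · subst hp2
    have h4 : 4 ≤ q := by
      have : f ≠ 1 := by
        rintro rfl
        exact h32 (by rw [hq]; norm_num)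
      rw [hq]
      calc 4 = 2 ^ 2 := by norm_num
        _ ≤ 2 ^ f := Nat.pow_le_pow_right (by norm_num) (by omega)
    have hqe : 2 ∣ q := by rw [hq]; exact dvd_pow_self 2 (by omega)
    obtain ⟨r, hr, hrd⟩ := Nat.exists_prime_and_dvd (n := q - 1) (by omega)
    have hr2 : r ≠ 2 := by
      rintro rfl
      omega
    have hrs : r ≠ s := by
      rintro rfl
      exact not_dvd_quad_of_pred hq1 hr hrd h6.quad
    exact ⟨r, s, hr, hs.prime, hrs, hpn r hr hr2, hpn s hs.prime h6.ne_p,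
      one_dvd_card hF hr (not_dvd_succ_of_pred hr hr2 hq1 hrd) ((dvd_sq_iff hr).2 (Or.inr hrd)), h6.dvd_card hF hq1,
      na_one_six hF hq hr hs.prime hr2 hr2 hrd h6.ne_three h6.quad⟩
  · exact ⟨2, s, Nat.prime_two, hs.prime, h6.ne_two.symm, hpn 2 Nat.prime_two (Ne.symm hp2), hpn s hs.prime h6.ne_p,
      two_dvd_card hp hf hq hF hp2, h6.dvd_card hF hq1, na_two_six hp hp2 hf hF hq h6⟩

end Cfsg.Agent.H169.U3
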