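import Cfsg.Agent.H169.U3Fin
import Cfsg.Agent.H72.AdjPSU
import Cfsg.Agent.H418.SUEig
import Cfsg.Agent.S2365
import Cfsg.Agent.S2708
import Cfsg.Agent.S0278
import Cfsg.Agent.S0245

/-!
# The row `PSU_4(q)` of S2529

`adj_X`, `adj_nX`: adjacency for `gcd(4, q + 1) = 1`; `na_char`, `na_four_six`: non-adjacency;
`graph_four`: the graph involution with symplectic centralizer; `goal_psu4`.
-/

set_option autoImplicit false
set_option linter.unusedSectionVars false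

namespace Cfsg.Agent.H169.U4

open Cfsg Matrix Cfsg.Agent.H163.PG Cfsg.Agent.H169.UAut
open Cfsg.Agent.H202.Psu
open Cfsg.Agent.H186 Cfsg.Agent.H103.UniBlock Cfsg.Agent.H103.PGUUpper Cfsg.Agent.H72.AdjPSU
open Cfsg.Agent.ClassicalGeometry.GUBasic Cfsg.Agent.H127
open Cfsg.Agent.H201.PsuGraph (graph_iff)
open Cfsg.Agent.LieClassical.HermBasic (conj conj_apply)
open Cfsg.Agent.ClassicalGeometry.PSUAutCount (toAut)
open Cfsg.Agent.Schreier.PSU (f₁ f₂ toAut_eq)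
open Cfsg.Agent.H169.U3 (charP_of' not_adj_of_not_dvd' outer_dvd has3_of_inner')

universe u

variable {F : Type u} [Field F] [Fintype F] {p f q : ℕ}

/-! ### Adjacency -/

/-- the divisors of `q ^ 3 + 1` -/
theorem exists_order_X (hF : Fintype.card F = q ^ 2) (hg : Nat.gcd 4 (q + 1) = 1) :
    ∀ s, s ∣ q ^ 3 + 1 → ∃ z : PSU 4 F q, orderOf z = s := by
  obtain ⟨c, hc⟩ := CharP.exists F
  have : Fact c.Prime := ⟨CharP.char_is_prime F c⟩
  obtain ⟨j, hj, -⟩ := UnitRoots.exists_eq_pow hF c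
  have hq := two_le hF
  obtain ⟨S, hS, ho⟩ := exists_singer_unitary (p := c) hj hF (m := 3) (by decide)
  have hdet : (S : Matrix (Fin 3) (Fin 3) F).det ^ (q + 1) = 1 := det_pow hF hS
  have hd0 : (S : Matrix (Fin 3) (Fin 3) F).det ≠ 0 := by
    intro h
    rw [h, zero_pow (by omega)] at hdet
    exact zero_ne_one hdet
  set d : F := ((S : Matrix (Fin 3) (Fin 3) F).det)⁻¹ with hd
  have hd1 : d ^ (q + 1) = 1 := by rw [hd, inv_pow, hdet, inv_one]
  have hU1 : Uni q (d • (1 : Matrix (Fin 1) (Fin 1) F)) := by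
    refine ⟨1, isUnit_one, ?_⟩
    rw [mul_one]
    ext i k
    have hi : i = 0 := Subsingleton.elim _ _
    have hk : k = 0 := Subsingleton.elim _ _
    subst hi hk
    rw [Matrix.mul_apply, Fin.sum_univ_one, st_apply]
    simp only [Matrix.smul_apply, Matrix.one_apply_eq, smul_eq_mul, mul_one]
    rw [← pow_succ, hd1]
  refine exists_order_of_index hF (by norm_num) (n := 4) (ι := Fin 3 ⊕ Fin 1)
    ((finSumFinEquiv (m := 3) (n := 1)).symm)
    (A := fromBlocks (S : Matrix (Fin 3) (Fin 3) F) 0 0 (d • 1)) (uni_fromBlocks (by omega) hS hU1) ?_ ?_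
  · rw [Matrix.det_fromBlocks_zero₂₁, Matrix.det_smul, Matrix.det_one, Fintype.card_fin, pow_one, mul_one, hd]
    exact mul_inv_cancel₀ hd0
  · intro k t hk
    rw [fromBlocks_pow] at hk
    obtain ⟨h3, h4⟩ := fromBlocks_eq_smul hk
    have h5 : t = d ^ k := by
      have h6 := congrFun (congrFun h4 0) 0
      rw [smul_pow, one_pow] at h6
      simp only [Matrix.smul_apply, Matrix.one_apply_eq, smul_eq_mul, mul_one] at h6
      exact h6.symm
    have h6 : t ^ (q + 1) = 1 := by rw [h5, ← pow_mul, mul_comm, pow_mul, hd1, one_pow]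
    have h7 : t ^ 4 = 1 := by
      have h8 := congrArg Matrix.det h3
      rw [Matrix.det_pow, Matrix.det_smul, Matrix.det_one, Fintype.card_fin, mul_one] at h8
      have h9 : (S : Matrix (Fin 3) (Fin 3) F).det ^ k * d ^ k = 1 := by
        rw [← mul_pow, hd, mul_inv_cancel₀ hd0, one_pow]
      rw [pow_succ, ← h8, h5]
      exact h9
    have h8 : t = 1 := by
      have h9 : orderOf t ∣ 1 := by
        rw [← hg]
        exact Nat.dvd_gcd (orderOf_dvd_of_pow_eq_one h7) (orderOf_dvd_of_pow_eq_one h6)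
      exact orderOf_eq_one_iff.1 (Nat.dvd_one.1 h9)
    rw [h8, one_smul] at h3
    rw [← ho]
    apply orderOf_dvd_of_pow_eq_one
    apply Units.ext
    rw [Units.val_pow_eq_pow_val, h3, Units.val_one]

theorem adj_X (hF : Fintype.card F = q ^ 2) (hg : Nat.gcd 4 (q + 1) = 1) {r s : ℕ} (hr : r.Prime) (hs : s.Prime)
    (hrs : r ≠ s) (h1 : r ∣ q ^ 3 + 1) (h2 : s ∣ q ^ 3 + 1) : Adj (PSU 4 F q) r s :=
  exists_order_X hF hg _ (((Nat.coprime_primes hr hs).2 hrs).mul_dvd_of_dvd_of_dvd h1 h2)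

theorem adj_nX (hF : Fintype.card F = q ^ 2) {r s : ℕ} (hr : r.Prime) (hs : s.Prime)
    (hrs : r ≠ s) (h1 : r ∣ q ^ 4 - 1) (h2 : s ∣ q ^ 4 - 1) (h3 : ¬ r ∣ q + 1) (h4 : ¬ s ∣ q + 1) :
    Adj (PSU 4 F q) r s := by
  have hco1 : Nat.Coprime (r * s) (q + 1) :=
    Nat.Coprime.mul_left ((Nat.Prime.coprime_iff_not_dvd hr).2 h3) ((Nat.Prime.coprime_iff_not_dvd hs).2 h4)
  have hd := ((Nat.coprime_primes hr hs).2 hrs).mul_dvd_of_dvd_of_dvd h1 h2
  exact exists_order_of_block hF (by norm_num) (hasBlock_even hF (j := 2) (by norm_num) hd hco1) (by norm_num)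
    (by norm_num) hco1 _ dvd_rfl

/-! ### Non-adjacency -/

theorem card_su_two (hF : Fintype.card F = q ^ 2) : Nat.card (SU 2 F q) = q * (q ^ 2 - 1) := by
  have h := S0278.result hF 2 (by norm_num)
  rw [Finset.prod_range_succ, Finset.prod_range_one, if_pos Even.zero, if_neg (by decide)] at h
  have h2 : (q + 1) * Nat.card (SU 2 F q) = (q + 1) * (q * (q ^ 2 - 1)) := by
    rw [h]
    norm_num
    ring
  exact Nat.eq_of_mul_eq_mul_left (by omega) h2

theorem na_char (hp : p.Prime) (hf : 1 ≤ f) (hq : q = p ^ f) (hF : Fintype.card F = q ^ 2) {r : ℕ} (hr : r.Prime)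
    (hrp : r ≠ p) (h : ¬ r ∣ q ^ 2 - 1) : ¬ Adj (PSU 4 F q) p r := by
  intro hA
  have hpF := Fact.mk hp
  have hpC : CharP F p := charP_of' hp hf hq hF
  obtain ⟨x, y, hx, hy, hxy⟩ := hA.exists_commute hp hr
  have h1 := S2365.result p 4 q le_rfl hF x y hx hxy
  have h2 : r ∈ (orderOf y).primeFactors := by rw [hy, hr.primeFactors]; exact Finset.mem_singleton_self r
  have h3 := Nat.dvd_of_mem_primeFactors (h1 h2)
  rw [show 4 - 2 = 2 from rfl, card_su_two hF] at h3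
  rcases hr.dvd_mul.1 h3 with h4 | h4
  · rw [hq] at h4
    exact hrp ((Nat.prime_dvd_prime_iff_eq hr hp).1 (hr.dvd_of_dvd_pow h4))
  · exact h h4

theorem na_four_six (hF : Fintype.card F = q ^ 2) (hq1 : 2 ≤ q) {r s : ℕ} (hr : r.Prime) (hs : s.Prime)
    (hr4 : r ∣ q ^ 2 + 1) (hr2 : r ≠ 2) (hs6 : s ∣ q ^ 2 - q + 1) (hs3 : s ≠ 3) (h : ¬ s ∣ (q - 1) * (q ^ 2 + 1)) :
    ¬ Adj (PSU 4 F q) r s := by
  rintro ⟨x, hx⟩
  have hd : Nat.gcd 4 (q + 1) ∣ (q - 1) * (q ^ 2 + 1) := by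
    by_cases ho : Odd q
    · obtain ⟨k, rfl⟩ := ho
      refine (Nat.gcd_dvd_left _ _).trans ⟨k * (2 * k ^ 2 + 2 * k + 1), ?_⟩
      rw [Nat.add_sub_cancel]
      ring
    · have he := Nat.not_odd_iff_even.1 ho
      obtain ⟨k, hk⟩ := he
      have h1 : Nat.gcd 4 (q + 1) = 1 := by
        have h2 : Nat.Coprime 2 (q + 1) := (Nat.Prime.coprime_iff_not_dvd Nat.prime_two).2 (by omega)
        exact Nat.Coprime.pow_left 2 h2
      rw [h1]
      exact one_dvd _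
  have hM : (q - 1) * (q ^ 2 + 1) / Nat.gcd 4 (q + 1) * Nat.gcd 4 (q + 1) = (q - 1) * (q ^ 2 + 1) :=
    Nat.div_mul_cancel hd
  have h1 := H418.SUEig.psu_four' hF hr hr4 hr2 hM (by omega) x (by rw [hx]; exact Dvd.intro _ rfl)
  have h2 : s ∣ (q - 1) * (q ^ 2 + 1) / Nat.gcd 4 (q + 1) := by
    refine dvd_trans ?_ (orderOf_dvd_of_pow_eq_one h1)
    rw [hx]
    exact Dvd.intro_left _ rfl
  exact h (h2.trans (Nat.div_dvd_of_dvd hd))

/-! ### The graph involution with symplectic centralizer -/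

theorem graph_four (hf : 1 ≤ f) (hq : q = 2 ^ f) (hF : Fintype.card F = q ^ 2) :
    ∃ γ : MulAut (PSU 4 F q), orderOf γ = 2 ∧ (∃ d ∈ inndiagPSU 4 F q, γ = d * f₂ (conj hF)) ∧
      ∀ r : ℕ, r.Prime → r ∣ (q ^ 2 - 1) * (q ^ 4 - 1) → ∃ y ∈ inndiagPSU 4 F q, orderOf y = r ∧ γ * y = y * γ := by
  have h2 : Fact (Nat.Prime 2) := ⟨Nat.prime_two⟩
  have hC : CharP F 2 := charP_of' Nat.prime_two hf hq hF
  have hfin : Fintype (GaloisField 2 f) := Fintype.ofFinite _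
  have hcard : Fintype.card (GaloisField 2 f) = q := by
    rw [← Nat.card_eq_fintype_card, GaloisField.card 2 f (by omega), hq]
  obtain ⟨γ, -, -, -, hγ, hγ2, -, -, -, -, ⟨e⟩, -⟩ := S2708.result hF (n := 4) (m := 2) le_rfl rfl (GaloisField 2 f) hcard
  refine ⟨γ, hγ2, ?_, ?_⟩
  · obtain ⟨A, rfl, -⟩ := (graph_iff hF (by norm_num)).1 ⟨hγ, hγ2⟩
    refine ⟨f₁ A, ?_, toAut_eq _ _⟩
    rw [inndiag_eq]
    exact ⟨A, rfl⟩
  · intro r hr hd
    have := Fact.mk hr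
    have h1 : r ∣ Nat.card ↥(inndiagPSU 4 F q ⊓ Subgroup.centralizer {γ}) := by
      rw [Nat.card_congr e.toEquiv, S0245.result hcard]
      refine Dvd.dvd.mul_left ?_ _
      rw [Finset.prod_range_succ, Finset.prod_range_one]
      exact hd
    have : Finite (PSU 4 F q) := inferInstance
    have : Finite (MulAut (PSU 4 F q)) := inferInstance
    have : Finite ↥(inndiagPSU 4 F q ⊓ Subgroup.centralizer {γ}) := inferInstance
    obtain ⟨y, hy⟩ := exists_prime_orderOf_dvd_card' r h1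
    obtain ⟨h3, h4⟩ := Subgroup.mem_inf.1 y.2
    refine ⟨y, h3, by rw [Subgroup.orderOf_coe, hy], ?_⟩
    rw [Subgroup.mem_centralizer_iff] at h4
    exact h4 γ rfl

/-! ### The primes -/

/-- the primitive primes of order `4` and `6` -/
structure Two (p f q r s : ℕ) : Prop where
  pr : Ppd p (f * 4) r
  ps : Ppd p (f * 6) s
  r4 : r ∣ q ^ 2 + 1
  s6 : s ∣ q ^ 2 - q + 1
  r_sq : ¬ r ∣ q ^ 2 - 1
  s_sq : ¬ s ∣ q ^ 2 - 1
  s_four : ¬ s ∣ (q - 1) * (q ^ 2 + 1)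
  r_two : r ≠ 2
  s_two : s ≠ 2
  s_three : s ≠ 3
  r_p : r ≠ p
  s_p : s ≠ p
  rs : r ≠ s
  r_f : ¬ r ∣ f
  s_f : ¬ s ∣ f

theorem ppd_dvd (hp : p.Prime) (hf : 1 ≤ f) (hq : q = p ^ f) {m k t : ℕ} (h : Ppd p (f * k) t) :
    t ∣ q ^ m - 1 ↔ k ∣ m := by
  rw [hq, ← pow_mul, h.dvd_iff hp.pos]
  exact Nat.mul_dvd_mul_iff_left hf

theorem two_of_ppd (hp : p.Prime) (hf : 1 ≤ f) (hq : q = p ^ f) {r s : ℕ} (hr : Ppd p (f * 4) r)
    (hs : Ppd p (f * 6) s) : Two p f q r s := by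
  have hrl := hr.lt (by omega)
  have h6 := U3.six_of_ppd hp hf hq hs
  have e1 : q ^ 4 - 1 = (q ^ 2 + 1) * (q ^ 2 - 1) := by
    have := Nat.sq_sub_sq (q ^ 2) 1
    rwa [one_pow, ← pow_mul] at this
  have r_sq : ¬ r ∣ q ^ 2 - 1 := by
    rw [ppd_dvd hp hf hq hr]
    decide
  have s_sq : ¬ s ∣ q ^ 2 - 1 := by
    rw [ppd_dvd hp hf hq hs]
    decide
  have s_4 : ¬ s ∣ q ^ 4 - 1 := by
    rw [ppd_dvd hp hf hq hs]
    decide
  refine ⟨hr, hs, ?_, h6.quad, r_sq, s_sq, ?_, by omega, h6.ne_two, h6.ne_three, hr.ne (by omega), h6.ne_p,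
    hr.ne_of_ne hs (by omega), ?_, h6.not_f⟩
  · have h1 : r ∣ q ^ 4 - 1 := (ppd_dvd hp hf hq hr).2 dvd_rfl
    rw [e1] at h1
    exact (hr.prime.dvd_mul.1 h1).resolve_right r_sq
  · intro h
    rcases hs.prime.dvd_mul.1 h with h1 | h1
    · apply s_sq
      rw [U3Adj.sq_sub_one_eq]
      exact h1.mul_left _
    · apply s_4
      rw [e1]
      exact h1.mul_right _
  · intro hd
    have := Nat.le_of_dvd hf hd
    omega

section

variable (hp : p.Prime) (hf : 1 ≤ f) (hq : q = p ^ f) (hF : Fintype.card F = q ^ 2)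
include hp hf hq hF

theorem Two.dvd_r {r s : ℕ} (h : Two p f q r s) : r ∣ Nat.card (PSU 4 F q) := by
  refine dvd_psu hF (by norm_num) h.pr.prime ?_ (k := 4) (by norm_num) le_rfl (Or.inr ⟨by decide, ?_⟩)
  · intro h1
    exact h.r_sq ((U3Adj.dvd_sq_iff h.pr.prime).2 (Or.inl h1))
  · exact (ppd_dvd hp hf hq h.pr).2 dvd_rfl

theorem Two.dvd_s {r s : ℕ} (h : Two p f q r s) : s ∣ Nat.card (PSU 4 F q) := by
  have hq1 : 1 ≤ q := by rw [hq]; exact Nat.one_le_pow _ _ hp.pos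
  refine dvd_psu hF (by norm_num) h.ps.prime ?_ (k := 3) (by norm_num) (by norm_num) (Or.inl ⟨by decide, ?_⟩)
  · intro h1
    exact h.s_sq ((U3Adj.dvd_sq_iff h.ps.prime).2 (Or.inl h1))
  · rw [U3.cube_add_one hq1]
    exact h.s6.mul_left _

/-- elements of prime order prime to `2 f gcd(4, q + 1)` are inner -/
theorem inner_of {r : ℕ} (hr : r.Prime) (h2 : r ≠ 2) (hrf : ¬ r ∣ f)
    {x : MulAut (PSU 4 F q)} (hx : orderOf x = r) : x ∈ Inn (PSU 4 F q) := by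
  refine inner_of_not_dvd hr ?_ hx
  rw [card_out_psu hp hf hq hF (by norm_num) (by norm_num)
    (Cfsg.Agent.H292.PsuTwo.center_psu hF (by norm_num) (by norm_num))]
  intro h
  rcases hr.dvd_mul.1 h with h | h
  · have h3 : r ∣ 2 ^ 2 := h.trans (Nat.gcd_dvd_left 4 _)
    exact h2 ((Nat.prime_dvd_prime_iff_eq hr Nat.prime_two).1 (hr.dvd_of_dvd_pow h3))
  · rcases hr.dvd_mul.1 h with h | h
    · exact h2 ((Nat.prime_dvd_prime_iff_eq hr Nat.prime_two).1 h)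
    · exact hrf h

/-- centralizers of field automorphisms -/
theorem cent_two {r s : ℕ} (h : Two p f q r s) {x : MulAut (PSU 4 F q)} {t : ℕ} (ht : t.Prime) (hto : Odd t)
    (hx : orderOf x = t) (hxD : x ∉ inndiagPSU 4 F q) :
    ¬ r ∣ Nat.card ↥(inndiagPSU 4 F q ⊓ Subgroup.centralizer {x}) ∧
      ¬ s ∣ Nat.card ↥(inndiagPSU 4 F q ⊓ Subgroup.centralizer {x}) := by
  obtain ⟨⟨g, hg⟩, hc⟩ := psu_cent_field hp hf hq hF (by norm_num) (by norm_num) ht hto hx hxD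
  have ht3 : 3 ≤ t := by
    obtain ⟨m, hm⟩ := hto
    have := ht.two_le
    omega
  have hfg : f / t = g := by rw [hg, Nat.mul_div_cancel_left _ ht.pos]
  rw [hfg] at hc
  have hg0 : 0 < g := Nat.pos_of_ne_zero (by rintro rfl; omega)
  have h3g : 3 * g ≤ f := by rw [hg]; exact Nat.mul_le_mul_right g ht3
  have key : ∀ {N w : ℕ}, Ppd p N w → 4 * f ≤ N → ¬ w ∣ Nat.card ↥(inndiagPSU 4 F q ⊓ Subgroup.centralizer {x}) := by
    intro N w hw hN hd
    obtain ⟨k, hk1, hk4, hk⟩ := hc hw (by omega) hd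
    rcases hk with ⟨ho, hk⟩ | ⟨he, hk⟩
    · have hk3 : k ≤ 3 := by
        obtain ⟨m, hm⟩ := ho
        omega
      have h1 := Nat.le_of_dvd (by positivity) (hw.dvd_add_one hp.pos hk)
      have h2 : 2 * (g * k) ≤ 2 * (g * 3) := by gcongr
      omega
    · have h1 := Nat.le_of_dvd (by positivity) hk
      have h2 : g * k ≤ g * 4 := by gcongr
      omega
  exact ⟨key h.pr (by omega), key h.ps (by omega)⟩

/-- odd characteristic -/
theorem goalA_odd (hp2 : p ≠ 2) : GoalA (PSU 4 F q) := by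
  intro A hA
  left
  have hpF := Fact.mk hp
  have hq1 : 1 ≤ q := by rw [hq]; exact Nat.one_le_pow _ _ hp.pos
  have hq2 : 2 ≤ q := by
    rw [hq]
    calc 2 ≤ p := hp.two_le
      _ = p ^ 1 := (pow_one p).symm
      _ ≤ p ^ f := Nat.pow_le_pow_right hp.pos hf
  have hZ := Cfsg.Agent.H292.PsuTwo.center_psu hF (by norm_num : 3 ≤ 4) (by norm_num)
  obtain ⟨r, hr⟩ := Ppd.exists (p := p) (n := f * 4) hp.two_le (by omega) (fun h => hp2 h.1)
  obtain ⟨s, hs⟩ := Ppd.exists (p := p) (n := f * 6) hp.two_le (by omega) (fun h => hp2 h.1)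
  have h := two_of_ppd hp hf hq hr hs
  have hpo : Odd p := hp.odd_of_ne_two hp2
  have ir : ∀ y ∈ A, orderOf y = r → y ∈ Inn (PSU 4 F q) := fun y _ hy => inner_of hp hf hq hF hr.prime h.r_two h.r_f hy
  have is : ∀ y ∈ A, orderOf y = s → y ∈ Inn (PSU 4 F q) := fun y _ hy => inner_of hp hf hq hF hs.prime h.s_two h.s_f hy
  have hpg : Nat.Coprime p (Nat.gcd 4 (q + 1)) := by
    rw [Nat.Prime.coprime_iff_not_dvd hp]
    intro hd
    have h3 : p ∣ 2 ^ 2 := hd.trans (Nat.gcd_dvd_left 4 _)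
    exact hp2 ((Nat.prime_dvd_prime_iff_eq hp Nat.prime_two).1 (hp.dvd_of_dvd_pow h3))
  have ip : ∀ {t : ℕ}, (∀ x : MulAut (PSU 4 F q), orderOf x = p → x ∉ inndiagPSU 4 F q →
      ¬ t ∣ Nat.card ↥(inndiagPSU 4 F q ⊓ Subgroup.centralizer {x})) → ∀ x ∈ A, orderOf x = p →
      x ∈ Inn (PSU 4 F q) ∨ ¬ t ∣ Nat.card ↥(inndiagPSU 4 F q ⊓ Subgroup.centralizer {x}) := by
    intro t ht x _ hx
    by_cases hxD : x ∈ inndiagPSU 4 F q
    · exact Or.inl (mem_inn_of_coprime hF (by norm_num) hxD (k := p) (by rw [← hx]; exact pow_orderOf_eq_one x) hpg)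
    · exact Or.inr (ht x hx hxD)
  refine ⟨p, r, s, hp, hr.prime, hs.prime, h.r_p.symm, h.rs, h.s_p.symm,
    dvd_card_A hZ hA (char_dvd_psu hp hf hq hF (by norm_num)),
    dvd_card_A hZ hA (h.dvd_r hp hf hq hF), dvd_card_A hZ hA (h.dvd_s hp hf hq hF), ?_, ?_, ?_⟩
  · exact not_adj hZ hp hr.prime h.r_p.symm (inndiagPSU 4 F q) (inn_le_inndiag hF) ir
      (ip fun x hx hxD => (cent_two hp hf hq hF h hp hpo hx hxD).1) (na_char hp hf hq hF hr.prime h.r_p h.r_sq)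
  · exact not_adj' hZ hr.prime hs.prime h.rs ir is
      (na_four_six hF hq2 hr.prime hs.prime h.r4 h.r_two h.s6 h.s_three h.s_four)
  · exact not_adj hZ hp hs.prime h.s_p.symm (inndiagPSU 4 F q) (inn_le_inndiag hF) is
      (ip fun x hx hxD => (cent_two hp hf hq hF h hp hpo hx hxD).2) (na_char hp hf hq hF hs.prime h.s_p h.s_sq)

end

/-- even characteristic -/
theorem goalA_two (hf2 : 2 ≤ f) (hq : q = 2 ^ f) (hF : Fintype.card F = q ^ 2) : GoalA (PSU 4 F q) := by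
  intro A hA
  classical
  have hp := Nat.prime_two
  have hf : 1 ≤ f := by omega
  have hpF := Fact.mk hp
  have hq1 : 1 ≤ q := by rw [hq]; exact Nat.one_le_pow _ _ hp.pos
  have hqe : 2 ∣ q := by rw [hq]; exact dvd_pow_self 2 (by omega)
  have hq2 : 2 ≤ q := Nat.le_of_dvd hq1 hqe
  have hg : Nat.gcd 4 (q + 1) = 1 := by
    have h2 : Nat.Coprime 2 (q + 1) := (Nat.Prime.coprime_iff_not_dvd hp).2 (by omega)
    exact Nat.Coprime.pow_left 2 h2
  have hZ := Cfsg.Agent.H292.PsuTwo.center_psu hF (by norm_num : 3 ≤ 4) (by norm_num)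
  have h2S : 2 ∣ Nat.card (PSU 4 F q) := char_dvd_psu hp hf hq hF (by norm_num)
  have hDI := inndiag_eq_inn (n := 4) hF (by norm_num) hg
  obtain ⟨r, hr⟩ := Ppd.exists (p := 2) (n := f * 4) le_rfl (by omega) (by omega)
  obtain ⟨s, hs⟩ := Ppd.exists (p := 2) (n := f * 6) le_rfl (by omega) (by omega)
  have h := two_of_ppd hp hf hq hr hs
  have ir : ∀ y ∈ A, orderOf y = r → y ∈ Inn (PSU 4 F q) := fun y _ hy => inner_of hp hf hq hF hr.prime h.r_two h.r_f hy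
  have is : ∀ y ∈ A, orderOf y = s → y ∈ Inn (PSU 4 F q) := fun y _ hy => inner_of hp hf hq hF hs.prime h.s_two h.s_f hy
  have dr := h.dvd_r hp hf hq hF
  have ds := h.dvd_s hp hf hq hF
  have nrs := na_four_six hF hq2 hr.prime hs.prime h.r4 h.r_two h.s6 h.s_three h.s_four
  by_cases h2A : 2 ∣ (Inn (PSU 4 F q)).relIndex A
  swap
  · left
    exact has3_of_inner' hZ hA hp hr.prime hs.prime h.r_two.symm h.rs h.s_two.symm h2S dr ds
      (fun y hyA hy => inner_of_not_dvd_relIndex hp h2A hyA hy) ir is (na_char hp hf hq hF hr.prime h.r_p h.r_sq) nrs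
      (na_char hp hf hq hF hs.prime h.s_p h.s_sq)
  obtain ⟨g, hgD, hgA⟩ := exists_graph (n := 4) hF (by norm_num) (by norm_num) (by rw [hg]; exact odd_one) hA h2A
  have hDA : inndiagPSU 4 F q ≤ A := by rw [hDI]; exact hA
  by_cases ht : ∃ t : ℕ, t.Prime ∧ t ∣ Nat.card A ∧ ¬ t ∣ Nat.card (PSU 4 F q)
  · left
    obtain ⟨t, ht, htA, htS⟩ := ht
    have ht2 : t ≠ 2 := by rintro rfl; exact htS h2S
    have hto := ht.odd_of_ne_two ht2
    have htr : t ≠ r := by rintro rfl; exact htS dr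
    have hts : t ≠ s := by rintro rfl; exact htS ds
    have it : ∀ {w : ℕ}, (∀ x : MulAut (PSU 4 F q), orderOf x = t → x ∉ inndiagPSU 4 F q →
        ¬ w ∣ Nat.card ↥(inndiagPSU 4 F q ⊓ Subgroup.centralizer {x})) → ∀ x ∈ A, orderOf x = t →
        x ∈ Inn (PSU 4 F q) ∨ ¬ w ∣ Nat.card ↥(inndiagPSU 4 F q ⊓ Subgroup.centralizer {x}) := by
      intro w hw x _ hx
      by_cases hxD : x ∈ inndiagPSU 4 F q
      · exact Or.inl (hDI ▸ hxD)
      · exact Or.inr (hw x hx hxD)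
    refine ⟨t, r, s, ht, hr.prime, hs.prime, htr, h.rs, hts, htA, dvd_card_A hZ hA dr, dvd_card_A hZ hA ds, ?_,
      not_adj' hZ hr.prime hs.prime h.rs ir is nrs, ?_⟩
    · exact not_adj hZ ht hr.prime htr (inndiagPSU 4 F q) (inn_le_inndiag hF) ir
        (it fun x hx hxD => (cent_two hp hf hq hF h ht hto hx hxD).1) (not_adj_of_not_dvd' htS)
    · exact not_adj hZ ht hs.prime hts (inndiagPSU 4 F q) (inn_le_inndiag hF) is
        (it fun x hx hxD => (cent_two hp hf hq hF h ht hto hx hxD).2) (not_adj_of_not_dvd' htS)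
  push Not at ht
  right
  obtain ⟨γ, hγ2, ⟨d, hdD, hd⟩, hγ⟩ := graph_four hf hq hF
  have hf₂ : f₂ (conj hF) ∈ A := by
    have h1 := A.mul_mem (A.mul_mem (A.inv_mem (hDA hgD)) hgA) (hDA hgD)
    have h2 : g⁻¹ * (g * f₂ (conj hF) * g⁻¹) * g = f₂ (conj hF) := by group
    rwa [h2] at h1
  have hγA : γ ∈ A := by
    rw [hd]
    exact A.mul_mem (hDA hdD) hf₂
  have e1 : q ^ 4 - 1 = (q ^ 2 + 1) * (q ^ 2 - 1) := by
    have := Nat.sq_sub_sq (q ^ 2) 1
    rwa [one_pow, ← pow_mul] at this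
  -- the primes
  have key : ∀ w : ℕ, w.Prime → w ∣ Nat.card A → ¬ w ∣ q ^ 3 + 1 → w = 2 ∨ (w ≠ 2 ∧ w ∣ q ^ 4 - 1 ∧ ¬ w ∣ q + 1) := by
    intro w hw hwA hX
    have hw1 : ¬ w ∣ q + 1 := fun h1 => hX (by rw [U3.cube_add_one hq1]; exact h1.mul_right _)
    by_cases hw2 : w = 2
    · exact Or.inl hw2
    refine Or.inr ⟨hw2, ?_, hw1⟩
    rcases of_dvd_psu hF (by norm_num) hw (ht w hw hwA) with h1 | ⟨k, hk1, hk4, hk⟩
    · rw [hq] at h1
      exact absurd ((Nat.prime_dvd_prime_iff_eq hw hp).1 (hw.dvd_of_dvd_pow h1)) hw2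
    · have hk' : k = 1 ∨ k = 2 ∨ k = 3 ∨ k = 4 := by omega
      rcases hk' with rfl | rfl | rfl | rfl
      · rcases hk with ⟨-, h1⟩ | ⟨h1, -⟩
        · rw [pow_one] at h1
          exact absurd h1 hw1
        · exact absurd h1 (by decide)
      · rcases hk with ⟨h1, -⟩ | ⟨-, h1⟩
        · exact absurd h1 (by decide)
        · rw [e1]
          exact h1.mul_left _
      · rcases hk with ⟨-, h1⟩ | ⟨h1, -⟩
        · exact absurd h1 hX
        · exact absurd h1 (by decide)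
      · rcases hk with ⟨h1, -⟩ | ⟨-, h1⟩
        · exact absurd h1 (by decide)
        · exact h1
  have h2w : ∀ w : ℕ, w.Prime → w ≠ 2 → w ∣ q ^ 4 - 1 → Adj A 2 w := by
    intro w hw hw2 hwd
    obtain ⟨y, hyD, hy, hc⟩ := hγ w hw (hwd.mul_left _)
    refine adj_of_commute hp hw hw2.symm (x := (⟨γ, hγA⟩ : A)) (y := ⟨y, hDA hyD⟩) ?_ ?_ ?_
    · rw [Subgroup.orderOf_mk]
      exact hγ2
    · rw [Subgroup.orderOf_mk]
      exact hy
    · exact Subtype.ext hc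
  refine ⟨fun w => w ∣ q ^ 3 + 1, fun w z hw hz hwz hwA hzA hX => ?_⟩
  by_cases hXw : w ∣ q ^ 3 + 1
  · exact adj_A hZ hA (adj_X hF hg hw hz hwz hXw (hX.1 hXw))
  · have hXz : ¬ z ∣ q ^ 3 + 1 := fun h => hXw (hX.2 h)
    rcases key w hw hwA hXw with h1 | ⟨h1, h3, h5⟩
    · rcases key z hz hzA hXz with h2 | ⟨h2, h4, h6⟩
      · exact absurd (h1.trans h2.symm) hwz
      · rw [h1]
        exact h2w z hz h2 h4
    · rcases key z hz hzA hXz with h2 | ⟨h2, h4, h6⟩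
      · rw [h2]
        exact (h2w w hw h1 h3).symm
      · exact adj_A hZ hA (adj_nX hF hw hz hwz h3 h4 h5 h6)

/-- **the row `PSU_4(q)` of S2529** -/
theorem goal_psu4.{b} (hF : Fintype.card F = q ^ 2) : Goal.{u, b} (PSU 4 F q) := by
  obtain ⟨p, f, hp, hf, hq⟩ := Cfsg.Agent.H149.PGU.exists_pf hF
  by_cases hp2 : p = 2
  · subst hp2
    by_cases hf2 : 2 ≤ f
    · exact goal_of_goalA (goalA_two hf2 hq hF)
    · have hf1 : f = 1 := by omega
      subst hf1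
      have hq2 : q = 2 := by rw [hq, pow_one]
      subst hq2
      have h := S0280.result hF 4 (by norm_num)
      have h' : Nat.card (PSU 4 F 2) = 2 ^ 6 * 3 ^ 4 * 5 := by
        simp only [Finset.prod_range_succ, Finset.prod_range_zero] at h
        norm_num [Nat.even_iff] at h
        omega
      refine goal_of_primes {2, 3, 5} (by decide) (fun r hr hd => ?_) (fun r hr hd => ?_)
      · rw [h'] at hd
        rcases hr.dvd_mul.1 hd with h | h
        · rcases hr.dvd_mul.1 h with h | h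
          · simp [U3.eq_of_dvd_pow hr Nat.prime_two h]
          · simp [U3.eq_of_dvd_pow hr Nat.prime_three h]
        · simp [(Nat.prime_dvd_prime_iff_eq hr Nat.prime_five).1 h]
      · rw [card_out_psu hp hf hq hF (by norm_num) (by norm_num)
          (Cfsg.Agent.H292.PsuTwo.center_psu hF (by norm_num) (by norm_num))] at hd
        norm_num at hd
        simp [(Nat.prime_dvd_prime_iff_eq hr Nat.prime_two).1 hd]
  · exact goal_of_goalA (goalA_odd hp hf hq hF hp2)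

/-- `PSU_4(q)` has two non-adjacent primes not dividing `q` -/
theorem exists_na (hF : Fintype.card F = q ^ 2) (hq2 : q ≠ 2) :
    ∃ r s : ℕ, r.Prime ∧ s.Prime ∧ r ≠ s ∧ ¬ r ∣ q ∧ ¬ s ∣ q ∧ r ∣ Nat.card (PSU 4 F q) ∧ s ∣ Nat.card (PSU 4 F q) ∧
      ¬ Adj (PSU 4 F q) r s := by
  obtain ⟨p, f, hp, hf, hq⟩ := Cfsg.Agent.H149.PGU.exists_pf hF
  have hq2' : 2 ≤ q := by
    rw [hq]
    calc 2 ≤ p := hp.two_le
      _ = p ^ 1 := (pow_one p).symm
      _ ≤ p ^ f := Nat.pow_le_pow_right hp.pos hf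
  have hne : ∀ k, 4 ≤ k → k ≤ 6 → ¬ (p = 2 ∧ f * k = 6) := by
    rintro k h4 h6 ⟨rfl, h⟩
    have hf1 : f = 1 := by
      by_contra hne
      have : 2 * 4 ≤ f * k := Nat.mul_le_mul (by omega) h4
      omega
    rw [hf1, pow_one] at hq
    exact hq2 hq
  obtain ⟨r, hr⟩ := Ppd.exists (p := p) (n := f * 4) hp.two_le (by omega) (hne 4 le_rfl (by norm_num))
  obtain ⟨s, hs⟩ := Ppd.exists (p := p) (n := f * 6) hp.two_le (by omega) (hne 6 (by norm_num) le_rfl)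
  have h := two_of_ppd hp hf hq hr hs
  have hpn : ∀ r : ℕ, r.Prime → r ≠ p → ¬ r ∣ q := fun r hr hrp hd => by
    rw [hq] at hd
    exact hrp (U3.eq_of_dvd_pow hr hp hd)
  exact ⟨r, s, hr.prime, hs.prime, h.rs, hpn r hr.prime h.r_p, hpn s hs.prime h.s_p, h.dvd_r hp hf hq hF,
    h.dvd_s hp hf hq hF, na_four_six hF hq2' hr.prime hs.prime h.r4 h.r_two h.s6 h.s_three h.s_four⟩

end Cfsg.Agent.H169.U4
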