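import Mathlib
import Cfsg.Agent.S1062
import Cfsg.Agent.S1063
import Cfsg.Agent.S1064
import Cfsg.Agent.S1065
import Cfsg.Agent.S1066

/-!
# The 3-part and the 5-part of the orders of the exceptional groups (S4350, TEAM HALL, helper169)

`s ^ a ∣ q ^ 2 - 1` exactly, `a ≥ 1`.
-/

set_option autoImplicit false

namespace Cfsg.Agent.H169.ExcOrd

open Cfsg.Lie

section Val

variable {s : ℕ} [hs : Fact s.Prime]

theorem val_eq {n a : ℕ} (h1 : s ^ a ∣ n) (h2 : ¬ s ^ (a + 1) ∣ n) : padicValNat s n = a := by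
  have hn : n ≠ 0 := by
    rintro rfl
    exact h2 (dvd_zero _)
  apply le_antisymm
  · by_contra hlt
    push Not at hlt
    exact h2 ((padicValNat_dvd_iff_le hn).2 hlt)
  · exact (padicValNat_dvd_iff_le hn).1 h1

theorem val_zero {n : ℕ} (h : ¬ s ∣ n) : padicValNat s n = 0 := padicValNat.eq_zero_of_not_dvd h

theorem not_dvd_of_val {n k : ℕ} (hn : n ≠ 0) (h : padicValNat s n < k) : ¬ s ^ k ∣ n := fun h1 =>
  absurd ((padicValNat_dvd_iff_le hn).1 h1) (by omega)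

theorem pow_sub_ne {q k : ℕ} (hq : 2 ≤ q) (hk : k ≠ 0) : q ^ k - 1 ≠ 0 := by
  have h1 : 2 ≤ q ^ k := le_trans hq (Nat.le_self_pow hk q)
  omega

theorem not_dvd_of_sub {x : ℕ} (hx : 1 ≤ x) (h : s ∣ x - 1) : ¬ s ∣ x := by
  intro h1
  have h4 : s ∣ 1 := by
    have h5 := Nat.dvd_sub h1 h
    rwa [Nat.sub_sub_self hx] at h5
  exact hs.out.one_lt.ne' (Nat.dvd_one.1 h4)

/-- the numbers `x ^ m - 1` -/
theorem val_pow_sub (hs2 : s ≠ 2) {x m : ℕ} (hx : 2 ≤ x) (h : s ∣ x - 1) (hm : m ≠ 0) :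
    padicValNat s (x ^ m - 1) = padicValNat s (x - 1) + padicValNat s m := by
  have h4 := padicValNat.pow_sub_pow (p := s) (hs.out.odd_of_ne_two hs2) (x := x) (y := 1) hx h
    (not_dvd_of_sub (by omega) h) hm
  rwa [one_pow] at h4

theorem val_two_mul (hs2 : s ≠ 2) {m : ℕ} (hm : m ≠ 0) : padicValNat s (2 * m) = padicValNat s m := by
  rw [padicValNat.mul (by norm_num) hm, val_zero, zero_add]
  intro h
  exact hs2 ((Nat.prime_dvd_prime_iff_eq hs.out Nat.prime_two).1 h)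

/-- the product of the `q ^ d - 1` -/
def P (q : ℕ) (L : List ℕ) : ℕ := (L.map fun d => q ^ d - 1).prod

theorem P_ne {q : ℕ} (hq : 2 ≤ q) : ∀ {L : List ℕ}, (∀ d ∈ L, d ≠ 0) → P q L ≠ 0
  | [], _ => by simp [P]
  | d :: L, h => by
    have h1 := P_ne hq (L := L) fun e he => h e (List.mem_cons_of_mem _ he)
    unfold P at h1 ⊢
    rw [List.map_cons, List.prod_cons]
    exact mul_ne_zero (pow_sub_ne hq (h d List.mem_cons_self)) h1

theorem val_P {q : ℕ} (hq : 2 ≤ q) (f : ℕ → ℕ) : ∀ {L : List ℕ}, (∀ d ∈ L, d ≠ 0 ∧ padicValNat s (q ^ d - 1) = f d) →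
    padicValNat s (P q L) = (L.map f).sum
  | [], _ => by simp [P]
  | d :: L, h => by
    have h1 := val_P hq f (L := L) fun e he => h e (List.mem_cons_of_mem _ he)
    have h2 := P_ne hq (L := L) fun e he => (h e (List.mem_cons_of_mem _ he)).1
    have h3 := h d List.mem_cons_self
    have e : P q (d :: L) = (q ^ d - 1) * P q L := by
      unfold P; rw [List.map_cons, List.prod_cons]
    rw [e, padicValNat.mul (pow_sub_ne hq h3.1) h2, h1, h3.2, List.map_cons, List.sum_cons]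

variable {q a : ℕ} (hs2 : s ≠ 2) (hq : 2 ≤ q) (ha1 : 1 ≤ a) (ha : s ^ a ∣ q ^ 2 - 1)
  (ha' : ¬ s ^ (a + 1) ∣ q ^ 2 - 1)

include ha1 ha in
theorem dvd_two : s ∣ q ^ 2 - 1 := (dvd_pow_self s (by omega)).trans ha

include hq ha1 ha in
theorem not_dvd_q : ¬ s ∣ q := fun h =>
  not_dvd_of_sub (Nat.one_le_pow _ _ (by omega)) (dvd_two ha1 ha) (dvd_pow h two_ne_zero)

include hq ha1 ha in
theorem val_q (k : ℕ) : padicValNat s (q ^ k) = 0 :=
  val_zero fun h => not_dvd_q hq ha1 ha (hs.out.dvd_of_dvd_pow h)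

include hs2 hq ha1 ha ha' in
/-- even exponents -/
theorem val_even {d : ℕ} (hd : d ≠ 0) (he : Even d) : padicValNat s (q ^ d - 1) = a + padicValNat s d := by
  obtain ⟨m, rfl⟩ := he
  have hm : m ≠ 0 := by omega
  rw [← two_mul, pow_mul, val_pow_sub hs2 (by nlinarith) (dvd_two ha1 ha) hm, val_eq ha ha', val_two_mul hs2 hm]

theorem sq_sub (hq1 : 1 ≤ q) : q ^ 2 - 1 = (q - 1) * (q + 1) := by
  obtain ⟨x, rfl⟩ := Nat.exists_eq_add_of_le hq1
  apply Nat.sub_eq_of_eq_add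
  rw [Nat.add_sub_cancel_left]
  ring

include hs2 in
theorem not_both (hq1 : 1 ≤ q) : ¬ (s ∣ q - 1 ∧ s ∣ q + 1) := by
  rintro ⟨h1, h2⟩
  have h3 := Nat.dvd_sub h2 h1
  have h4 : q + 1 - (q - 1) = 2 := by omega
  rw [h4] at h3
  exact hs2 ((Nat.prime_dvd_prime_iff_eq hs.out Nat.prime_two).1 h3)

include hs2 hq ha1 ha ha' in
/-- all exponents, `s ∣ q - 1` -/
theorem val_all (h1 : s ∣ q - 1) {d : ℕ} (hd : d ≠ 0) : padicValNat s (q ^ d - 1) = a + padicValNat s d := by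
  have h2 := val_even hs2 hq ha1 ha ha' (d := 2) (by norm_num) (by decide)
  rw [val_pow_sub hs2 hq h1 (by norm_num)] at h2
  rw [val_pow_sub hs2 hq h1 hd]
  omega

include hs2 hq in
/-- odd exponents, `s ∣ q + 1` -/
theorem val_odd (h1 : s ∣ q + 1) {d : ℕ} (hd : Odd d) : padicValNat s (q ^ d - 1) = 0 := by
  refine val_zero fun h => ?_
  have h3 : s ∣ q ^ d + 1 := by
    have := Odd.nat_add_dvd_pow_add_pow q 1 hd
    rw [one_pow] at this
    exact h1.trans this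
  exact not_both hs2 (q := q ^ d) (Nat.one_le_pow _ _ (by omega)) ⟨h, h3⟩

include hs2 hq ha1 ha ha' in
/-- `q ^ d + 1`, `s ∣ q + 1`, `d` odd -/
theorem val_add (h1 : s ∣ q + 1) {d : ℕ} (hd : Odd d) : padicValNat s (q ^ d + 1) = a + padicValNat s d := by
  have h2 := padicValNat.pow_add_pow (p := s) (hs.out.odd_of_ne_two hs2) (x := q) (y := 1) h1
    (not_dvd_q hq ha1 ha) hd
  rw [one_pow] at h2
  rw [h2]
  congr 1
  have h3 := val_eq ha ha'
  have h4 : ¬ s ∣ q - 1 := fun h => not_both hs2 (by omega) ⟨h, h1⟩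
  rw [sq_sub (by omega), padicValNat.mul (by omega) (by omega), val_zero h4, zero_add] at h3
  exact h3

include hs2 hq in
/-- `q ^ d + 1`, `s ∣ q - 1` -/
theorem val_add' (h1 : s ∣ q - 1) {d : ℕ} : padicValNat s (q ^ d + 1) = 0 := by
  refine val_zero fun h => ?_
  have h3 : s ∣ q ^ d - 1 := by
    have := Nat.sub_dvd_pow_sub_pow q 1 d
    rw [one_pow] at this
    exact h1.trans this
  exact not_both hs2 (q := q ^ d) (Nat.one_le_pow _ _ (by omega)) ⟨h3, h⟩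

end Val

theorem two_le_card {F : Type*} [Field F] [Fintype F] {q : ℕ} (hK : Fintype.card F = q) : 2 ≤ q := by
  rw [← hK]
  exact Fintype.one_lt_card

local instance fact3 : Fact (Nat.Prime 3) := ⟨Nat.prime_three⟩
local instance fact5 : Fact (Nat.Prime 5) := ⟨Nat.prime_five⟩

theorem v3 : padicValNat 3 2 = 0 ∧ padicValNat 3 5 = 0 ∧ padicValNat 3 6 = 1 ∧ padicValNat 3 8 = 0 ∧
    padicValNat 3 9 = 2 ∧ padicValNat 3 10 = 0 ∧ padicValNat 3 12 = 1 ∧ padicValNat 3 14 = 0 ∧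
    padicValNat 3 18 = 2 ∧ padicValNat 3 20 = 0 ∧ padicValNat 3 24 = 1 ∧ padicValNat 3 30 = 1 := by
  refine ⟨?_, ?_, ?_, ?_, ?_, ?_, ?_, ?_, ?_, ?_, ?_, ?_⟩ <;> exact val_eq (by norm_num) (by norm_num)

theorem v5 : padicValNat 5 2 = 0 ∧ padicValNat 5 6 = 0 ∧ padicValNat 5 8 = 0 ∧
    padicValNat 5 10 = 1 ∧ padicValNat 5 12 = 0 ∧ padicValNat 5 14 = 0 ∧
    padicValNat 5 18 = 0 ∧ padicValNat 5 20 = 1 ∧ padicValNat 5 24 = 0 ∧ padicValNat 5 30 = 1 := by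
  refine ⟨?_, ?_, ?_, ?_, ?_, ?_, ?_, ?_, ?_, ?_⟩ <;> exact val_eq (by norm_num) (by norm_num)

section Rows

variable {F : Type*} [Field F] [Fintype F] {q a : ℕ}

theorem val_group {s : ℕ} [hs : Fact s.Prime] {n N c : ℕ} {L : List ℕ} (hq : 2 ≤ q) (ha1 : 1 ≤ a)
    (ha : s ^ a ∣ q ^ 2 - 1) (hL : ∀ d ∈ L, d ≠ 0) (h : c * n = q ^ N * P q L) :
    n ≠ 0 ∧ padicValNat s c + padicValNat s n = padicValNat s (P q L) := by
  have h1 := P_ne hq hL
  have h2 : q ^ N ≠ 0 := pow_ne_zero _ (by omega)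
  have h3 : c * n ≠ 0 := by rw [h]; exact mul_ne_zero h2 h1
  have h4 : c ≠ 0 := left_ne_zero_of_mul h3
  have h5 : n ≠ 0 := right_ne_zero_of_mul h3
  refine ⟨h5, ?_⟩
  rw [← padicValNat.mul h4 h5, h, padicValNat.mul h2 h1, val_q hq ha1 ha, zero_add]

theorem val_even_list {s : ℕ} [hs : Fact s.Prime] (hs2 : s ≠ 2) (hq : 2 ≤ q) (ha1 : 1 ≤ a) (ha : s ^ a ∣ q ^ 2 - 1)
    (ha' : ¬ s ^ (a + 1) ∣ q ^ 2 - 1) {L : List ℕ} (hL : ∀ d ∈ L, d ≠ 0 ∧ Even d) :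
    padicValNat s (P q L) = (L.map fun d => a + padicValNat s d).sum :=
  val_P hq _ fun d hd => ⟨(hL d hd).1, val_even hs2 hq ha1 ha ha' (hL d hd).1 (hL d hd).2⟩

theorem F4_three (hK : Fintype.card F = q) (ha1 : 1 ≤ a) (ha : 3 ^ a ∣ q ^ 2 - 1)
    (ha' : ¬ 3 ^ (a + 1) ∣ q ^ 2 - 1) : ¬ 3 ^ (4 * a + 3) ∣ Nat.card ↥(chevF4.group F) := by
  have hq := two_le_card hK
  obtain ⟨e2, e5, e6, e8, e9, e10, e12, e14, e18, e20, e24, e30⟩ := v3
  obtain ⟨h1, h2⟩ := val_group (s := 3) (n := Nat.card ↥(chevF4.group F)) (N := 24) (c := 1) (L := [2, 6, 8, 12])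
    hq ha1 ha (by decide) (by rw [Cfsg.Agent.S1062.result hK]; simp [P]; ring)
  rw [val_even_list (by norm_num) hq ha1 ha ha' (by decide)] at h2
  simp only [List.map_cons, List.map_nil, List.sum_cons, List.sum_nil, e2, e6, e8, e12] at h2
  exact not_dvd_of_val h1 (by omega)

theorem E7_three (hK : Fintype.card F = q) (ha1 : 1 ≤ a) (ha : 3 ^ a ∣ q ^ 2 - 1)
    (ha' : ¬ 3 ^ (a + 1) ∣ q ^ 2 - 1) : ¬ 3 ^ (7 * a + 5) ∣ Nat.card ↥(chevE7.group F) := by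
  have hq := two_le_card hK
  obtain ⟨e2, e5, e6, e8, e9, e10, e12, e14, e18, e20, e24, e30⟩ := v3
  obtain ⟨h1, h2⟩ := val_group (s := 3) (n := Nat.card ↥(chevE7.group F)) (N := 63) (c := Nat.gcd 2 (q - 1))
    (L := [2, 6, 8, 10, 12, 14, 18]) hq ha1 ha (by decide) (by rw [Cfsg.Agent.S1064.result hK]; simp [P]; ring)
  rw [val_even_list (by norm_num) hq ha1 ha ha' (by decide)] at h2
  simp only [List.map_cons, List.map_nil, List.sum_cons, List.sum_nil, e2, e6, e8, e10, e12, e14, e18] at h2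
  exact not_dvd_of_val h1 (by omega)

theorem E7_five (hK : Fintype.card F = q) (ha1 : 1 ≤ a) (ha : 5 ^ a ∣ q ^ 2 - 1)
    (ha' : ¬ 5 ^ (a + 1) ∣ q ^ 2 - 1) : ¬ 5 ^ (7 * a + 2) ∣ Nat.card ↥(chevE7.group F) := by
  have hq := two_le_card hK
  obtain ⟨e2, e6, e8, e10, e12, e14, e18, e20, e24, e30⟩ := v5
  obtain ⟨h1, h2⟩ := val_group (s := 5) (n := Nat.card ↥(chevE7.group F)) (N := 63) (c := Nat.gcd 2 (q - 1))
    (L := [2, 6, 8, 10, 12, 14, 18]) hq ha1 ha (by decide) (by rw [Cfsg.Agent.S1064.result hK]; simp [P]; ring)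
  rw [val_even_list (by norm_num) hq ha1 ha ha' (by decide)] at h2
  simp only [List.map_cons, List.map_nil, List.sum_cons, List.sum_nil, e2, e6, e8, e10, e12, e14, e18] at h2
  exact not_dvd_of_val h1 (by omega)

theorem E8_three (hK : Fintype.card F = q) (ha1 : 1 ≤ a) (ha : 3 ^ a ∣ q ^ 2 - 1)
    (ha' : ¬ 3 ^ (a + 1) ∣ q ^ 2 - 1) : ¬ 3 ^ (8 * a + 6) ∣ Nat.card ↥(chevE8.group F) := by
  have hq := two_le_card hK
  obtain ⟨e2, e5, e6, e8, e9, e10, e12, e14, e18, e20, e24, e30⟩ := v3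
  obtain ⟨h1, h2⟩ := val_group (s := 3) (n := Nat.card ↥(chevE8.group F)) (N := 120) (c := 1)
    (L := [2, 8, 12, 14, 18, 20, 24, 30]) hq ha1 ha (by decide) (by rw [Cfsg.Agent.S1065.result hK]; simp [P]; ring)
  rw [val_even_list (by norm_num) hq ha1 ha ha' (by decide)] at h2
  simp only [List.map_cons, List.map_nil, List.sum_cons, List.sum_nil, e2, e8, e12, e14, e18, e20, e24, e30] at h2
  exact not_dvd_of_val h1 (by omega)

theorem E8_five (hK : Fintype.card F = q) (ha1 : 1 ≤ a) (ha : 5 ^ a ∣ q ^ 2 - 1)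
    (ha' : ¬ 5 ^ (a + 1) ∣ q ^ 2 - 1) : ¬ 5 ^ (8 * a + 3) ∣ Nat.card ↥(chevE8.group F) := by
  have hq := two_le_card hK
  obtain ⟨e2, e6, e8, e10, e12, e14, e18, e20, e24, e30⟩ := v5
  obtain ⟨h1, h2⟩ := val_group (s := 5) (n := Nat.card ↥(chevE8.group F)) (N := 120) (c := 1)
    (L := [2, 8, 12, 14, 18, 20, 24, 30]) hq ha1 ha (by decide) (by rw [Cfsg.Agent.S1065.result hK]; simp [P]; ring)
  rw [val_even_list (by norm_num) hq ha1 ha ha' (by decide)] at h2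
  simp only [List.map_cons, List.map_nil, List.sum_cons, List.sum_nil, e2, e8, e12, e14, e18, e20, e24, e30] at h2
  exact not_dvd_of_val h1 (by omega)

theorem gcd_three {m : ℕ} (h : 3 ∣ m) : padicValNat 3 (Nat.gcd 3 m) = 1 := by
  rw [Nat.gcd_eq_left h]
  exact padicValNat_self

theorem E6_three_one (hK : Fintype.card F = q) (ha1 : 1 ≤ a) (ha : 3 ^ a ∣ q ^ 2 - 1)
    (ha' : ¬ 3 ^ (a + 1) ∣ q ^ 2 - 1) (hq3 : q % 3 = 1) : ¬ 3 ^ (6 * a + 4) ∣ Nat.card ↥(chevE6.group F) := by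
  have hq := two_le_card hK
  have h3 : 3 ∣ q - 1 := by omega
  obtain ⟨e2, e5, e6, e8, e9, e10, e12, e14, e18, e20, e24, e30⟩ := v3
  obtain ⟨h1, h2⟩ := val_group (s := 3) (n := Nat.card ↥(chevE6.group F)) (N := 36) (c := Nat.gcd 3 (q - 1))
    (L := [2, 5, 6, 8, 9, 12]) hq ha1 ha (by decide) (by rw [Cfsg.Agent.S1063.result hK]; simp [P]; ring)
  have hne : ∀ d ∈ [2, 5, 6, 8, 9, 12], d ≠ 0 := by decide
  rw [gcd_three h3, val_P hq (fun d => a + padicValNat 3 d) (L := [2, 5, 6, 8, 9, 12]) fun d hd =>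
    ⟨hne d hd, val_all (by norm_num) hq ha1 ha ha' h3 (hne d hd)⟩] at h2
  simp only [List.map_cons, List.map_nil, List.sum_cons, List.sum_nil, e2, e5, e6, e8, e9, e12] at h2
  exact not_dvd_of_val h1 (by omega)

theorem E6_three_two (hK : Fintype.card F = q) (ha1 : 1 ≤ a) (ha : 3 ^ a ∣ q ^ 2 - 1)
    (ha' : ¬ 3 ^ (a + 1) ∣ q ^ 2 - 1) (hq3 : q % 3 = 2) : ¬ 3 ^ (4 * a + 3) ∣ Nat.card ↥(chevE6.group F) := by
  have hq := two_le_card hK
  have h3 : 3 ∣ q + 1 := by omega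
  obtain ⟨e2, e5, e6, e8, e9, e10, e12, e14, e18, e20, e24, e30⟩ := v3
  obtain ⟨h1, h2⟩ := val_group (s := 3) (n := Nat.card ↥(chevE6.group F)) (N := 36) (c := Nat.gcd 3 (q - 1))
    (L := [2, 5, 6, 8, 9, 12]) hq ha1 ha (by decide) (by rw [Cfsg.Agent.S1063.result hK]; simp [P]; ring)
  have hne : ∀ d ∈ [2, 5, 6, 8, 9, 12], d ≠ 0 := by decide
  rw [val_P hq (fun d => if d % 2 = 0 then a + padicValNat 3 d else 0) (L := [2, 5, 6, 8, 9, 12]) fun d hd =>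
    ⟨hne d hd, by
      split_ifs with h
      · exact val_even (by norm_num) hq ha1 ha ha' (hne d hd) (Nat.even_iff.2 h)
      · exact val_odd (by norm_num) hq h3 (Nat.odd_iff.2 (by omega))⟩] at h2
  simp [e2, e6, e8, e12] at h2
  exact not_dvd_of_val h1 (by omega)

theorem val_group' {s : ℕ} [hs : Fact s.Prime] {n N c m : ℕ} {L : List ℕ} (hq : 2 ≤ q) (ha1 : 1 ≤ a)
    (ha : s ^ a ∣ q ^ 2 - 1) (hL : ∀ d ∈ L, d ≠ 0) (hm : m ≠ 0) (h : c * n = q ^ N * P q L * m) :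
    n ≠ 0 ∧ padicValNat s c + padicValNat s n = padicValNat s (P q L) + padicValNat s m := by
  have h1 := P_ne hq hL
  have h2 : q ^ N ≠ 0 := pow_ne_zero _ (by omega)
  have h3 : c * n ≠ 0 := by rw [h]; exact mul_ne_zero (mul_ne_zero h2 h1) hm
  have h4 : c ≠ 0 := left_ne_zero_of_mul h3
  have h5 : n ≠ 0 := right_ne_zero_of_mul h3
  refine ⟨h5, ?_⟩
  rw [← padicValNat.mul h4 h5, h, padicValNat.mul (mul_ne_zero h2 h1) hm, padicValNat.mul h2 h1, val_q hq ha1 ha,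
    zero_add]

/-- `²E₆(q)`, `q = 2 mod 3` -/
theorem twE6_three_two (hq0 : IsPrimePow q) (hK : Fintype.card F = q ^ 2) (ha1 : 1 ≤ a) (ha : 3 ^ a ∣ q ^ 2 - 1)
    (ha' : ¬ 3 ^ (a + 1) ∣ q ^ 2 - 1) (hq3 : q % 3 = 2) : ¬ 3 ^ (6 * a + 4) ∣ Nat.card ↥(twistedE6 F q) := by
  have hq : 2 ≤ q := hq0.two_le
  have h3 : 3 ∣ q + 1 := by omega
  obtain ⟨e2, e5, e6, e8, e9, e10, e12, e14, e18, e20, e24, e30⟩ := v3
  obtain ⟨h1, h2⟩ := val_group' (s := 3) (n := Nat.card ↥(twistedE6 F q)) (N := 36) (c := Nat.gcd 3 (q + 1))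
    (L := [2, 6, 8, 12]) (m := (q ^ 5 + 1) * (q ^ 9 + 1)) hq ha1 ha (by decide) (by positivity)
    (by rw [Cfsg.Agent.S1066.result hq0 hK]; simp [P]; ring)
  rw [gcd_three h3, val_even_list (by norm_num) hq ha1 ha ha' (by decide), padicValNat.mul (by positivity) (by positivity),
    val_add (by norm_num) hq ha1 ha ha' h3 (by decide), val_add (by norm_num) hq ha1 ha ha' h3 (by decide)] at h2
  simp only [List.map_cons, List.map_nil, List.sum_cons, List.sum_nil, e2, e5, e6, e8, e9, e12] at h2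
  exact not_dvd_of_val h1 (by omega)

/-- `²E₆(q)`, `q = 1 mod 3` -/
theorem twE6_three_one (hq0 : IsPrimePow q) (hK : Fintype.card F = q ^ 2) (ha1 : 1 ≤ a) (ha : 3 ^ a ∣ q ^ 2 - 1)
    (ha' : ¬ 3 ^ (a + 1) ∣ q ^ 2 - 1) (hq3 : q % 3 = 1) : ¬ 3 ^ (4 * a + 3) ∣ Nat.card ↥(twistedE6 F q) := by
  have hq : 2 ≤ q := hq0.two_le
  have h3 : 3 ∣ q - 1 := by omega
  obtain ⟨e2, e5, e6, e8, e9, e10, e12, e14, e18, e20, e24, e30⟩ := v3
  obtain ⟨h1, h2⟩ := val_group' (s := 3) (n := Nat.card ↥(twistedE6 F q)) (N := 36) (c := Nat.gcd 3 (q + 1))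
    (L := [2, 6, 8, 12]) (m := (q ^ 5 + 1) * (q ^ 9 + 1)) hq ha1 ha (by decide) (by positivity)
    (by rw [Cfsg.Agent.S1066.result hq0 hK]; simp [P]; ring)
  rw [val_even_list (by norm_num) hq ha1 ha ha' (by decide), padicValNat.mul (by positivity) (by positivity),
    val_add' (by norm_num) hq h3, val_add' (by norm_num) hq h3] at h2
  simp only [List.map_cons, List.map_nil, List.sum_cons, List.sum_nil, e2, e5, e6, e8, e9, e12] at h2
  exact not_dvd_of_val h1 (by omega)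

/-- `E₈(q)`, `5 ∣ q² + 1`, `5 ^ a ∣ q⁴ - 1` exactly -/
theorem E8_five_four (hK : Fintype.card F = q) (ha1 : 1 ≤ a) (h5 : 5 ∣ q ^ 2 + 1) (ha : 5 ^ a ∣ q ^ 4 - 1)
    (ha' : ¬ 5 ^ (a + 1) ∣ q ^ 4 - 1) : ¬ 5 ^ (4 * a + 2) ∣ Nat.card ↥(chevE8.group F) := by
  have hq' := two_le_card hK
  obtain ⟨Q, hQ⟩ : ∃ Q, Q = q ^ 2 := ⟨_, rfl⟩
  have hq : 2 ≤ Q := by rw [hQ]; nlinarith
  have hQ4 : q ^ 4 = Q ^ 2 := by rw [hQ]; ring
  rw [hQ4] at ha ha'
  rw [← hQ] at h5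
  have e4 : padicValNat 5 4 = 0 := val_eq (by norm_num) (by norm_num)
  obtain ⟨e2, e6, e8, e10, e12, e14, e18, e20, e24, e30⟩ := v5
  have hcard : 1 * Nat.card ↥(chevE8.group F) = Q ^ 60 * P Q [1, 4, 6, 7, 9, 10, 12, 15] := by
    rw [Cfsg.Agent.S1065.result hK, hQ]
    simp only [P, List.map_cons, List.map_nil, List.prod_cons, List.prod_nil, ← pow_mul]
    norm_num
    ring
  obtain ⟨h1, h2⟩ := val_group (s := 5) hq ha1 ha (by decide) hcard
  have hne : ∀ d ∈ [1, 4, 6, 7, 9, 10, 12, 15], d ≠ 0 := by decide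
  rw [val_P hq (fun d => if d % 2 = 0 then a + padicValNat 5 d else 0) (L := [1, 4, 6, 7, 9, 10, 12, 15]) fun d hd =>
    ⟨hne d hd, by
      split_ifs with h
      · exact val_even (by norm_num) hq ha1 ha ha' (hne d hd) (Nat.even_iff.2 h)
      · exact val_odd (by norm_num) hq h5 (Nat.odd_iff.2 (by omega))⟩] at h2
  simp [e4, e6, e10, e12] at h2
  exact not_dvd_of_val h1 (by omega)

end Rows

end Cfsg.Agent.H169.ExcOrd
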