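import Cfsg.Agent.H565.NoMinExc
import Cfsg.Agent.PRankPar.Inst

/-!
# `NoMin 5 7` for `E₇(q)`, `5 ∤ q (q² - 1)` (TEAM HALL, piece (P5))

* `not_rank` : `p`-rank at most 3 of a Chevalley group of rank at most 7, `p ∤ q (q² - 1)`, `p ≥ 5`, `p² ∤ |W|`
  (`PRankPar.Inst.not_rank` in all characteristics);
* `noMin_e7_five_seven`.
-/

set_option autoImplicit false
set_option linter.unusedSectionVars false

namespace Cfsg.Agent.H169.NoMinE7

open CoxeterSystem Cfsg.Agent.ChevalleyStructure.CoxeterGeom Cfsg.Agent.Tits.Roots Cfsg.Agent.Tits.Core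
  Cfsg.Agent.Tits.Exchange
  Cfsg.Agent.Nodes.Reps Cfsg.Agent.Nodes.BNOf Cfsg.Agent.Nodes.Bruhat Cfsg.Agent.Nodes.LeviDec
  Cfsg.Agent.Nodes.StabComb Cfsg.Agent.Nodes.RGDChev
  Cfsg.Agent.KFacts Cfsg.Agent.KFacts.RgdChevCoord Cfsg.Agent.PRankPar.Chev Cfsg.Agent.PRankPar
open Cfsg.Lie Cfsg.Agent.ChevalleyStructure.CoxeterGeomTypes

universe u v

/-! ### arithmetic -/

theorem cast_facts {F : Type*} [Field F] [Finite F] {p : ℕ} [Fact p.Prime] (hpF : (p : F) ≠ 0)
    (hd : ¬ p ∣ Nat.card F ^ 2 - 1) : ((Nat.card F : ℕ) : ZMod p) ≠ 0 ∧ ((Nat.card F : ℕ) : ZMod p) ^ 2 ≠ 1 := by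
  have hp : p.Prime := Fact.out
  have hpos : 1 ≤ Nat.card F := Nat.card_pos
  have := Fintype.ofFinite F
  constructor
  · rw [Ne, ZMod.natCast_eq_zero_iff]
    intro h
    obtain ⟨r, hr⟩ := CharP.exists F
    have hrp : r.Prime := CharP.char_is_prime F r
    obtain ⟨n, -, hn⟩ := FiniteField.card F r
    rw [Nat.card_eq_fintype_card, hn] at h
    have h1 := (Nat.prime_dvd_prime_iff_eq hp hrp).1 (hp.dvd_of_dvd_pow h)
    subst h1
    exact hpF (CharP.cast_eq_zero F p)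
  · intro h
    apply hd
    rw [← ZMod.natCast_eq_zero_iff, Nat.cast_sub (Nat.one_le_pow _ _ hpos), Nat.cast_pow, h, Nat.cast_one, sub_self]

theorem exists_ext (F : Type v) [Field F] [Finite F] {r : ℕ} [Fact r.Prime] [CharP F r] {p : ℕ} [Fact p.Prime]
    (h2 : p ≠ r) :
    ∃ (K : Type) (_ : Field K) (_ : Finite K) (_ : CharP K r) (f : F →+* K) (τ : K ≃+* K),
      (∀ a, τ a = a ^ Nat.card F) ∧ (∀ a, τ (f a) = f a) ∧ p ^ 2 ∣ Nat.card K - 1 := by
  have hp : p.Prime := Fact.out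
  have hr : r.Prime := Fact.out
  have hN : NeZero (Nat.totient (p ^ 2)) := ⟨(Nat.totient_pos.2 (pow_pos hp.pos 2)).ne'⟩
  let _ : Algebra (ZMod r) F := ZMod.algebra F r
  refine ⟨FiniteField.Extension F r (Nat.totient (p ^ 2)), inferInstance, inferInstance,
    charP_of_injective_ringHom (algebraMap F (FiniteField.Extension F r (Nat.totient (p ^ 2)))).injective r,
    algebraMap F _, (FiniteField.Extension.frob F r (Nat.totient (p ^ 2))).toRingEquiv, fun a => ?_, fun a => ?_, ?_⟩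
  · exact FiniteField.Extension.frob_apply ..
  · exact AlgEquiv.commutes _ a
  · rw [FiniteField.natCard_extension]
    have := Fintype.ofFinite F
    obtain ⟨n, -, hn⟩ := FiniteField.card F r
    have hco : (Nat.card F).Coprime (p ^ 2) := by
      rw [Nat.card_eq_fintype_card, hn]
      exact Nat.Coprime.pow _ _ ((Nat.coprime_primes hr hp).2 (Ne.symm h2))
    have h1 := Nat.ModEq.pow_totient hco
    exact (Nat.modEq_iff_dvd' (Nat.one_le_pow _ _ Nat.card_pos)).1 h1.symm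

/-! ### the rank -/

section Main

variable {D : ChevalleyDatum} {l : ℕ} {M : CoxeterMatrix (Fin l)} (hp : IsType D l M)
  {W : Type*} [Group W] (cs : CoxeterSystem M W)

theorem not_four (F : Type v) [Field F] [Finite F] {r : ℕ} [Fact r.Prime] [CharP F r] {p : ℕ} [Fact p.Prime]
    (h2 : p ≠ r)
    {J : Set (Fin l)} (hW : ¬ p ^ 2 ∣ Nat.card ↥(WJ cs J))
    (hA : ∀ w ∈ WJ cs J, ∀ S : Set (Fin l → ZMod p),
      (∀ a ∈ S, ∀ i, ∑ j, ((rep cs hp.isCartan w (sr ((1 : Equiv.Perm (Fin l)) i)) j : ℤ) : ZMod p) * a j =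
        ((Nat.card F : ℕ) : ZMod p) * a i) → Nat.card ↥S ≤ p ^ 3)
    (hB : ∀ w ∈ WJ cs J, ∀ S : Set (Fin l → ZMod p),
      (∀ a ∈ S, ∀ i, ∑ j, ((rep cs hp.isCartan w (sr ((1 : Equiv.Perm (Fin l)) i)) j : ℤ) : ZMod p) * a j =
        ((Nat.card F : ℕ) : ZMod p) * a i) →
      p ^ 3 ≤ Nat.card ↥S → ∀ v ∈ WJ cs J, v ^ p = 1 →
      (∀ a ∈ S, ∀ i, ∑ j, ((rep cs hp.isCartan v (sr i) j : ℤ) : ZMod p) * a j = a i) → v = 1)
    {E : Subgroup ↥(D.group F)} (hE : E ≤ PJ cs hp.isCartan (TT D F) (XX D l F) J)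
    (hEab : ∀ a ∈ E, ∀ b ∈ E, a * b = b * a) (hexp : ∀ t ∈ E, t ^ p = 1) (hcard : Nat.card ↥E = p ^ 4) : False := by
  have hWf := finite_W hp cs
  obtain ⟨K, _, _, _, f, τ, hτ, hτf, hQ⟩ := exists_ext F (p := p) h2
  refine Frob.not_four (r := r) (T := TT D K) (X := XX D l K) (rgd (K := K) hp cs r) (p := p) h2 hQ
    (coords hp cs r) (T_comm hp cs r) (faithful hp cs r) (ch_prod hp cs r) (tau_field hp τ) (q := Nat.card F) hτ
    (J := J) (fun y hy => emb_PJ hp cs (τ : K →+* K) hy) hW hA hB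
    (E := E.map (emb hp.inList f)) ?_ ?_ ?_ ?_ ?_
  · rintro _ ⟨e, he, rfl⟩
    exact emb_PJ hp cs f (hE he)
  · rintro _ ⟨a, ha, rfl⟩ _ ⟨b, hb, rfl⟩
    rw [← map_mul, hEab a ha b hb, map_mul]
  · rintro _ ⟨a, ha, rfl⟩
    rw [← map_pow, hexp a ha, map_one]
  · rw [Subgroup.card_map_of_injective (emb_injective hp.inList f), hcard]
  · rintro _ ⟨a, ha, rfl⟩
    exact fieldAut_emb hp.inList hτf a

include hp cs in
/-- ranks at most 7 -/
theorem not_rank (F : Type v) [Field F] [Finite F] {p : ℕ} [Fact p.Prime] (hpF : (p : F) ≠ 0) (h5 : 5 ≤ p)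
    (hd : ¬ p ∣ Nat.card F ^ 2 - 1) {d : Fin l → ℤ} (hF : Weyl.FormData (cartanOf D l) p d) (hl : l ≤ 7)
    (hW : ¬ p ^ 2 ∣ Nat.card W) : ¬ PRankAtLeast p 4 ↥(D.group F) := by
  intro h
  have := Fintype.ofFinite F
  obtain ⟨r, hr⟩ := CharP.exists F
  have : Fact r.Prime := ⟨CharP.char_is_prime F r⟩
  have h2 : p ≠ r := by
    rintro rfl
    exact hpF (CharP.cast_eq_zero F p)
  have hWf := finite_W hp cs
  obtain ⟨hq, hq2⟩ := cast_facts (F := F) (p := p) hpF hd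
  obtain ⟨E, hab, hexp, hcard⟩ := Inst.exists_card_four h
  refine not_four hp cs F h2 (J := Set.univ) ?_ ?_ ?_ (E := E) ?_ hab hexp hcard
  · rw [WJ_univ]
    have : Nat.card ↥(⊤ : Subgroup W) = Nat.card W := Nat.card_congr Subgroup.topEquiv.toEquiv
    rw [this]; exact hW
  · intro w _ S hS
    have h1 := Weyl.card_le' (cs := cs) (h := hp.isCartan) hF (σ := 1) (fun _ _ => rfl) (fun _ => rfl) hq hq2 S hS
    refine h1.trans (Nat.pow_le_pow_right (by omega) ?_)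
    rw [Fintype.card_fin]
    omega
  · intro w _ S hS h3 v _ hv hfix
    exact Weyl.eq_one_of_fix' (cs := cs) (h := hp.isCartan) hF (σ := 1) (fun _ _ => rfl) (fun _ => rfl) hq hq2 S hS
      (by rw [Fintype.card_fin]; exact hl) h5 h3 hv hfix
  · have h1 : GG cs hp.isCartan (TT D F) (XX D l F) = ⊤ := by
      rw [eq_top_iff, ← G1_eq_top hp cs]
      exact le_sup_right
    intro y _
    apply LJ_le_PJ
    rw [LJ_univ, h1]
    trivial

end Main

/-- **`p`-rank at most 3 in `E₇(q)`, `p ≥ 5`, `p ∤ q (q² - 1)`.** -/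
theorem not_rank_E7 (F : Type v) [Field F] [Finite F] {p : ℕ} [Fact p.Prime] (hpF : (p : F) ≠ 0) (h5 : 5 ≤ p)
    (hd : ¬ p ∣ Nat.card F ^ 2 - 1) : ¬ PRankAtLeast p 4 ↥(chevE7.group F) :=
  not_rank Inst.type_E7 CoxeterMatrix.E₇.toCoxeterSystem F hpF h5 hd (CardW.formData_E7 h5) (by norm_num)
    (CardW.sq_not_dvd_W_E7 CoxeterMatrix.E₇.toCoxeterSystem Fact.out h5)

open Cfsg.Agent.H565.NM Cfsg.Agent.H167.OP

/-- **`NoMin 5 7` for `E₇(q)`, `5 ∤ q (q² - 1)`.** -/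
theorem noMin_e7_five_seven (F : Type u) [Field F] [Finite F] (h5 : ((5 : ℕ) : F) ≠ 0)
    (hd : ¬ 5 ∣ Nat.card F ^ 2 - 1) : NoMin 5 7 ↥(chevE7.group F) := by
  classical
  intro y B h
  have hf5 : Fact (Nat.Prime 5) := ⟨by norm_num⟩
  have hG : Finite ↥(chevE7.group F) := inferInstance
  have := Fintype.ofFinite F
  obtain ⟨r, e, hr, hrF, hrk, he, hq', hk⟩ := H129.TorusUntw.exists_closure (F := F) rfl
  have hsr : 5 ≠ r := by
    rintro rfl
    exact h5 (CharP.cast_eq_zero F 5)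
  have hP := h.isPGroup
  by_cases hab : ∀ a ∈ B, ∀ b ∈ B, a * b = b * a
  · -- elementary abelian of order at least `5 ^ 6`
    apply not_rank_E7 F (p := 5) h5 le_rfl hd
    have hexp : ∀ d ∈ B, d ^ 5 = 1 := fun d hd => h.pow_eq_one hab hd
    have h1 := h.relIndex_modEq (X := ⊥) (fun x hx => by
      rw [Subgroup.mem_bot] at hx
      rw [hx, mul_one, mul_inv_cancel]
      exact one_mem _) (fun a ha b hb => by
      rw [Subgroup.mem_bot, hab a ha b hb]
      group)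
    rw [Subgroup.relIndex_bot_left] at h1
    refine ⟨B, ⟨⟨fun a b => Subtype.ext (hab a a.2 b b.2)⟩⟩, hexp, ?_⟩
    obtain ⟨n, hn⟩ := (IsPGroup.iff_card (p := 5)).1 hP
    rw [hn] at h1 ⊢
    have hn0 : n ≠ 0 := by
      rintro rfl
      rw [pow_zero] at hn
      apply h.ncen
      intro d hd
      have h3 : B = ⊥ := Subgroup.card_eq_one.1 hn
      rw [h3, Subgroup.mem_bot] at hd
      rw [hd, mul_one, one_mul]
    refine Nat.pow_le_pow_right (by norm_num) ?_
    by_contra hlt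
    have hlt' : n = 1 ∨ n = 2 ∨ n = 3 := by omega
    rcases hlt' with rfl | rfl | rfl <;> revert h1 <;> decide
  · have hWs : ¬ 5 ^ (1 + 1) ∣ Nat.card CoxeterMatrix.E₇.Group :=
      CardW.sq_not_dvd_W_E7 CoxeterMatrix.E₇.toCoxeterSystem (by norm_num) le_rfl
    set f := emb Inst.type_E7.inList (algebraMap F (AlgebraicClosure F)) with hf
    have hfi : Function.Injective f := emb_injective Inst.type_E7.inList _
    have hfin : Finite ↥(B.map f) :=
      Finite.of_surjective (fun u : B => (⟨f u, ⟨u, u.2, rfl⟩⟩ : ↥(B.map f))) (by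
        rintro ⟨_, ⟨u, hu, rfl⟩⟩
        exact ⟨⟨u, hu⟩, rfl⟩)
    obtain ⟨A, hA, hAi, g, hg⟩ := H565.NM.exists_toral_index Inst.type_E7 r hk (e := 1) h.hs hsr hWs (Q := B.map f)
      (h.isPGroup.map f)
    have hAB : A.comap f ≤ B := by
      intro x hx
      obtain ⟨z, hz, e⟩ := hA hx
      rwa [← hfi e]
    refine minD_no_index (by norm_num) (by norm_num) h hab (B := A.comap f) hAB (fun a ha b hb => ?_) ?_
    · have h1 := Cfsg.Agent.BpExc.TorChev.TT_comm Inst.type_E7 _ (hg _ ha) _ (hg _ hb)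
      have h2 : g * (f a * f b) * g⁻¹ = g * (f b * f a) * g⁻¹ := by
        calc g * (f a * f b) * g⁻¹ = (g * f a * g⁻¹) * (g * f b * g⁻¹) := by group
          _ = (g * f b * g⁻¹) * (g * f a * g⁻¹) := h1
          _ = _ := by group
      have h3 := mul_left_cancel (mul_right_cancel h2)
      rw [← map_mul, ← map_mul] at h3
      exact hfi h3
    · have hAr : (A.comap f).map f = A := by
        rw [Subgroup.map_comap_eq_self]
        exact hA.trans (Subgroup.map_le_range f B)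
      have h5 : A.relIndex (B.map f) = (A.comap f).relIndex B := by
        conv_lhs => rw [← hAr]
        rw [Subgroup.relIndex_map_map, (MonoidHom.ker_eq_bot_iff f).2 hfi, sup_bot_eq, sup_bot_eq]
      rw [← h5, ← pow_one 5]
      exact hAi

end Cfsg.Agent.H169.NoMinE7
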