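import Cfsg.Agent.H169.WTab
import Cfsg.Agent.H130.WeylTab

/-!
# The coset of the triality in `Aut(D₄)`: generated table and the annihilating polynomials
-/

set_option autoImplicit false

namespace Cfsg.Agent.H169.WTabD4

open Cfsg.Agent.H169.WTab Cfsg.Agent.H130.WeylTab

/-- the codes of the `192` frames -/
def tabD4 : List ℕ := [
  76586917212, 76098636587, 77809567217, 76586932787, 76489339087, 76001058462, 77708085967, 76489354662,
  76001074037, 77708104657, 77463574031, 83801839057, 108274432657, 108029902031, 108278335782, 114368167057,
  114123636431, 115590817062, 115590816437, 115610332687, 115590739187, 115590738562, 114368086067, 115610254812,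
  115610254187, 114391504817, 114147754193, 108278239217, 83922832817, 83679082193, 83922835932, 83679085931,
  77809585907, 114391585807, 114147835806, 114147832681, 108034585781, 106811932651, 77565835906, 75124432781,
  74879902157, 69030667181, 44558104531, 44313573907, 45776854526, 38464338931, 38219808307, 38464335806,
  38219804557, 44558085781, 69030585931, 68786054682, 70253239061, 75124335906, 74879804657, 77565739031,
  77809488407, 83679004681, 108034567031, 108278316407, 106811917026, 106811136401, 45776838901, 45776058276,
  44553402031, 45776073901, 44553420781, 106811152026, 44309670782, 38440139556, 75022170906, 74778420907,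
  68908889681, 68665139682, 70127636561, 70127635938, 82334652186, 70127558436, 70127557813, 68908808431,
  82334574061, 82334573438, 83557227181, 83801757182, 77463477156, 114123633306, 114368163307, 108029883281,
  108274413282, 77708007157, 76489254037, 76000973412, 76489238462, 76586832162, 76098551537, 76586816587,
  76098535962, 77809469717, 77565719718, 83922750942, 108278219842, 108034469843, 108274316717, 114391501067,
  114147751068, 83679000943, 82460254063, 82460254686, 70253238438, 82460332188, 82460332811, 70253316563,
  70253317186, 69030663443, 68786133442, 75124413468, 38464257318, 38219727317, 38464254193, 44558007343,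
  44313477342, 45776754223, 45775973598, 45776738598, 106811832348, 106811051723, 108034488593, 106811816723,
  106811036098, 108029786093, 45775957973, 44553304843, 44309554842, 38440054818, 75022054718, 74778304717,
  77463457843, 68908804693, 68665054692, 68665057807, 38196304817, 36977557937, 36977558562, 36997073562,
  36977635812, 36977636437, 38196385807, 36997151437, 36997152062, 36997074187, 38440136431, 44309651407,
  44313554532, 74778323407, 75022074031, 38196389557, 38219723567, 44313457967, 68786051567, 69030582193,
  74879785967, 75124316593, 44557988593, 38196308567, 38440057943, 44309574217, 68665136567, 68908885943,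
  74778402217, 75022151593, 77463554718, 44553323593, 83557304693, 108029804843, 108274336092, 114123554818,
  114123551693, 114368082317, 83557223443, 83801754067, 77707988467, 83801835942, 82334651563, 76000957837,
  77565816593, 74879883467, 68786136557, 83922754057, 114391582057, 115610332062, 83557308431, 76098652162]

/-- the annihilating polynomials -/
def polsD4 : List (List ℤ) := [[1, 0, -1, 0, 1], [1, 1, 1], [1, -1, 1], [-1, -1, 0, 1, 1], [-1, 1, 0, -1, 1],
  [1, -1, 0, -1, 1], [1, 1, 0, 1, 1]]

theorem closed_D4 : Closed alD4 5 2 4 tabD4 = true := by decide +kernel

theorem ann_D4 : (tabD4.all fun c => polsD4.any fun p => Ann 4 (dec 5 2 4 c) p) = true := by decide +kernel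

theorem dec_D4 : dec 5 2 4 76586917212 = [[0, 0, 1, 0], [0, 1, 0, 0], [0, 0, 0, 1], [1, 0, 0, 0]] := by decide +kernel

theorem mem_D4 : 76586917212 ∈ tabD4 := List.mem_cons_self

end Cfsg.Agent.H169.WTabD4
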