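import Cfsg.Agent.H169.ExcTw
import Cfsg.Agent.H169.WTabD4
import Cfsg.Agent.H163.PG.Few

/-!
# `Has3Out` for the groups `³D₄(q)`
-/

set_option autoImplicit false

namespace Cfsg.Agent.H169.TorPair

open CoxeterSystem Cfsg Cfsg.Lie Cfsg.Lie.ChevalleyDatum
open Cfsg.Agent.ChevalleyStructure Cfsg.Agent.ChevalleyStructure.Elts Cfsg.Agent.ChevalleyStructure.CoxeterGeom
  Cfsg.Agent.ChevalleyStructure.CoxeterGeomTypes Cfsg.Agent.ChevalleyStructure.NPerm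
open Cfsg.Agent.Tits.Roots Cfsg.Agent.Tits.Core Cfsg.Agent.Nodes Cfsg.Agent.Nodes.Reps Cfsg.Agent.Nodes.BNOf
  Cfsg.Agent.Nodes.RGDChev Cfsg.Agent.Nodes.Bruhat Cfsg.Agent.Nodes.SubComb Cfsg.Agent.Nodes.Coroot
open Cfsg.Agent.KFacts.RgdField Cfsg.Agent.KFacts.RgdChevCoord Cfsg.Agent.BpExc.TorCent Cfsg.Agent.BpExc.TorChev
open Cfsg.Agent.GpExc.Field Cfsg.Agent.BpExc.Tow Cfsg.Agent.BpExc.TowChev Cfsg.Agent.BpExc.Fr
  Cfsg.Agent.BpExc.LangFr Cfsg.Agent.LangThm Cfsg.Agent.BpExc Cfsg.Agent.H129.TorusChar Cfsg.Agent.H129.TorusCent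
  Cfsg.Agent.H129.TorusTw Cfsg.Agent.H129.TorusMain Cfsg.Agent.H129.TorusUntw Cfsg.Agent.H720.TorusReal

open Polynomial (aeval)

universe u

variable {D : ChevalleyDatum} {l : ℕ} {M : CoxeterMatrix (Fin l)} (hp : IsType D l M) {k : Type u} [Field k]
  {W : Type*} [Group W] (cs : CoxeterSystem M W) {p e : ℕ} [Fact p.Prime] [CharP k p] {σ : MulAut ↥(D.group k)}
  {g : (Fin l → ℤ) ≃+ (Fin l → ℤ)}

/-- **Orders of semisimple elements.** -/
theorem order_dvd_all [IsAlgClosed k] [Finite W] (hA : Cfsg.Agent.BpExc.TorAll.HAlg p k) (hk : LocFin k)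
    (hσ : IsFrob p e σ) (F : Fr cs hp.isCartan (TT D k) (XX D l k) σ g) {x : ↥(D.group k)} (hx : σ x = x)
    (hx0 : orderOf x ≠ 0) (hxp : (orderOf x).Coprime p) :
    ∃ w : W, ∀ h : Polynomial ℤ, aeval (thL hp cs w g) h = 0 → (orderOf x : ℤ) ∣ h.eval ((p ^ e : ℕ) : ℤ) := by
  obtain ⟨z₁, t, n, w, hxt, ht, hn, hfix⟩ := exists_toral hp cs hA hk F (nsys_of_locFin hp cs hk p) hx hx0 hxp
    (pow_orderOf_eq_one x)
  refine ⟨w, fun h hh => ?_⟩
  have h1 := (tau_iff hp cs hk hσ F hn ht).1 hfix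
  have h2 : ∀ y, cX hp t y ^ h.eval ((p ^ e : ℕ) : ℤ) = 1 := by
    intro y
    rw [← mc_aeval (isMC_cX hp ht) (θ := thL hp cs w g) h1, hh, LinearMap.zero_apply, (isMC_cX hp ht).zero]
  have h3 : t ^ (h.eval ((p ^ e : ℕ) : ℤ)).natAbs = 1 := by
    refine cX_inj hp (pow_mem ht _) (one_mem _) fun i => ?_
    rw [cX_pow hp ht, cX_one]
    have h4 := h2 (sr i)
    rcases Int.natAbs_eq (h.eval ((p ^ e : ℕ) : ℤ)) with h5 | h5
    · rw [h5, zpow_natCast] at h4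
      exact h4
    · rw [h5, zpow_neg, zpow_natCast, inv_eq_one] at h4
      exact h4
  have h6 : orderOf x = orderOf t := by
    rw [hxt]
    exact orderOf_injective (MulAut.conj z₁).toMonoidHom (MulAut.conj z₁).injective t
  rw [h6]
  exact Int.natCast_dvd.2 (orderOf_dvd_of_pow_eq_one h3)

theorem thL_eq (w : W) (g : (Fin l → ℤ) ≃+ (Fin l → ℤ)) :
    thL hp cs w g = rep cs hp.isCartan w * (g.toAddMonoidHom.toIntLinearMap : Module.End ℤ (Fin l → ℤ)) := by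
  apply LinearMap.ext
  intro x
  rw [thL_apply, theta_apply]
  rfl

end Cfsg.Agent.H169.TorPair

namespace Cfsg.Agent.H169.ExcD4

open Cfsg Cfsg.Lie Cfsg.Agent.H163.PG Cfsg.Agent.H169.ExcNum Cfsg.Agent.H169.ExcRows Cfsg.Agent.H169.TorPair
  Cfsg.Agent.ChevalleyStructure.CoxeterGeomTypes Cfsg.Agent.Nodes.RGDChev Cfsg.Agent.H720.TwFr
  Cfsg.Agent.H129.TorusUntw Cfsg.Agent.BpExc.Tow Cfsg.Agent.BpExc.TowChev Cfsg.Agent.H129.TorusMain
  Cfsg.Agent.H169.ExcTw Cfsg.Agent.H169.WTab Cfsg.Agent.H169.WTabD4 Cfsg.Agent.H130.WeylTab Cfsg.Agent.H130.PolyL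
  Cfsg.Agent.H130.WeylCk

open Polynomial (aeval)

universe u

theorem isFrame0 : IsFrame 4 (dec 5 2 4 76586917212)
    ((permE rho4).toAddMonoidHom.toIntLinearMap : Module.End ℤ (Fin 4 → ℤ)) := by
  rw [dec_D4]
  refine ⟨rfl, by decide, ?_⟩
  intro i
  fin_cases i <;> · funext j; fin_cases j <;> rfl

/-- the values of the annihilating polynomials at `q` -/
theorem exists_pol {K : Type u} [Field K] [Fintype K] {p f : ℕ} [Fact p.Prime] [CharP K p] (hf : 0 < f)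
    (hK : Fintype.card K = (p ^ f) ^ 3) (x : ↥(twistedD4 K (p ^ f))) (hx : (orderOf x).Coprime p) :
    ∃ a ∈ polsD4, (orderOf x : ℤ) ∣ (ofL a).eval ((p ^ f : ℕ) : ℤ) := by
  obtain ⟨hpk, hk⟩ := closure_data (K := K) (p := p) (n := f * 3) (by rw [hK, pow_mul])
  have hAk : Cfsg.Agent.BpExc.TorAll.HAlg p (AlgebraicClosure K) := Cfsg.Agent.H944.RootVals.hAlg_closure p K
  have cs := coxeterD4.toCoxeterSystem
  have : Finite coxeterD4.Group := finite_W hp4 cs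
  have hq : IsPrimePow (p ^ f) := (Fact.out : p.Prime).isPrimePow.pow hf.ne'
  have hle := tw4_le hq hK
  have hfin : orderOf x ≠ 0 := by
    have : Finite ↥(chevD4.group K) := inferInstance
    have : Finite ↥(twistedD4 K (p ^ f)) := inferInstance
    exact (orderOf_pos x).ne'
  have ho : orderOf (em4 (algebraMap K (AlgebraicClosure K)) hle x) = orderOf x :=
    orderOf_injective _ (em4_injective _ hle) x
  obtain ⟨w, hw⟩ := order_dvd_all (σ := sig4 (AlgebraicClosure K) p f) hp4 cs hAk hk (isFrob_sig4 p f)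
    (fr_sig4 hk p hp4 cs f) (em4_fix (algebraMap K (AlgebraicClosure K)) p hle hf rfl hK x) (by rw [ho]; exact hfin)
    (by rw [ho]; exact hx)
  rw [ho] at hw
  obtain ⟨c, hc, hfr⟩ := forall_coset cs hp4.isCartan lists_D4 closed_D4 mem_D4 isFrame0 w
  have h1 := List.all_eq_true.1 ann_D4 c hc
  obtain ⟨a, ha, h2⟩ := List.any_eq_true.1 h1
  refine ⟨a, ha, hw _ ?_⟩
  rw [thL_eq]
  exact hfr.ann h2

theorem not_dvd_one {s : ℕ} (hs : s.Prime) : ¬ (s : ℤ) ∣ 1 := by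
  intro h
  have h1 : s ∣ 1 := by exact_mod_cast h
  exact hs.one_lt.ne' (Nat.dvd_one.1 h1)

theorem not_dvd_two {s : ℕ} (h2 : 2 < s) : ¬ (s : ℤ) ∣ 2 := by
  intro h
  have h1 : s ∣ 2 := by exact_mod_cast h
  exact absurd (Nat.le_of_dvd (by norm_num) h1) (by omega)

/-- no annihilating polynomial is divisible by both primes -/
theorem pol_excl {Q : ℤ} {r s : ℕ} (hr : r.Prime) (hs : s.Prime) (r2 : 2 < r) (s2 : 2 < s)
    (h3 : (r : ℤ) ∣ Q ^ 2 + Q + 1) (h3' : ¬ (r : ℤ) ∣ Q - 1) (h6 : (s : ℤ) ∣ Q ^ 2 - Q + 1)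
    (h6' : ¬ (s : ℤ) ∣ Q + 1) {a : List ℤ} (ha : a ∈ polsD4) (hr' : (r : ℤ) ∣ (ofL a).eval Q)
    (hs' : (s : ℤ) ∣ (ofL a).eval Q) : False := by
  have hrp := Nat.prime_iff_prime_int.1 hr
  have hsp := Nat.prime_iff_prime_int.1 hs
  have r1 := not_dvd_one hr
  have s1 := not_dvd_one hs
  have r2' := not_dvd_two r2
  have s2' := not_dvd_two s2
  -- basic non-divisibilities
  have sQ : ¬ (s : ℤ) ∣ Q := fun h => s1 (by
    have h1 := dvd_sub h6 (Dvd.dvd.mul_right h (Q - 1))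
    have e : Q ^ 2 - Q + 1 - Q * (Q - 1) = 1 := by ring
    rwa [e] at h1)
  have rQ : ¬ (r : ℤ) ∣ Q := fun h => r1 (by
    have h1 := dvd_sub h3 (Dvd.dvd.mul_right h (Q + 1))
    have e : Q ^ 2 + Q + 1 - Q * (Q + 1) = 1 := by ring
    rwa [e] at h1)
  have sQ1 : ¬ (s : ℤ) ∣ Q - 1 := fun h => s1 (by
    have h1 := dvd_sub h6 (Dvd.dvd.mul_right h Q)
    have e : Q ^ 2 - Q + 1 - (Q - 1) * Q = 1 := by ring
    rwa [e] at h1)
  have rQ1 : ¬ (r : ℤ) ∣ Q + 1 := fun h => r1 (by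
    have h1 := dvd_sub h3 (Dvd.dvd.mul_right h Q)
    have e : Q ^ 2 + Q + 1 - (Q + 1) * Q = 1 := by ring
    rwa [e] at h1)
  simp only [polsD4, List.mem_cons, List.not_mem_nil, or_false] at ha
  rcases ha with rfl | rfl | rfl | rfl | rfl | rfl | rfl <;>
    simp only [ofL, Polynomial.eval_add, Polynomial.eval_mul, Polynomial.eval_C, Polynomial.eval_X,
      Polynomial.eval_zero] at hr' hs'
  · have h1 := dvd_sub hs' (Dvd.dvd.mul_right h6 (Q ^ 2 + Q - 1))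
    have e : (1 + Q * (0 + Q * (-1 + Q * (0 + Q * (1 + Q * 0))))) - (Q ^ 2 - Q + 1) * (Q ^ 2 + Q - 1) =
      2 * -(Q - 1) := by ring
    rw [e] at h1
    rcases hsp.dvd_or_dvd h1 with h | h
    · exact s2' h
    · exact sQ1 ((dvd_neg).1 h)
  · have h1 := dvd_sub hs' h6
    have e : (1 + Q * (1 + Q * (1 + Q * 0))) - (Q ^ 2 - Q + 1) = 2 * Q := by ring
    rw [e] at h1
    exact (hsp.dvd_or_dvd h1).elim s2' sQ
  · have h1 := dvd_sub h3 hr'
    have e : (Q ^ 2 + Q + 1) - (1 + Q * (-1 + Q * (1 + Q * 0))) = 2 * Q := by ring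
    rw [e] at h1
    exact (hrp.dvd_or_dvd h1).elim r2' rQ
  · have h1 := dvd_sub (Dvd.dvd.mul_right h6 ((Q + 1) ^ 2)) hs'
    have e : (Q ^ 2 - Q + 1) * (Q + 1) ^ 2 - (-1 + Q * (-1 + Q * (0 + Q * (1 + Q * (1 + Q * 0))))) =
      2 * (Q + 1) := by ring
    rw [e] at h1
    exact (hsp.dvd_or_dvd h1).elim s2' h6'
  · have h1 := dvd_sub hr' (Dvd.dvd.mul_right h3 ((Q - 1) ^ 2))
    have e : (-1 + Q * (1 + Q * (0 + Q * (-1 + Q * (1 + Q * 0))))) - (Q ^ 2 + Q + 1) * (Q - 1) ^ 2 =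
      2 * (Q - 1) := by ring
    rw [e] at h1
    exact (hrp.dvd_or_dvd h1).elim r2' h3'
  · have h1 := dvd_sub (Dvd.dvd.mul_right h6 ((Q + 1) * (Q - 1))) hs'
    have e : (Q ^ 2 - Q + 1) * ((Q + 1) * (Q - 1)) - (1 + Q * (-1 + Q * (0 + Q * (-1 + Q * (1 + Q * 0))))) =
      2 * (Q - 1) := by ring
    rw [e] at h1
    exact (hsp.dvd_or_dvd h1).elim s2' sQ1
  · have h1 := dvd_sub hr' (Dvd.dvd.mul_right h3 ((Q - 1) * (Q + 1)))
    have e : (1 + Q * (1 + Q * (0 + Q * (1 + Q * (1 + Q * 0))))) - (Q ^ 2 + Q + 1) * ((Q - 1) * (Q + 1)) =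
      2 * (Q + 1) := by ring
    rw [e] at h1
    exact (hrp.dvd_or_dvd h1).elim r2' rQ1

theorem int_dvd_iff {r q : ℕ} (hq : 0 < q) (j : ℕ) : (r : ℤ) ∣ (q : ℤ) ^ j - 1 ↔ r ∣ q ^ j - 1 := by
  rw [← Int.natCast_dvd_natCast, Nat.cast_sub (Nat.one_le_pow _ _ hq), Nat.cast_pow, Nat.cast_one]

/-- the values at an element of order `3` -/
theorem val_three {r q : ℕ} (hr : r.Prime) (hq : 0 < q) (h : ∀ j, r ∣ q ^ j - 1 ↔ 3 ∣ j) :
    (r : ℤ) ∣ (q : ℤ) ^ 2 + q + 1 ∧ ¬ (r : ℤ) ∣ (q : ℤ) - 1 := by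
  have h1 : ¬ (r : ℤ) ∣ (q : ℤ) - 1 := by
    intro h0
    have h2 := (int_dvd_iff hq 1).1 (by rwa [pow_one])
    have h3 := (h 1).1 h2
    omega
  refine ⟨?_, h1⟩
  have h2 := (int_dvd_iff hq 3).2 ((h 3).2 dvd_rfl)
  have e : (q : ℤ) ^ 3 - 1 = ((q : ℤ) - 1) * ((q : ℤ) ^ 2 + q + 1) := by ring
  rw [e] at h2
  exact ((Nat.prime_iff_prime_int.1 hr).dvd_or_dvd h2).resolve_left h1

/-- the values at an element of order `6` -/
theorem val_six {s q : ℕ} (hs : s.Prime) (hq : 0 < q) (h : ∀ j, s ∣ q ^ j - 1 ↔ 6 ∣ j) :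
    (s : ℤ) ∣ (q : ℤ) ^ 2 - q + 1 ∧ ¬ (s : ℤ) ∣ (q : ℤ) + 1 := by
  have hsp := Nat.prime_iff_prime_int.1 hs
  have h1 : ¬ (s : ℤ) ∣ (q : ℤ) + 1 := by
    intro h0
    have h2 := (int_dvd_iff hq 2).1 (by
      have e : (q : ℤ) ^ 2 - 1 = ((q : ℤ) + 1) * (q - 1) := by ring
      rw [e]
      exact Dvd.dvd.mul_right h0 _)
    have h3 := (h 2).1 h2
    omega
  have h4 : ¬ (s : ℤ) ∣ (q : ℤ) ^ 3 - 1 := by
    intro h0
    have h3 := (h 3).1 ((int_dvd_iff hq 3).1 h0)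
    omega
  refine ⟨?_, h1⟩
  have h2 := (int_dvd_iff hq 6).2 ((h 6).2 dvd_rfl)
  have e : (q : ℤ) ^ 6 - 1 = ((q : ℤ) ^ 3 - 1) * (((q : ℤ) + 1) * ((q : ℤ) ^ 2 - q + 1)) := by ring
  rw [e] at h2
  exact ((hsp.dvd_or_dvd ((hsp.dvd_or_dvd h2).resolve_left h4))).resolve_left h1

theorem four_no_pair {K : Type u} [Field K] [Fintype K] {p f : ℕ} [Fact p.Prime] [CharP K p] (hf : 0 < f)
    (hK : Fintype.card K = (p ^ f) ^ 3) {r s m m' : ℕ} (hr : r.Prime) (hs : s.Prime)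
    (hrq : ¬ r ∣ p ^ f) (hsq : ¬ s ∣ p ^ f) (hrl : 5 < r) (hsl : 5 < s)
    (hm : orderOf ((p ^ f : ℕ) : ZMod r) = m) (hm' : orderOf ((p ^ f : ℕ) : ZMod s) = m') (hne : m ≠ m')
    (hl : 4 < m.totient + m'.totient) : ¬ Adj ↥(twistedD4 K (p ^ f)) r s := by
  rintro ⟨x, hx⟩
  obtain ⟨hpk, hk⟩ := closure_data (K := K) (p := p) (n := f * 3) (by rw [hK, pow_mul])
  have hAk : Cfsg.Agent.BpExc.TorAll.HAlg p (AlgebraicClosure K) := Cfsg.Agent.H944.RootVals.hAlg_closure p K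
  have cs := coxeterD4.toCoxeterSystem
  have : Finite coxeterD4.Group := finite_W hp4 cs
  have hq : IsPrimePow (p ^ f) := (Fact.out : p.Prime).isPrimePow.pow hf.ne'
  have hle := tw4_le hq hK
  have hrp : r ≠ p := fun h => hrq (by rw [h]; exact dvd_pow_self p hf.ne')
  have hsp : s ≠ p := fun h => hsq (by rw [h]; exact dvd_pow_self p hf.ne')
  have h1 := no_pair (σ := sig4 (AlgebraicClosure K) p f) hp4 cs hAk hk (isFrob_sig4 p f) (fr_sig4 hk p hp4 cs f)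
    hr hs hrp hsp (by omega) (by omega) (by rw [hm, hm']; exact hne) (by rw [hm, hm']; exact hl)
    (em4_fix (algebraMap K (AlgebraicClosure K)) p hle hf rfl hK x)
  rw [orderOf_injective _ (em4_injective (algebraMap K (AlgebraicClosure K)) hle)] at h1
  exact h1 hx

theorem four_no_36 {K : Type u} [Field K] [Fintype K] {p f : ℕ} [Fact p.Prime] [CharP K p] (hf : 0 < f)
    (hK : Fintype.card K = (p ^ f) ^ 3) {r s : ℕ} (hr : r.Prime) (hs : s.Prime) (r2 : 2 < r) (s2 : 2 < s)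
    (hrq : ¬ r ∣ p ^ f) (hsq : ¬ s ∣ p ^ f) (h3 : ∀ j, r ∣ (p ^ f) ^ j - 1 ↔ 3 ∣ j)
    (h6 : ∀ j, s ∣ (p ^ f) ^ j - 1 ↔ 6 ∣ j) : ¬ Adj ↥(twistedD4 K (p ^ f)) r s := by
  rintro ⟨x, hx⟩
  have hp : p.Prime := Fact.out
  have hq : 0 < p ^ f := pow_pos hp.pos f
  have hrp : r ≠ p := fun h => hrq (by rw [h]; exact dvd_pow_self p hf.ne')
  have hsp : s ≠ p := fun h => hsq (by rw [h]; exact dvd_pow_self p hf.ne')
  obtain ⟨a, ha, hd⟩ := exists_pol hf hK x (by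
    rw [hx]
    exact Nat.Coprime.mul_left ((Nat.coprime_primes hr hp).2 hrp) ((Nat.coprime_primes hs hp).2 hsp))
  rw [hx, Nat.cast_mul] at hd
  obtain ⟨a1, a2⟩ := val_three hr hq h3
  obtain ⟨b1, b2⟩ := val_six hs hq h6
  exact pol_excl hr hs r2 s2 a1 a2 b1 b2 ha ((Dvd.intro _ rfl).trans hd) ((Dvd.intro_left _ rfl).trans hd)

/-- `|³D₄(q)|` is divisible by ... -/
theorem twD4 {K : Type u} [Field K] [Fintype K] {q : ℕ} (hq : IsPrimePow q) (hK : Fintype.card K = q ^ 3)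
    (h2 : q ≠ 2) : Has3Out ↥(twistedD4 K q) := by
  obtain ⟨p, f, hp, hf, rfl⟩ := (isPrimePow_nat_iff q).1 hq
  have hpf : Fact p.Prime := ⟨hp⟩
  have hch : CharP K p := by
    obtain ⟨p', hp'⟩ := CharP.exists K
    obtain ⟨n, hpp, hn⟩ := FiniteField.card K p'
    rw [hK, ← pow_mul] at hn
    have h1 : p = p' := by
      have h2 : p' ∣ p ^ (f * 3) := by rw [hn]; exact dvd_pow_self p' n.pos.ne'
      exact ((Nat.prime_dvd_prime_iff_eq hpp hp).1 (hpp.dvd_of_dvd_pow h2)).symm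
    rw [h1]; exact hp'
  have h6 : ¬ (p = 2 ∧ f * 6 = 6) := by
    rintro ⟨rfl, h⟩
    obtain rfl : f = 1 := by omega
    exact h2 rfl
  obtain ⟨r, hr, -, hr1, hr2, hr3, hr4⟩ := ppd (p := p) (f := f) (m := 12) hp (by omega) (by omega) (by omega)
  obtain ⟨s, hs, -, hs1, hs2, hs3, hs4⟩ := ppd (p := p) (f := f) (m := 6) hp (by omega) (by omega) h6
  obtain ⟨t, ht, ht1, ht0, ht2, ht3, ht4⟩ := ppd_three (p := p) (f := f) hp hf
  have hcard := Cfsg.Agent.S1067.result (K := K) hq hK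
  have hout := Cfsg.Agent.S2129.result (K := K) p f (by rw [hK, ← pow_mul, mul_comm]) hf
  refine mk_has3Out (f := f) hr hs ht hf (by omega) (by omega) (by omega) (by omega) (by omega) (by omega)
    (by rw [hout]; exact Nat.mul_dvd_mul_right (by norm_num) f) ?_ ?_ ?_ ?_ ?_ ?_
    (four_no_pair hf hK hr hs hr2 hs2 (by omega) (by omega) hr3 hs3 (by decide) (by decide))
    (fun h => four_no_36 hf hK ht hs (by omega) (by omega) ht2 hs2 ht4 hs4 h.symm)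
    (four_no_pair hf hK hr ht hr2 ht2 (by omega) (by omega) hr3 ht3 (by decide) (by decide))
  · rintro rfl; rw [hr3] at hs3; omega
  · rintro rfl; rw [hs3] at ht3; omega
  · rintro rfl; rw [hr3] at ht3; omega
  · rw [hcard]
    refine Dvd.dvd.mul_left ?_ _
    have h4 : r ∣ ((p ^ f) ^ 8 + (p ^ f) ^ 4 + 1) * ((p ^ f) ^ 4 - 1) := by
      have h5 : ((p ^ f) ^ 8 + (p ^ f) ^ 4 + 1) * ((p ^ f) ^ 4 - 1) = (p ^ f) ^ 12 - 1 := by
        obtain ⟨c, hc⟩ : ∃ c, (p ^ f) ^ 4 = c + 1 :=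
          ⟨(p ^ f) ^ 4 - 1, by have := Nat.one_le_pow 4 (p ^ f) (pow_pos hp.pos f); omega⟩
        have e1 : (p ^ f) ^ 8 = (c + 1) ^ 2 := by rw [← hc]; ring
        have e2 : (p ^ f) ^ 12 = (c + 1) ^ 3 := by rw [← hc]; ring
        rw [e1, e2, hc, Nat.add_sub_cancel]
        refine (Nat.sub_eq_of_eq_add ?_).symm
        ring
      rw [h5]
      exact (hr4 12).2 dvd_rfl
    refine (hr.dvd_mul.1 h4).resolve_right fun h => ?_
    have := (hr4 4).1 h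
    omega
  · rw [hcard]
    exact Dvd.dvd.mul_right (Dvd.dvd.mul_left ((hs4 6).2 dvd_rfl) _) _
  · rw [hcard]
    exact Dvd.dvd.mul_right (Dvd.dvd.mul_left ((ht4 6).2 (by norm_num)) _) _

theorem twD4_goal.{a, b} {K : Type a} [Field K] [Fintype K] {q : ℕ} (hq : IsPrimePow q)
    (hK : Fintype.card K = q ^ 3) : Goal.{a, b} ↥(twistedD4 K q) := by
  by_cases h2 : q = 2
  · subst h2
    have hcard := Cfsg.Agent.S1067.result (K := K) hq hK
    have hpf : Fact (Nat.Prime 2) := ⟨Nat.prime_two⟩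
    have hch : CharP K 2 := by
      obtain ⟨p', hp'⟩ := CharP.exists K
      obtain ⟨n, hpp, hn⟩ := FiniteField.card K p'
      rw [hK] at hn
      have h1 : 2 = p' := by
        have h2 : p' ∣ 2 ^ 3 := by rw [hn]; exact dvd_pow_self p' n.pos.ne'
        exact ((Nat.prime_dvd_prime_iff_eq hpp Nat.prime_two).1 (hpp.dvd_of_dvd_pow h2)).symm
      rw [h1]; exact hp'
    have hout := Cfsg.Agent.S2129.result (K := K) 2 1 (by rw [hK]) le_rfl
    rw [pow_one] at hout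
    have hfin : Finite ↥(twistedD4 K 2) := by
      have : Finite (GL chevD4.Idx K) := inferInstance
      infer_instance
    refine goal_of_primes {2, 3, 7, 13} (by decide) ?_ ?_
    · intro p hp h
      rw [hcard] at h
      have e : 2 ^ 12 * (2 ^ 2 - 1) * (2 ^ 6 - 1) * (2 ^ 8 + 2 ^ 4 + 1) = 2 ^ 12 * 3 ^ 4 * 7 ^ 2 * 13 := by norm_num
      rw [e] at h
      simp only [Finset.mem_insert, Finset.mem_singleton]
      rcases hp.dvd_mul.1 h with h | h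
      · rcases hp.dvd_mul.1 h with h | h
        · rcases hp.dvd_mul.1 h with h | h
          · exact Or.inl ((Nat.prime_dvd_prime_iff_eq hp Nat.prime_two).1 (hp.dvd_of_dvd_pow h))
          · exact Or.inr (Or.inl ((Nat.prime_dvd_prime_iff_eq hp Nat.prime_three).1 (hp.dvd_of_dvd_pow h)))
        · exact Or.inr (Or.inr (Or.inl ((Nat.prime_dvd_prime_iff_eq hp (by norm_num)).1 (hp.dvd_of_dvd_pow h))))
      · exact Or.inr (Or.inr (Or.inr ((Nat.prime_dvd_prime_iff_eq hp (by norm_num)).1 h)))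
    · intro p hp h
      rw [hout] at h
      simp only [Finset.mem_insert, Finset.mem_singleton]
      exact Or.inr (Or.inl ((Nat.prime_dvd_prime_iff_eq hp Nat.prime_three).1 h))
  · exact goal_of_has3Out (twD4 hq hK h2)

end Cfsg.Agent.H169.ExcD4
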