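import Mathlib
import Cfsg.Agent.Lib.Zsigmondy
import Cfsg.Agent.H163.PG.Base

/-!
# Primitive prime divisors and `Has3Out`
-/

set_option autoImplicit false

namespace Cfsg.Agent.H169.ExcNum

open Cfsg.Agent.H163.PG

/-- primitive prime divisors -/
theorem ppd {p f m : ℕ} (hp : p.Prime) (hm : 0 < m) (h3 : 3 ≤ f * m) (h6 : ¬ (p = 2 ∧ f * m = 6)) :
    ∃ r : ℕ, r.Prime ∧ f * m ∣ r - 1 ∧ f * m < r ∧ ¬ r ∣ p ^ f ∧ orderOf ((p ^ f : ℕ) : ZMod r) = m ∧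
      ∀ j, r ∣ (p ^ f) ^ j - 1 ↔ m ∣ j := by
  have hf : 0 < f := Nat.pos_of_ne_zero (by rintro rfl; omega)
  obtain ⟨r, hr, h1, h2, h4⟩ := Cfsg.Agent.Lib.Zsigmondy.exists_primitive hp.two_le (n := f * m) (by omega) (by omega) h6
  have h5 : ∀ j, r ∣ (p ^ f) ^ j - 1 ↔ m ∣ j := by
    intro j
    rw [← pow_mul, h1]
    exact Nat.mul_dvd_mul_iff_left hf
  have h7 : f * m ≤ r - 1 := Nat.le_of_dvd (by have := hr.two_le; omega) h2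
  refine ⟨r, hr, h2, by have := hr.two_le; omega, fun h => h4 (hr.dvd_of_dvd_pow h), ?_, h5⟩
  have hq : 1 ≤ p ^ f := Nat.one_le_pow _ _ hp.pos
  apply Nat.dvd_antisymm
  · rw [← Cfsg.Agent.Lib.Zsigmondy.dvd_pow_sub_one_iff hq]
    exact (h5 m).2 dvd_rfl
  · rw [← h5, Cfsg.Agent.Lib.Zsigmondy.dvd_pow_sub_one_iff hq]

theorem not_dvd_six_mul {r f : ℕ} (hr : r.Prime) (h3 : 3 < r) (hf : 0 < f) (h : f < r) : ¬ r ∣ 6 * f := by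
  intro hd
  rcases hr.dvd_mul.1 hd with h1 | h1
  · have h2 : r ∣ 2 * 3 := h1
    rcases hr.dvd_mul.1 h2 with h4 | h4
    · have := Nat.le_of_dvd (by norm_num) h4
      omega
    · have := Nat.le_of_dvd (by norm_num) h4
      omega
  · exact absurd (Nat.le_of_dvd hf h1) (by omega)

theorem mk_has3Out {S : Type*} [Group S] {r₁ r₂ r₃ f : ℕ} (h1 : r₁.Prime) (h2 : r₂.Prime) (h3 : r₃.Prime)
    (hf : 0 < f) (f1 : f < r₁) (f2 : f < r₂) (f3 : f < r₃) (g1 : 3 < r₁) (g2 : 3 < r₂) (g3 : 3 < r₃)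
    (hOut : Nat.card (Cfsg.Out S) ∣ 6 * f) (n12 : r₁ ≠ r₂) (n23 : r₂ ≠ r₃) (n13 : r₁ ≠ r₃)
    (d1 : r₁ ∣ Nat.card S) (d2 : r₂ ∣ Nat.card S) (d3 : r₃ ∣ Nat.card S) (a12 : ¬ Adj S r₁ r₂)
    (a23 : ¬ Adj S r₂ r₃) (a13 : ¬ Adj S r₁ r₃) : Has3Out S :=
  ⟨r₁, r₂, r₃, h1, h2, h3, n12, n23, n13, d1, d2, d3, a12, a23, a13,
    fun h => not_dvd_six_mul h1 g1 hf f1 (h.trans hOut), fun h => not_dvd_six_mul h2 g2 hf f2 (h.trans hOut),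
    fun h => not_dvd_six_mul h3 g3 hf f3 (h.trans hOut)⟩

/-- divisibility of a factor -/
theorem dvd_of_mul {r c N T : ℕ} (hr : r.Prime) (hc : ¬ r ∣ c) (h : c * N = T) (hT : r ∣ T) : r ∣ N := by
  rw [← h] at hT
  exact (hr.dvd_mul.1 hT).resolve_left hc

theorem not_dvd_gcd {r a b : ℕ} (ha : 0 < a) (har : a < r) : ¬ r ∣ Nat.gcd a b := fun h =>
  absurd (Nat.le_of_dvd ha (h.trans (Nat.gcd_dvd_left a b))) (by omega)

end Cfsg.Agent.H169.ExcNum
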