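import Cfsg.Agent.H169.TorPair
import Cfsg.Agent.H169.ExcNum
import Cfsg.Agent.S1062
import Cfsg.Agent.S1063
import Cfsg.Agent.S1064
import Cfsg.Agent.S1065
import Cfsg.Agent.S2122
import Cfsg.Agent.S2123
import Cfsg.Agent.S2124
import Cfsg.Agent.S2125

/-!
# `Has3Out` for the groups of type `F₄`, `E₆`, `E₇`, `E₈`
-/

set_option autoImplicit false

namespace Cfsg.Agent.H169.ExcRows

open Cfsg Cfsg.Lie Cfsg.Agent.H163.PG Cfsg.Agent.H169.ExcNum Cfsg.Agent.H169.TorPair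
  Cfsg.Agent.ChevalleyStructure.CoxeterGeomTypes Cfsg.Agent.Nodes.RGDChev

universe u

theorem exists_pf (F : Type u) [Field F] [Fintype F] :
    ∃ (p f : ℕ) (_ : Fact p.Prime) (_ : CharP F p), 0 < f ∧ Fintype.card F = p ^ f := by
  obtain ⟨p, hp⟩ := CharP.exists F
  obtain ⟨n, hpp, hn⟩ := FiniteField.card F p
  exact ⟨p, n, ⟨hpp⟩, hp, n.pos, hn⟩

theorem no_adj {D : ChevalleyDatum} {l : ℕ} {M : CoxeterMatrix (Fin l)} (hp : IsType D l M)
    {F : Type u} [Field F] [Fintype F] {q : ℕ} (hq : Fintype.card F = q) {r s m m' : ℕ} (hr : r.Prime) (hs : s.Prime)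
    (hrq : ¬ r ∣ q) (hsq : ¬ s ∣ q) (hrl : l + 1 < r) (hsl : l + 1 < s) (hm : orderOf ((q : ℕ) : ZMod r) = m)
    (hm' : orderOf ((q : ℕ) : ZMod s) = m') (hne : m ≠ m') (hl : l < m.totient + m'.totient) :
    ¬ Adj ↥(D.group F) r s := by
  rintro ⟨x, hx⟩
  exact untw_no_pair hp hq hr hs hrq hsq hrl hsl (by rw [hm, hm']; exact hne) (by rw [hm, hm']; exact hl) x hx

theorem E8 (F : Type u) [Field F] [Fintype F] : Has3Out ↥(chevE8.group F) := by
  obtain ⟨p, f, hpp, hpc, hf, hF⟩ := exists_pf F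
  have hp : IsType chevE8 8 CoxeterMatrix.E₈ := by simp [IsType, typeList]
  obtain ⟨r, hr, -, hr1, hr2, hr3, hr4⟩ := ppd (p := p) (f := f) (m := 15) Fact.out (by omega) (by omega) (by omega)
  obtain ⟨s, hs, -, hs1, hs2, hs3, hs4⟩ := ppd (p := p) (f := f) (m := 20) Fact.out (by omega) (by omega) (by omega)
  obtain ⟨t, ht, -, ht1, ht2, ht3, ht4⟩ := ppd (p := p) (f := f) (m := 24) Fact.out (by omega) (by omega) (by omega)
  have hcard := Cfsg.Agent.S1065.result (F := F) hF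
  have hout := Cfsg.Agent.S2125.result (F := F) p f hF
  refine mk_has3Out (f := f) hr hs ht hf (by omega) (by omega) (by omega) (by omega) (by omega) (by omega)
    (by rw [hout]; exact Dvd.intro_left _ rfl) ?_ ?_ ?_ ?_ ?_ ?_
    (no_adj hp hF hr hs hr2 hs2 (by omega) (by omega) hr3 hs3 (by decide) (by decide))
    (no_adj hp hF hs ht hs2 ht2 (by omega) (by omega) hs3 ht3 (by decide) (by decide))
    (no_adj hp hF hr ht hr2 ht2 (by omega) (by omega) hr3 ht3 (by decide) (by decide))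
  · rintro rfl; rw [hr3] at hs3; omega
  · rintro rfl; rw [hs3] at ht3; omega
  · rintro rfl; rw [hr3] at ht3; omega
  · rw [hcard]
    exact Dvd.dvd.mul_left ((hr4 30).2 (by norm_num)) _
  · rw [hcard]
    exact Dvd.dvd.mul_right (Dvd.dvd.mul_right (Dvd.dvd.mul_left ((hs4 20).2 (by norm_num)) _) _) _
  · rw [hcard]
    exact Dvd.dvd.mul_right (Dvd.dvd.mul_left ((ht4 24).2 (by norm_num)) _) _

theorem E7 (F : Type u) [Field F] [Fintype F] : Has3Out ↥(chevE7.group F) := by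
  obtain ⟨p, f, hpp, hpc, hf, hF⟩ := exists_pf F
  have hp : IsType chevE7 7 CoxeterMatrix.E₇ := by simp [IsType, typeList]
  obtain ⟨r, hr, -, hr1, hr2, hr3, hr4⟩ := ppd (p := p) (f := f) (m := 18) Fact.out (by omega) (by omega) (by omega)
  obtain ⟨s, hs, -, hs1, hs2, hs3, hs4⟩ := ppd (p := p) (f := f) (m := 14) Fact.out (by omega) (by omega) (by omega)
  obtain ⟨t, ht, -, ht1, ht2, ht3, ht4⟩ := ppd (p := p) (f := f) (m := 9) Fact.out (by omega) (by omega) (by omega)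
  have hcard := Cfsg.Agent.S1064.result (F := F) hF
  have hout := Cfsg.Agent.S2124.result (F := F) p f hF
  refine mk_has3Out (f := f) hr hs ht hf (by omega) (by omega) (by omega) (by omega) (by omega) (by omega)
    (by rw [hout]; exact Nat.mul_dvd_mul_right ((Nat.gcd_dvd_left _ _).trans (by norm_num)) f) ?_ ?_ ?_ ?_ ?_ ?_
    (no_adj hp hF hr hs hr2 hs2 (by omega) (by omega) hr3 hs3 (by decide) (by decide))
    (no_adj hp hF hs ht hs2 ht2 (by omega) (by omega) hs3 ht3 (by decide) (by decide))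
    (no_adj hp hF hr ht hr2 ht2 (by omega) (by omega) hr3 ht3 (by decide) (by decide))
  · rintro rfl; rw [hr3] at hs3; omega
  · rintro rfl; rw [hs3] at ht3; omega
  · rintro rfl; rw [hr3] at ht3; omega
  · exact dvd_of_mul hr (not_dvd_gcd (by norm_num) (by omega)) hcard (Dvd.dvd.mul_left ((hr4 18).2 (by norm_num)) _)
  · exact dvd_of_mul hs (not_dvd_gcd (by norm_num) (by omega)) hcard
      (Dvd.dvd.mul_right (Dvd.dvd.mul_left ((hs4 14).2 (by norm_num)) _) _)
  · exact dvd_of_mul ht (not_dvd_gcd (by norm_num) (by omega)) hcard (Dvd.dvd.mul_left ((ht4 18).2 (by norm_num)) _)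

theorem E6 (F : Type u) [Field F] [Fintype F] : Has3Out ↥(chevE6.group F) := by
  obtain ⟨p, f, hpp, hpc, hf, hF⟩ := exists_pf F
  have hp : IsType chevE6 6 CoxeterMatrix.E₆ := by simp [IsType, typeList]
  obtain ⟨r, hr, -, hr1, hr2, hr3, hr4⟩ := ppd (p := p) (f := f) (m := 9) Fact.out (by omega) (by omega) (by omega)
  obtain ⟨s, hs, -, hs1, hs2, hs3, hs4⟩ := ppd (p := p) (f := f) (m := 12) Fact.out (by omega) (by omega) (by omega)
  obtain ⟨t, ht, -, ht1, ht2, ht3, ht4⟩ := ppd (p := p) (f := f) (m := 8) Fact.out (by omega) (by omega) (by omega)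
  have hcard := Cfsg.Agent.S1063.result (F := F) hF
  have hout := Cfsg.Agent.S2123.result (F := F) p f hF
  refine mk_has3Out (f := f) hr hs ht hf (by omega) (by omega) (by omega) (by omega) (by omega) (by omega)
    (by rw [hout]; exact Nat.mul_dvd_mul_right (Nat.mul_dvd_mul_left 2 (Nat.gcd_dvd_left 3 _)) f) ?_ ?_ ?_ ?_ ?_ ?_
    (no_adj hp hF hr hs hr2 hs2 (by omega) (by omega) hr3 hs3 (by decide) (by decide))
    (no_adj hp hF hs ht hs2 ht2 (by omega) (by omega) hs3 ht3 (by decide) (by decide))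
    (no_adj hp hF hr ht hr2 ht2 (by omega) (by omega) hr3 ht3 (by decide) (by decide))
  · rintro rfl; rw [hr3] at hs3; omega
  · rintro rfl; rw [hs3] at ht3; omega
  · rintro rfl; rw [hr3] at ht3; omega
  · exact dvd_of_mul hr (not_dvd_gcd (by norm_num) (by omega)) hcard
      (Dvd.dvd.mul_right (Dvd.dvd.mul_left ((hr4 9).2 (by norm_num)) _) _)
  · exact dvd_of_mul hs (not_dvd_gcd (by norm_num) (by omega)) hcard (Dvd.dvd.mul_left ((hs4 12).2 (by norm_num)) _)
  · exact dvd_of_mul ht (not_dvd_gcd (by norm_num) (by omega)) hcard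
      (Dvd.dvd.mul_right (Dvd.dvd.mul_right (Dvd.dvd.mul_left ((ht4 8).2 (by norm_num)) _) _) _)

/-- a prime of order `3` modulo which -/
theorem ppd_three {p f : ℕ} (hp : p.Prime) (hf : 0 < f) :
    ∃ r : ℕ, r.Prime ∧ 6 < r ∧ f < r ∧ ¬ r ∣ p ^ f ∧ orderOf ((p ^ f : ℕ) : ZMod r) = 3 ∧
      ∀ j, r ∣ (p ^ f) ^ j - 1 ↔ 3 ∣ j := by
  by_cases h6 : p = 2 ∧ f * 3 = 6
  · obtain ⟨rfl, h6⟩ := h6
    obtain rfl : f = 2 := by omega
    obtain ⟨r, hr, hr0, hr1, hr2, hr3, hr4⟩ := ppd (p := 2) (f := 1) (m := 3) Nat.prime_two (by omega) (by omega)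
      (by omega)
    rw [pow_one] at hr2 hr3 hr4
    have h7 : r ∣ 7 := (hr4 3).2 dvd_rfl
    have hr7 : r = 7 := (Nat.prime_dvd_prime_iff_eq hr (by norm_num)).1 h7
    subst hr7
    have h5 : ∀ j, 7 ∣ (2 ^ 2) ^ j - 1 ↔ 3 ∣ j := by
      intro j
      rw [← pow_mul, hr4]
      exact ⟨fun h => (Nat.Coprime.dvd_mul_left (by norm_num)).1 h, fun h => h.mul_left 2⟩
    refine ⟨7, hr, by norm_num, by norm_num, by norm_num, ?_, h5⟩
    apply Nat.dvd_antisymm
    · rw [← Cfsg.Agent.Lib.Zsigmondy.dvd_pow_sub_one_iff (by norm_num)]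
      exact (h5 3).2 dvd_rfl
    · rw [← h5, Cfsg.Agent.Lib.Zsigmondy.dvd_pow_sub_one_iff (by norm_num)]
  · obtain ⟨r, hr, hr0, hr1, hr2, hr3, hr4⟩ := ppd (p := p) (f := f) (m := 3) hp (by omega) (by omega) h6
    refine ⟨r, hr, ?_, by omega, hr2, hr3, hr4⟩
    have h1 : 3 ∣ r - 1 := (Dvd.intro_left f rfl).trans hr0
    by_contra hcon
    have h2 : r = 4 := by omega
    rw [h2] at hr
    exact absurd hr (by norm_num)

theorem F4 (F : Type u) [Field F] [Fintype F] : Has3Out ↥(chevF4.group F) := by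
  obtain ⟨p, f, hpp, hpc, hf, hF⟩ := exists_pf F
  have hp : IsType chevF4 4 CoxeterMatrix.F₄ := by simp [IsType, typeList]
  obtain ⟨r, hr, -, hr1, hr2, hr3, hr4⟩ := ppd (p := p) (f := f) (m := 12) Fact.out (by omega) (by omega) (by omega)
  obtain ⟨s, hs, -, hs1, hs2, hs3, hs4⟩ := ppd (p := p) (f := f) (m := 8) Fact.out (by omega) (by omega) (by omega)
  obtain ⟨t, ht, ht1, ht0, ht2, ht3, ht4⟩ := ppd_three (p := p) (f := f) Fact.out hf
  have hcard := Cfsg.Agent.S1062.result (F := F) hF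
  have hout := Cfsg.Agent.S2122.result (F := F) p f hF
  refine mk_has3Out (f := f) hr hs ht hf (by omega) (by omega) (by omega) (by omega) (by omega) (by omega)
    (by rw [hout]; exact Nat.mul_dvd_mul_right ((Nat.gcd_dvd_left _ _).trans (by norm_num)) f) ?_ ?_ ?_ ?_ ?_ ?_
    (no_adj hp hF hr hs hr2 hs2 (by omega) (by omega) hr3 hs3 (by decide) (by decide))
    (no_adj hp hF hs ht hs2 ht2 (by omega) (by omega) hs3 ht3 (by decide) (by decide))
    (no_adj hp hF hr ht hr2 ht2 (by omega) (by omega) hr3 ht3 (by decide) (by decide))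
  · rintro rfl; rw [hr3] at hs3; omega
  · rintro rfl; rw [hs3] at ht3; omega
  · rintro rfl; rw [hr3] at ht3; omega
  · rw [hcard]
    exact Dvd.dvd.mul_left ((hr4 12).2 (by norm_num)) _
  · rw [hcard]
    exact Dvd.dvd.mul_right (Dvd.dvd.mul_left ((hs4 8).2 (by norm_num)) _) _
  · rw [hcard]
    exact Dvd.dvd.mul_left ((ht4 12).2 (by norm_num)) _

end Cfsg.Agent.H169.ExcRows
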