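import Cfsg.Agent.H169.ExcRows
import Cfsg.Agent.H720.TwFr
import Cfsg.Agent.S1066
import Cfsg.Agent.S1067
import Cfsg.Agent.S2129
import Cfsg.Agent.S2130

/-!
# `Has3Out` for the groups `²E₆(q)`
-/

set_option autoImplicit false

namespace Cfsg.Agent.H169.ExcTw

open Cfsg Cfsg.Lie Cfsg.Agent.H163.PG Cfsg.Agent.H169.ExcNum Cfsg.Agent.H169.ExcRows Cfsg.Agent.H169.TorPair
  Cfsg.Agent.ChevalleyStructure.CoxeterGeomTypes Cfsg.Agent.Nodes.RGDChev Cfsg.Agent.H720.TwFr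
  Cfsg.Agent.H129.TorusUntw Cfsg.Agent.BpExc.Tow Cfsg.Agent.BpExc.TowChev Cfsg.Agent.H129.TorusMain

universe u

theorem closure_data {K : Type u} [Field K] [Fintype K] {p n : ℕ} [Fact p.Prime] [CharP K p]
    (hK : Fintype.card K = p ^ n) : CharP (AlgebraicClosure K) p ∧ LocFin (AlgebraicClosure K) := by
  have h1 : CharP (AlgebraicClosure K) p :=
    charP_of_injective_algebraMap (algebraMap K (AlgebraicClosure K)).injective p
  obtain ⟨p', e, hpF, hpc, hpk, he, hpe, hk⟩ := exists_closure hK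
  exact ⟨h1, hk⟩

theorem six_no_pair {K : Type u} [Field K] [Fintype K] {p f : ℕ} [Fact p.Prime] [CharP K p] (hf : 0 < f)
    (hK : Fintype.card K = (p ^ f) ^ 2) {r s m m' : ℕ} (hr : r.Prime) (hs : s.Prime)
    (hrq : ¬ r ∣ p ^ f) (hsq : ¬ s ∣ p ^ f) (hrl : 7 < r) (hsl : 7 < s)
    (hm : orderOf ((p ^ f : ℕ) : ZMod r) = m) (hm' : orderOf ((p ^ f : ℕ) : ZMod s) = m') (hne : m ≠ m')
    (hl : 6 < m.totient + m'.totient) : ¬ Adj ↥(twistedE6 K (p ^ f)) r s := by
  rintro ⟨x, hx⟩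
  obtain ⟨hpk, hk⟩ := closure_data (K := K) (p := p) (n := f * 2) (by rw [hK, pow_mul])
  have hAk : Cfsg.Agent.BpExc.TorAll.HAlg p (AlgebraicClosure K) := Cfsg.Agent.H944.RootVals.hAlg_closure p K
  have cs := CoxeterMatrix.E₆.toCoxeterSystem
  have : Finite CoxeterMatrix.E₆.Group := finite_W hp6 cs
  have hrp : r ≠ p := fun h => hrq (by rw [h]; exact dvd_pow_self p hf.ne')
  have hsp : s ≠ p := fun h => hsq (by rw [h]; exact dvd_pow_self p hf.ne')
  have h1 := no_pair (σ := sig6 (AlgebraicClosure K) p f) hp6 cs hAk hk (isFrob_sig6 p f) (fr_sig6 hk p hp6 cs f)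
    hr hs hrp hsp (by omega) (by omega) (by rw [hm, hm']; exact hne) (by rw [hm, hm']; exact hl)
    (em6_fix (algebraMap K (AlgebraicClosure K)) p hf rfl hK x)
  rw [orderOf_injective _ (Cfsg.Agent.BpExc.FamTw.Six.em_injective (algebraMap K (AlgebraicClosure K)))] at h1
  exact h1 hx

theorem pow_succ_dvd {q r a : ℕ} (hr : r.Prime) (h : r ∣ q ^ (2 * a) - 1) (h' : ¬ r ∣ q ^ a - 1) : r ∣ q ^ a + 1 := by
  have h1 : q ^ (2 * a) - 1 = (q ^ a + 1) * (q ^ a - 1) := by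
    rw [two_mul, pow_add]
    exact (Nat.mul_self_sub_mul_self_eq (q ^ a) 1 ▸ by rw [one_mul])
  rw [h1] at h
  exact (hr.dvd_mul.1 h).resolve_right h'

theorem twE6 {K : Type u} [Field K] [Fintype K] {q : ℕ} (hq : IsPrimePow q) (hK : Fintype.card K = q ^ 2) :
    Has3Out ↥(twistedE6 K q) := by
  obtain ⟨p, f, hp, hf, rfl⟩ := (isPrimePow_nat_iff q).1 hq
  have hpf : Fact p.Prime := ⟨hp⟩
  have hch : CharP K p := by
    obtain ⟨p', hp'⟩ := CharP.exists K
    obtain ⟨n, hpp, hn⟩ := FiniteField.card K p'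
    rw [hK, ← pow_mul] at hn
    have h1 : p = p' := by
      have h2 : p' ∣ p ^ (f * 2) := by rw [hn]; exact dvd_pow_self p' n.pos.ne'
      exact ((Nat.prime_dvd_prime_iff_eq hpp hp).1 (hpp.dvd_of_dvd_pow h2)).symm
    rw [h1]; exact hp'
  obtain ⟨r, hr, -, hr1, hr2, hr3, hr4⟩ := ppd (p := p) (f := f) (m := 18) hp (by omega) (by omega) (by omega)
  obtain ⟨s, hs, -, hs1, hs2, hs3, hs4⟩ := ppd (p := p) (f := f) (m := 12) hp (by omega) (by omega) (by omega)
  obtain ⟨t, ht, -, ht1, ht2, ht3, ht4⟩ := ppd (p := p) (f := f) (m := 8) hp (by omega) (by omega) (by omega)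
  have hcard := Cfsg.Agent.S1066.result (K := K) hq hK
  have hout := Cfsg.Agent.S2130.result (K := K) p f (by rw [hK, ← pow_mul, mul_comm]) hf
  refine mk_has3Out (f := f) hr hs ht hf (by omega) (by omega) (by omega) (by omega) (by omega) (by omega)
    (by rw [hout]; exact Nat.mul_dvd_mul_right (Nat.mul_dvd_mul_left 2 (Nat.gcd_dvd_left 3 _)) f) ?_ ?_ ?_ ?_ ?_ ?_
    (six_no_pair hf hK hr hs hr2 hs2 (by omega) (by omega) hr3 hs3 (by decide) (by decide))
    (six_no_pair hf hK hs ht hs2 ht2 (by omega) (by omega) hs3 ht3 (by decide) (by decide))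
    (six_no_pair hf hK hr ht hr2 ht2 (by omega) (by omega) hr3 ht3 (by decide) (by decide))
  · rintro rfl; rw [hr3] at hs3; omega
  · rintro rfl; rw [hs3] at ht3; omega
  · rintro rfl; rw [hr3] at ht3; omega
  · refine dvd_of_mul hr (not_dvd_gcd (by norm_num) (by omega)) hcard
      (Dvd.dvd.mul_right (Dvd.dvd.mul_left (pow_succ_dvd hr ((hr4 18).2 (by norm_num)) ?_) _) _)
    intro h
    have := (hr4 9).1 h
    omega
  · exact dvd_of_mul hs (not_dvd_gcd (by norm_num) (by omega)) hcard (Dvd.dvd.mul_left ((hs4 12).2 (by norm_num)) _)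
  · exact dvd_of_mul ht (not_dvd_gcd (by norm_num) (by omega)) hcard
      (Dvd.dvd.mul_right (Dvd.dvd.mul_right (Dvd.dvd.mul_left ((ht4 8).2 (by norm_num)) _) _) _)

end Cfsg.Agent.H169.ExcTw
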