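import Cfsg.Agent.H133.PB.Basic
import Cfsg.Agent.H690.Spor.RankThree

/-!
# Real characters of known degree from rank 3 actions (helper169)

* `exists_real` : a group with a rank 3 action with subdegrees `1, k, l` for which `f` is the only solution of Frame's
  equations has real-valued irreducible characters of degrees `f` and `k + l - f`.
-/

set_option autoImplicit false

open Cfsg
open scoped ComplexConjugate

namespace Cfsg.Agent.H169.PBRank

open Cfsg.Agent.Characters.Core Cfsg.Agent.H690.Spor.RankThree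

/-- `f` is the only solution of Frame's equations (with `f ≤ k + l - f`). -/
def chkU (k l f0 : ℕ) : Bool := (List.range ((k + l) / 2 + 1)).all fun f =>
  (f == 0) || (f == f0) || !(((1 + k + l) * k * l) % (f * (k + l - f)) == 0) ||
    (let D := ((1 + k + l) * k * l) / (f * (k + l - f)); !(Nat.sqrt D * Nat.sqrt D == D))

theorem chkU_spec {k l f0 : ℕ} (h : chkU k l f0 = true) {f g D : ℕ} (hfg : f + g = k + l) (hle : f ≤ g)
    (hf : f ≠ 0) (hprod : f * g * D = (1 + k + l) * k * l) (hD : IsSquare D) : f = f0 := by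
  unfold chkU at h
  rw [List.all_eq_true] at h
  have h1 := h f (List.mem_range.2 (by omega))
  have hg : k + l - f = g := by omega
  have hpos : 0 < f * g := Nat.mul_pos (by omega) (by omega)
  have h2 : (1 + k + l) * k * l % (f * g) = 0 := by
    rw [← hprod]
    exact Nat.mul_mod_right _ _
  have h3 : (1 + k + l) * k * l / (f * g) = D := by
    rw [← hprod]
    exact Nat.mul_div_cancel_left _ hpos
  obtain ⟨m, hm⟩ := hD
  have h4 : Nat.sqrt D * Nat.sqrt D = D := by
    rw [hm, Nat.sqrt_eq]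
  simp only [hg, h2, h3, h4] at h1
  simp [hf] at h1
  exact h1

variable {G X : Type*} [Group G] [MulAction G X] [Finite G]

/-- a nontrivial constituent of a real character `1 + χ₁ + χ₂` is real if the degrees are different -/
theorem im_eq_zero (χ₁ χ₂ : IrrCharacter G) {π : G → ℕ}
    (h : ∀ x : G, (π x : ℂ) = 1 + (χ₁ : G → ℂ) x + (χ₂ : G → ℂ) x) (hne : (χ₁ : G → ℂ) 1 ≠ (χ₂ : G → ℂ) 1) (x : G) :
    ((χ₁ : G → ℂ) x).im = 0 := by
  classical
  have := Fintype.ofFinite G
  have hc1 := isIrr_conj χ₁.2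
  have hc2 := isIrr_conj χ₂.2
  have h1 : (χ₁ : G → ℂ) + (χ₂ : G → ℂ) = (fun g => conj ((χ₁ : G → ℂ) g)) + (fun g => conj ((χ₂ : G → ℂ) g)) := by
    funext g
    have h2 := h g
    have h3 := congrArg conj h2
    rw [Complex.conj_natCast, h2, map_add, map_add, map_one] at h3
    simp only [Pi.add_apply]
    linear_combination h3
  have hd : ∀ χ : IrrCharacter G, conj ((χ : G → ℂ) 1) = (χ : G → ℂ) 1 := fun χ => by
    obtain ⟨n, -, hn⟩ := isIrr_apply_one χ.2
    rw [hn, Complex.conj_natCast]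
  have h2 := congrArg (fun φ => classInner φ (χ₁ : G → ℂ)) h1
  simp only [classInner_add_left] at h2
  have h3 : classInner (χ₂ : G → ℂ) (χ₁ : G → ℂ) = 0 := classInner_irr_ne χ₂.2 χ₁.2 fun h => hne (by rw [h])
  have h4 : classInner (fun g => conj ((χ₂ : G → ℂ) g)) (χ₁ : G → ℂ) = 0 := classInner_irr_ne hc2 χ₁.2 fun h => hne (by
    have := congrFun h 1
    rw [hd] at this
    exact this.symm)
  rw [h3, h4, classInner_irr_self χ₁.2, add_zero, add_zero] at h2
  have h5 : (fun g => conj ((χ₁ : G → ℂ) g)) = (χ₁ : G → ℂ) := by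
    by_contra hcon
    rw [classInner_irr_ne hc1 χ₁.2 hcon] at h2
    exact one_ne_zero h2
  exact Complex.conj_eq_iff_im.1 (congrFun h5 x)

/-- **Rank 3**: real characters of known degrees. -/
theorem exists_real {R : X → X → Prop} {k l f0 : ℕ} (h : R3 G X R k l) (hodd : Odd (k + l)) (hc : chkU k l f0 = true) :
    ∃ χ₁ χ₂ : IrrCharacter G, charDegree (χ₁ : G → ℂ) = f0 ∧ charDegree (χ₂ : G → ℂ) = k + l - f0 ∧
      (∀ x, ((χ₁ : G → ℂ) x).im = 0) ∧ (∀ x, ((χ₂ : G → ℂ) x).im = 0) := by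
  classical
  have hn := h.cardn
  have hfin : Finite X := by
    by_contra hcon
    rw [not_finite_iff_infinite] at hcon
    rw [Nat.card_eq_zero_of_infinite] at hn
    omega
  have := Fintype.ofFinite X
  obtain ⟨χ₁, χ₂, f, g, D, hf, hg, hπ, hfg, hprod, hsq⟩ := h.frame
  have hprod0 : (1 + k + l) * k * l ≠ 0 := by
    have := h.k0
    have := h.l0
    positivity
  have hne : f ≠ g := by
    rintro rfl
    rw [← hfg] at hodd
    exact (Nat.not_odd_iff_even.2 ⟨f, rfl⟩) hodd
  have hf0 : f ≠ 0 := by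
    rintro rfl
    rw [zero_mul, zero_mul] at hprod
    exact hprod0 hprod.symm
  have hg0 : g ≠ 0 := by
    rintro rfl
    rw [mul_zero, zero_mul] at hprod
    exact hprod0 hprod.symm
  have hne' : (χ₁ : G → ℂ) 1 ≠ (χ₂ : G → ℂ) 1 := by
    rw [hf, hg]
    exact_mod_cast hne
  have hπ' : ∀ x : G, ((Nat.card (MulAction.fixedBy X x) : ℕ) : ℂ) = 1 + (χ₂ : G → ℂ) x + (χ₁ : G → ℂ) x := fun x => by
    rw [hπ x]; ring
  have d1 : charDegree (χ₁ : G → ℂ) = f := Cfsg.Agent.Blocks.Basic.charDegree_of_eq hf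
  have d2 : charDegree (χ₂ : G → ℂ) = g := Cfsg.Agent.Blocks.Basic.charDegree_of_eq hg
  rcases le_total f g with hle | hle
  · have h1 := chkU_spec hc hfg hle hf0 hprod (hsq hne)
    exact ⟨χ₁, χ₂, by rw [d1, h1], by rw [d2]; omega, im_eq_zero χ₁ χ₂ hπ hne', im_eq_zero χ₂ χ₁ hπ' (Ne.symm hne')⟩
  · have h1 := chkU_spec hc (f := g) (g := f) (by omega) hle hg0 (by rw [mul_comm g f]; exact hprod) (hsq hne)
    exact ⟨χ₂, χ₁, by rw [d2, h1], by rw [d1]; omega, im_eq_zero χ₂ χ₁ hπ' (Ne.symm hne'), im_eq_zero χ₁ χ₂ hπ hne'⟩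

end Cfsg.Agent.H169.PBRank
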