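import Cfsg.Agent.H169.PBRank
import Cfsg.Agent.H709.PB.Guide
import Cfsg.Agent.H852.IMSuz
import Cfsg.Agent.H852.RealRu
import Cfsg.Agent.H348.PPD.RowSuz
import Cfsg.Agent.H436.TwoRu
import Cfsg.Agent.H690.Spor.Ru
import Cfsg.Agent.RuB.QSylA

/-!
# S4826: the rows `Suz` and `Ru` (helper169)

`Suz`: rank 3 on 1782 points, `1 + 780 + 1001`; `Ru`: rank 3 on 4060 points, `1 + 783 + 3276`, and for `p = 5` the
real elements of order 29.
-/

set_option autoImplicit false
set_option maxRecDepth 100000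
set_option exponentiation.threshold 5000

open Cfsg

namespace Cfsg.Agent.H169.PBSuzRu

open Subgroup Cfsg.Agent.H133.PB Cfsg.Agent.H690.Spor.RankThree

universe u

theorem bd_of_cent {G : Type u} [Group G] [Finite G] {p q : ℕ} [Fact q.Prime] {x : G} (hx : orderOf x = q)
    (hc : Nat.card (centralizer ({x} : Set G)) = q) (χ : IrrCharacter G) (hq : ¬ q ∣ charDegree (χ : G → ℂ))
    (hp : p ∣ charDegree (χ : G → ℂ)) : BD p q G := by
  obtain ⟨Q, hQ⟩ := isPGroup_centralizer_sylow (q := q) (g := x) (IsPGroup.of_card (n := 1) (by rw [hc, pow_one]))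
    ⟨1, by rw [hx, pow_one]⟩
  exact BD.of_sylow Q hQ χ hq hp

theorem card_centralizer_conj {G : Type*} [Group G] (g y : G) :
    Nat.card ↥(Subgroup.centralizer {g * y * g⁻¹}) = Nat.card ↥(Subgroup.centralizer {y}) := by
  symm
  refine Nat.card_congr ((Subgroup.equivMapOfInjective (Subgroup.centralizer {y}) (MulAut.conj g).toMonoidHom
    (MulAut.conj g).injective).toEquiv.trans (Equiv.subtypeEquivRight fun x => ?_))
  rw [Subgroup.mem_map, Subgroup.mem_centralizer_singleton_iff]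
  constructor
  · rintro ⟨c, hc, rfl⟩
    rw [Subgroup.mem_centralizer_singleton_iff] at hc
    show g * c * g⁻¹ * (g * y * g⁻¹) = g * y * g⁻¹ * (g * c * g⁻¹)
    calc g * c * g⁻¹ * (g * y * g⁻¹) = g * (c * y) * g⁻¹ := by group
      _ = g * (y * c) * g⁻¹ := by rw [hc]
      _ = _ := by group
  · intro h
    refine ⟨g⁻¹ * x * g, ?_, ?_⟩
    · rw [Subgroup.mem_centralizer_singleton_iff]
      calc g⁻¹ * x * g * y = g⁻¹ * (x * (g * y * g⁻¹)) * g := by group
        _ = g⁻¹ * (g * y * g⁻¹ * x) * g := by rw [h]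
        _ = _ := by group
    · show g * (g⁻¹ * x * g) * g⁻¹ = x
      group

/-! ### `Suz` -/

theorem suz_chars [Finite Spor.Suz] : ∃ χ₁ χ₂ : IrrCharacter Spor.Suz, charDegree (χ₁ : Spor.Suz → ℂ) = 780 ∧
    charDegree (χ₂ : Spor.Suz → ℂ) = 1001 ∧ (∀ x, ((χ₁ : Spor.Suz → ℂ) x).im = 0) ∧
    (∀ x, ((χ₂ : Spor.Suz → ℂ) x).im = 0) := by
  obtain ⟨h1, q₁, q₂, h2, h3⟩ := Cfsg.Agent.S1680.result
  obtain ⟨R, h⟩ := R3.of_index _ (k := 416) (l := 1365) h1 h2 h3 (by norm_num) (by norm_num) (by norm_num)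
  exact PBRank.exists_real h (by decide) (f0 := 780) (by decide +kernel)

/-- **`Suz`** -/
theorem row_suz {S : Type u} [Group S] (h : Cfsg.Spor.IsoSuz S) {p : ℕ} (hp : p.Prime) (hd : p ∣ Nat.card S) :
    Row p S := by
  have hc : Nat.card Spor.Suz = 448345497600 := Cfsg.Agent.NotCT.Orders.suz ⟨MulEquiv.refl _⟩
  have hfin : Finite Spor.Suz := Nat.finite_of_card_ne_zero (by rw [hc]; norm_num)
  rw [Cfsg.Agent.NotCT.Orders.suz h] at hd
  obtain ⟨e⟩ := h
  refine Row.of_equiv e ?_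
  obtain ⟨χ₁, χ₂, d1, d2, r1, r2⟩ := suz_chars
  have : Fact (Nat.Prime 11) := ⟨by norm_num⟩
  obtain ⟨x, hx, hcx⟩ := Cfsg.Agent.H348.PPD.RowSuz.cent11
  have a : ∀ {p : ℕ}, p ≠ 11 → p ∣ 780 → Row p Spor.Suz := fun {p} hne hp =>
    Row.intro (q := 11) (by norm_num) hne.symm (by rw [hc]; norm_num)
      (bd_of_cent hx hcx χ₁ (by rw [d1]; norm_num) (by rw [d1]; exact hp))
  have b : ∀ {p : ℕ}, p ≠ 2 → p ∣ 1001 → Row p Spor.Suz := fun {p} hne hp =>
    Row.intro (q := 2) Nat.prime_two hne.symm (by rw [hc]; norm_num)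
      (BD.of_real χ₂ r2 (by rw [d2]; decide) (by rw [d2]; exact hp))
  have hm := Cfsg.Agent.H852.IMSuz.prime_cases' hp [2, 3, 5, 7, 11, 13] (by decide) 13 hd (by norm_num)
  simp only [List.mem_cons, List.not_mem_nil, or_false] at hm
  rcases hm with rfl | rfl | rfl | rfl | rfl | rfl
  · exact a (by norm_num) (by norm_num)
  · exact a (by norm_num) (by norm_num)
  · exact a (by norm_num) (by norm_num)
  · exact b (by norm_num) (by norm_num)
  · exact b (by norm_num) (by norm_num)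
  · exact a (by norm_num) (by norm_num)

/-! ### `Ru` -/

section Ru

open Cfsg.Agent.SporadicB Cfsg.Agent.OddHalf.Table.OutRu Cfsg.Agent.H852.RealRank Cfsg.Agent.H852.RealRu

theorem ru_chars [Finite RuOrder.H] : ∃ χ₁ χ₂ : IrrCharacter RuOrder.H, charDegree (χ₁ : RuOrder.H → ℂ) = 783 ∧
    charDegree (χ₂ : RuOrder.H → ℂ) = 3276 ∧ (∀ x, ((χ₁ : RuOrder.H → ℂ) x).im = 0) ∧
    (∀ x, ((χ₂ : RuOrder.H → ℂ) x).im = 0) := by
  obtain ⟨R, h⟩ := H690.Spor.Ru.r3
  exact PBRank.exists_real h (by decide) (f0 := 783) (by decide +kernel)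

/-- a real element of order 29 -/
theorem real29 (hfin : Finite RuOrder.H) : ∃ g : RuOrder.H, orderOf g = 29 ∧ IsConj g g⁻¹ := by
  have ht : W [1, 1, 4, 0, 0] * W [1, 1, 4, 0, 0] = 1 := by
    rw [← W_append, eqw_sound (show eqw ([1, 1, 4, 0, 0] ++ [1, 1, 4, 0, 0]) [] = true by decide +kernel), W_nil]
  have hs : W [4] * W [4] = 1 := by rw [W_y, y_sq]
  have hu : W [4] * W [1, 1, 4, 0, 0] = W (4 :: [1, 1, 4, 0, 0]) := by rw [← W_append]; rfl
  set s := W [4] with hsd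
  set t := W [1, 1, 4, 0, 0] with htd
  have h29 : 29 ∣ orderOf (s * t) := by
    refine (dvd_of_period (σ := RuOrder.H.subtype (s * t)) (p := 29) (k := 1) (i := (⟨0, by norm_num⟩ : Fin 4060))
      (by norm_num) ?_ ?_).trans (orderOf_map_dvd _ _)
    · rw [hu]
      apply Fin.ext
      rw [pow_apply]
      exact Nat.eq_of_beq_eq_true (by decide +kernel)
    · rw [hu]
      intro h
      have h3 := congrArg Fin.val h
      rw [pow_apply] at h3
      revert h3
      decide +kernel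
  obtain ⟨n, hn⟩ := h29
  have hpos := orderOf_pos (s * t)
  have hn0 : n ≠ 0 := by
    rintro rfl
    omega
  have hs' : s⁻¹ = s := inv_eq_of_mul_eq_one_right hs
  have ht' : t⁻¹ = t := inv_eq_of_mul_eq_one_right ht
  refine ⟨(s * t) ^ n, ?_, ?_⟩
  · rw [orderOf_pow_of_dvd hn0 ⟨29, by rw [hn]; ring⟩, hn]
    exact Nat.mul_div_cancel _ (Nat.pos_of_ne_zero hn0)
  · rw [isConj_iff]
    refine ⟨s, ?_⟩
    rw [← conj_pow, ← inv_pow]
    congr 1
    rw [mul_inv_rev, hs', ht', ← mul_assoc, hs, one_mul]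

theorem not_dvd_cent {G : Type*} [Group G] [Finite G] (h : Spor.IsoRu G) {t : G} (ht : orderOf t = 2) :
    ¬ 5 ^ 3 ∣ Nat.card (centralizer ({t} : Set G)) ^ 2 := by
  obtain ⟨C, -⟩ := KFacts.Ru.exists_core h
  have h1 : t * t = 1 := by rw [← pow_two, ← ht, pow_orderOf_eq_one]
  have h2 : t ≠ 1 := by
    rintro rfl
    rw [orderOf_one] at ht
    omega
  rcases KFacts.Ru.InvC.invol_cases C h1 h2 with ⟨g, rfl⟩ | ⟨g, a, ha, rfl⟩
  · rw [card_centralizer_conj, Ru127.Sg.card_cent C]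
    norm_num
  · rw [Cfsg.Agent.RuB.QSyl.card_cent_conj ha]
    norm_num

/-- **`Ru`** -/
theorem row_ru {S : Type u} [Group S] (h : Cfsg.Spor.IsoRu S) {p : ℕ} (hp : p.Prime) (hd : p ∣ Nat.card S) :
    Row p S := by
  have hc : Nat.card RuOrder.H = 145926144000 := RuOrder.card_H
  have hfin : Finite RuOrder.H := Nat.finite_of_card_ne_zero (by rw [hc]; norm_num)
  rw [Cfsg.Agent.NotCT.Orders.ru h] at hd
  obtain ⟨e⟩ := h
  refine Row.of_equiv (e.trans Cfsg.Agent.RuLat.Main.equiv) ?_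
  obtain ⟨χ₁, χ₂, d1, d2, r1, r2⟩ := ru_chars
  have : Fact (Nat.Prime 29) := ⟨by norm_num⟩
  obtain ⟨x, hx, hreal⟩ := real29 hfin
  have hcx : Nat.card (centralizer ({x} : Set RuOrder.H)) = 29 := by
    refine Nat.dvd_antisymm (by simpa using H436.TwoRu.cent29 x hx) ?_
    have h3 : x ∈ centralizer ({x} : Set RuOrder.H) := mem_centralizer_singleton_iff.2 rfl
    have := Subgroup.orderOf_dvd_natCard _ h3
    rwa [hx] at this
  have a : ∀ {p : ℕ}, p ≠ 29 → p ∣ 3276 → Row p RuOrder.H := fun {p} hne hp =>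
    Row.intro (q := 29) (by norm_num) hne.symm (by rw [hc]; norm_num)
      (bd_of_cent hx hcx χ₂ (by rw [d2]; norm_num) (by rw [d2]; exact hp))
  have b : ∀ {p : ℕ}, p ≠ 2 → p ∣ 783 → Row p RuOrder.H := fun {p} hne hp =>
    Row.intro (q := 2) Nat.prime_two hne.symm (by rw [hc]; norm_num)
      (BD.of_real χ₁ r1 (by rw [d1]; decide) (by rw [d1]; exact hp))
  have hm := Cfsg.Agent.H852.IMSuz.prime_cases' hp [2, 3, 5, 7, 13, 29] (by decide) 14 hd (by norm_num)
  simp only [List.mem_cons, List.not_mem_nil, or_false] at hm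
  rcases hm with rfl | rfl | rfl | rfl | rfl | rfl
  · exact a (by norm_num) (by norm_num)
  · exact b (by norm_num) (by norm_num)
  · have : Fact (Nat.Prime 5) := ⟨by norm_num⟩
    exact Row.of_inverted (q := 29) (by norm_num) (by norm_num) (by rw [hc]; norm_num) hx hreal hcx fun t ht _ =>
      ⟨3, by rw [hc]; norm_num, not_dvd_cent H436.TwoRu.isoH ht⟩
  · exact a (by norm_num) (by norm_num)
  · exact a (by norm_num) (by norm_num)
  · exact b (by norm_num) (by norm_num)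

end Ru

end Cfsg.Agent.H169.PBSuzRu
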