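import Cfsg.Agent.H169.He.Facts
import Cfsg.Agent.H169.He.Cands
import Cfsg.Agent.H58.Rec.Tools
import Cfsg.Agent.S2075

/-!
# S3484, row `He` (helper169 for helper58)
-/

set_option autoImplicit false

namespace Cfsg.Agent.H169.RecHe

open Subgroup Cfsg
open Cfsg.Agent.H455.Isolated
open Cfsg.Agent.H58.Rec Cfsg.Agent.OrdDiv Cfsg.Agent.H436

universe u v w

theorem not_ord {n : ℕ} (h : ∀ g : Spor.He, orderOf g ≠ n) : ¬ HasOrd Spor.He n := fun ⟨g, hg⟩ => h g hg

theorem n_eight {m : ℕ} (hm : 1 < m) : ¬ HasOrd Spor.He (8 * m) := fun ⟨g, hg⟩ => He.no_eight hm g hg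

theorem n_seventeen {m : ℕ} (hm : 1 < m) : ¬ HasOrd Spor.He (17 * m) := fun ⟨g, hg⟩ => He.no17 hm g hg

theorem prime_mem {q : ℕ} (hq : q.Prime) (hd : q ∣ 4030387200) : q ∈ [2, 3, 5, 7, 17] := by
  have h1 : (4030387200 : ℕ) = 2 ^ 10 * (3 ^ 3 * (5 ^ 2 * (7 ^ 3 * 17))) := by norm_num
  rw [h1] at hd
  have key : ∀ {p k : ℕ}, p.Prime → q ∣ p ^ k → q = p := fun hp h =>
    (Nat.prime_dvd_prime_iff_eq hq hp).1 (hq.dvd_of_dvd_pow h)
  rcases hq.dvd_mul.1 hd with h | h
  · rw [key (by norm_num) h]; decide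
  rcases hq.dvd_mul.1 h with h | h
  · rw [key (by norm_num) h]; decide
  rcases hq.dvd_mul.1 h with h | h
  · rw [key (by norm_num) h]; decide
  rcases hq.dvd_mul.1 h with h | h
  · rw [key (by norm_num) h]; decide
  · rw [(Nat.prime_dvd_prime_iff_eq hq (by norm_num)).1 h]; decide

/-- **Row `He`.** -/
theorem rec_he (hN : NameHyp.{u}) {G : Type u} [Group G] [Finite G] {M : Type v} [Group M] [Finite M]
    (hM : Spor.IsoHe M) (h : Same G M) : Nonempty (G ≃* M) := by
  obtain ⟨eM⟩ := hM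
  have hcM : Nat.card M = 4030387200 := by rw [Nat.card_congr eM.toEquiv, He.card_he]
  have hnoM : ∀ {n : ℕ}, ¬ HasOrd Spor.He n → ¬ HasOrd M n := fun h1 h2 => h1 (h2.congr eM)
  have hnoG : ∀ {n : ℕ}, ¬ HasOrd Spor.He n → ¬ HasOrd G n := fun h1 h2 => hnoM h1 ((h _).1 h2)
  have i17 : Isolated M 17 := by
    rw [isolated_iff]
    intro s hs _ h1
    exact hnoM (n_seventeen hs.one_lt) h1
  have g17 : Good M 17 := ⟨by norm_num, by norm_num, by rw [hcM]; norm_num, i17, 15, by decide, by norm_num,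
    by
      obtain ⟨g, hg⟩ := He.ord15
      exact HasOrd.congr (G := Spor.He) ⟨g, hg⟩ eM.symm, hnoM (not_ord He.no30)⟩
  have gG := g17.of_same h
  have hsol : ¬ Group.IsSolvable G := not_solvable_of_same h (r := 17) (s := 5) (t := 7) (by norm_num) (by norm_num)
    (by norm_num) (by norm_num) (by norm_num) (by norm_num) (by rw [hcM]; norm_num) (by rw [hcM]; norm_num)
    (by rw [hcM]; norm_num) (hnoM (n_seventeen (by norm_num))) (hnoM (n_seventeen (by norm_num)))
    (hnoM (not_ord He.no35))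
  have d2 : 2 ∣ Nat.card G := (dvd_of_same h Nat.prime_two).2 (by rw [hcM]; norm_num)
  have d7 : 7 ∣ Nat.card G := (dvd_of_same h (by norm_num)).2 (by rw [hcM]; norm_num)
  have n9 : ¬ HasOrd G 9 := hnoG (not_ord He.no9)
  have n35 : ¬ HasOrd G 35 := hnoG (not_ord He.no35)
  obtain ⟨X, _, _, π, S, hred⟩ := exists_red hsol d2 gG
  have hr := hred 17 gG
  have hi17 : Isolated S 17 := by
    rw [isolated_iff]
    intro s hs hs1 h1
    exact (isolated_iff.1 gG.iso) s hs hs1 (hr.hasOrd' h1)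
  obtain ⟨g, hgl, hg⟩ := hr.exists_name hN (ps := [2, 3, 5, 7, 17]) (rs := [17]) (B := 17) (N := 11) (by norm_num)
    (by decide) (by norm_num) (by decide)
    (fun q hq hd => prime_mem hq (by rw [← hcM]; exact (dvd_of_same h hq).1 hd))
    (by
      intro r hr'
      rw [List.mem_singleton] at hr'
      rw [hr']
      exact hr.dvd)
  have hlst : lst [2, 3, 5, 7, 17] [17] 17 11 =
      [.he, .psp 4 2, .oodd 4 2, .ominus 4 2, .psl 4 4, .psp 2 4, .psl 2 16, .psl 2 17] := by decide +kernel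
  rw [hlst] at hgl
  simp only [List.mem_cons, List.not_mem_nil, or_false] at hgl
  rcases hgl with rfl | rfl | rfl | rfl | rfl | rfl | rfl | rfl
  · -- `He`
    obtain ⟨e1⟩ : Spor.IsoHe S := hg.real
    have e : S ≃* M := e1.trans eM.symm
    have f17 : HasFrob M 17 8 := hasFrob_of_isolated (N := 4030387200) (by norm_num) hcM i17 (by norm_num) (by norm_num)
      (by norm_num) (by decide +kernel)
    have f : HasFrob S 17 8 := f17.congr e.symm
    refine finish hr ?_ e (Or.inr ⟨?_, ?_⟩)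
    · intro p hp hpG
      have hpM := (dvd_of_same h hp).1 hpG
      rw [hcM] at hpM
      have hmem := prime_mem hp hpM
      simp only [List.mem_cons, List.not_mem_nil, or_false] at hmem
      by_cases h17 : p = 17
      · rw [h17]; exact hr.not_dvd
      · refine hr.kill' hp (q := 17) (n := 8) (by norm_num) (Ne.symm h17) f (hnoG (n_eight hp.one_lt))
    · rw [Cfsg.Agent.H548.Crit.card_out_congr eM]
      exact S2075.result
    · intro _ hidx _ hX
      have hcS : Nat.card S = 4030387200 := by rw [Nat.card_congr e.toEquiv, hcM]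
      obtain ⟨k, hk1, hk2, hk3, hk4, hk5⟩ := hr.index_dvd (by rw [hcS]; norm_num) (by rw [hidx]; norm_num)
      rw [hcS] at hk2 hk3
      have hk : k = 8 := by
        have h16 : k ≤ 16 := Nat.le_of_dvd (by norm_num) hk1
        have key : ∀ k : Fin 17, (k : ℕ) ∣ 16 → 17 * (k : ℕ) ∣ 4030387200 → 4030387200 / (17 * (k : ℕ)) % 17 = 1 →
            (k : ℕ) = 8 := by decide +kernel
        exact key ⟨k, by omega⟩ hk1 hk2 hk3
      rw [hk, hidx] at hk5
      exact hnoG (n_eight (m := 2) (by norm_num)) (hX _ hk5)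
  · -- `PSp₈(2)`
    exfalso
    obtain ⟨F, _, _, hF, ⟨e⟩⟩ := hg.real
    obtain ⟨x, hx⟩ := He.Cands.psp_nine hF
    exact n9 (hr.hasOrd' (HasOrd.congr (G := PSp 4 F) ⟨x, hx⟩ e.symm))
  · exact absurd hg.cond.2.1 (by decide)
  · -- `PΩ₈⁻(2)`
    exfalso
    obtain ⟨F, _, _, a, b, hF, hab, ⟨e⟩⟩ := hg.real
    obtain ⟨x, hx⟩ := He.Cands.ominus_nine hF a b hab
    exact n9 (hr.hasOrd' (HasOrd.congr (G := POmega F (quadFormMinus 3 F a b)) ⟨x, hx⟩ e.symm))
  · -- `PSL₄(4)`
    exfalso
    obtain ⟨F, _, _, hF, ⟨e⟩⟩ := hg.real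
    obtain ⟨x, hx⟩ := He.Cands.psl_nine hF
    exact n9 (hr.hasOrd' (HasOrd.congr (G := Matrix.ProjectiveSpecialLinearGroup (Fin 4) F) ⟨x, hx⟩ e.symm))
  · -- `PSp₄(4)`
    exfalso
    have hcS : Nat.card S = 979200 := hg.ord.trans (by decide +kernel)
    have h5 : Fact (Nat.Prime 5) := ⟨by norm_num⟩
    obtain ⟨P⟩ : Nonempty (Sylow 5 S) := inferInstance
    have hPc : Nat.card (P : Subgroup S) = 25 := by
      rw [P.card_eq_multiplicity, hcS]
      have h1 : (979200 : ℕ).factorization 5 = 2 := by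
        rw [show 979200 = 5 ^ 2 * 39168 by norm_num, Nat.factorization_mul (by norm_num) (by norm_num),
          Finsupp.add_apply, Nat.Prime.factorization_pow (by norm_num), Nat.factorization_eq_zero_of_not_dvd
          (n := 39168) (by norm_num)]
        simp
      rw [h1]
      norm_num
    have hA : Nat.card ((P : Subgroup S).map S.subtype) = 25 := by
      rw [Subgroup.card_map_of_injective S.subtype_injective]
      exact hPc
    have hab : ∀ a ∈ (P : Subgroup S).map S.subtype, ∀ b ∈ (P : Subgroup S).map S.subtype, a * b = b * a := by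
      have hcomm := IsPGroup.isMulCommutative_of_card_eq_prime_sq (p := 5) (G := ↥((P : Subgroup S).map S.subtype))
        (by rw [hA]; norm_num)
      intro a ha b hb
      exact congrArg Subtype.val (hcomm.is_comm.comm ⟨a, ha⟩ ⟨b, hb⟩)
    have hnc : ¬ IsCyclic ↥((P : Subgroup S).map S.subtype) := by
      intro hc
      obtain ⟨x, hx⟩ := hc.exists_ofOrder_eq_natCard
      rw [hA] at hx
      exact hnoG (not_ord He.no25) (hr.hasOrd ⟨(x : X), by rw [Subgroup.orderOf_coe, hx]⟩)
    exact hr.absurd_of hcS (r := 7) (by norm_num) d7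
      (hr.kill_rank (p := 7) (q := 5) (by norm_num) (by norm_num) (by norm_num)
        (IsPGroup.of_card (n := 2) (by rw [hA]; norm_num)) hab hnc n35) (by decide +kernel)
  · -- `PSL₂(16)`
    exfalso
    have hcS : Nat.card S = 4080 := hg.ord.trans (by decide +kernel)
    obtain ⟨F, _, _, hF, ⟨e⟩⟩ := hg.real
    have h2 : (2 : F) = 0 := by
      have hc : ((Fintype.card F : ℕ) : F) = 0 := Nat.cast_card_eq_zero F
      rw [hF] at hc
      have h4 : (2 : F) ^ 4 = 0 := by
        rw [← hc]; norm_num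
      exact pow_eq_zero_iff (by norm_num) |>.1 h4
    have f := He.Cands.frob_psl2 h2
    rw [hF] at f
    have f' : HasFrob S 2 15 := HasFrob.congr f e.symm
    exact hr.absurd_of hcS (r := 7) (by norm_num) d7
      (hr.kill' (p := 7) (q := 2) (n := 15) (by norm_num) (by norm_num) (by norm_num) f'
        (fun h1 => n35 (h1.of_dvd (by norm_num)))) (by decide +kernel)
  · -- `PSL₂(17)`
    exfalso
    have hcS : Nat.card S = 2448 := hg.ord.trans (by decide +kernel)
    have f : HasFrob S 17 8 := hasFrob_of_isolated (N := 2448) (by norm_num) hcS hi17 (by norm_num) (by norm_num)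
      (by norm_num) (by decide +kernel)
    exact hr.absurd_of hcS (r := 7) (by norm_num) d7
      (hr.kill' (p := 7) (q := 17) (n := 8) (by norm_num) (by norm_num) (by norm_num) f
        (hnoG (n_eight (by norm_num)))) (by decide +kernel)

end Cfsg.Agent.H169.RecHe
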