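import Cfsg.Agent.H720.TorusReal
import Cfsg.Agent.H129.TorusUntw
import Cfsg.Agent.H944.RootVals
import Cfsg.Agent.H169.CycDvd

/-!
# Orders of semisimple elements and non-adjacency in the prime graph of groups of Lie type

* `order_dvd` : an element `x` of `Y^σ` of order prime to `p`: `orderOf x` divides `χ_θ(q)`, `θ = w g` an automorphism
  of finite order of the root lattice `ℤ^l`, `q = p ^ e`.
* `no_pair` : there is no element of order `r * s`, if `r ≠ s` are primes `> l + 1` different from `p` such that `q` has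
  different orders `m`, `m'` modulo `r`, `s` and `l < φ(m) + φ(m')`.
-/

set_option autoImplicit false
set_option linter.unusedSectionVars false

namespace Cfsg.Agent.H169.TorPair

open CoxeterSystem Cfsg Cfsg.Lie Cfsg.Lie.ChevalleyDatum
open Cfsg.Agent.ChevalleyStructure Cfsg.Agent.ChevalleyStructure.Elts Cfsg.Agent.ChevalleyStructure.CoxeterGeom
  Cfsg.Agent.ChevalleyStructure.CoxeterGeomTypes Cfsg.Agent.ChevalleyStructure.NPerm
open Cfsg.Agent.Tits.Roots Cfsg.Agent.Tits.Core Cfsg.Agent.Nodes Cfsg.Agent.Nodes.Reps Cfsg.Agent.Nodes.BNOf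
  Cfsg.Agent.Nodes.RGDChev Cfsg.Agent.Nodes.Bruhat Cfsg.Agent.Nodes.SubComb Cfsg.Agent.Nodes.Coroot
open Cfsg.Agent.KFacts.RgdField Cfsg.Agent.KFacts.RgdChevCoord Cfsg.Agent.BpExc.TorCent Cfsg.Agent.BpExc.TorChev
open Cfsg.Agent.GpExc.Field Cfsg.Agent.BpExc.Tow Cfsg.Agent.BpExc.TowChev Cfsg.Agent.BpExc.Fr
  Cfsg.Agent.BpExc.LangFr Cfsg.Agent.LangThm Cfsg.Agent.BpExc Cfsg.Agent.H129.TorusChar Cfsg.Agent.H129.TorusCent
  Cfsg.Agent.H129.TorusTw Cfsg.Agent.H129.TorusMain Cfsg.Agent.H129.TorusUntw Cfsg.Agent.H720.TorusReal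

open Polynomial (aeval)

universe u

/-- polynomials in `θ` -/
theorem mc_aeval {l : ℕ} {k : Type u} [Field k] {φ : (Fin l → ℤ) → k} (hφ : IsMC φ)
    {θ : Module.End ℤ (Fin l → ℤ)} {Q : ℕ} (h : ∀ x, φ (θ x) = φ x ^ Q) (f : Polynomial ℤ) (x : Fin l → ℤ) :
    φ (aeval θ f x) = φ x ^ f.eval (Q : ℤ) := by
  have hpow : ∀ (n : ℕ) (y : Fin l → ℤ), φ ((θ ^ n) y) = φ y ^ (Q ^ n) := by
    intro n
    induction n with
    | zero => intro y; rw [pow_zero, pow_zero, pow_one]; rfl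
    | succ n ih =>
      intro y
      rw [pow_succ, Module.End.mul_apply, ih, h, ← pow_mul, pow_succ, mul_comm]
  induction f using Polynomial.induction_on' with
  | add f g hf hg =>
    rw [map_add, LinearMap.add_apply, hφ.add, hf, hg, Polynomial.eval_add, zpow_add₀ (hφ.ne_zero x)]
  | monomial n a =>
    rw [Polynomial.aeval_monomial, Polynomial.eval_monomial]
    have h1 : (algebraMap ℤ (Module.End ℤ (Fin l → ℤ)) a * θ ^ n) x = a • ((θ ^ n) x) := by
      rw [Module.End.mul_apply, Module.algebraMap_end_apply]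
    rw [h1, hφ.zsmul, hpow, ← zpow_natCast, ← zpow_mul]
    congr 1
    push_cast
    ring

variable {D : ChevalleyDatum} {l : ℕ} {M : CoxeterMatrix (Fin l)} (hp : IsType D l M) {k : Type u} [Field k]
  {W : Type*} [Group W] (cs : CoxeterSystem M W) {p e : ℕ} [Fact p.Prime] [CharP k p] {σ : MulAut ↥(D.group k)}
  {g : (Fin l → ℤ) ≃+ (Fin l → ℤ)}

/-- the lattice endomorphism `w g` as a linear map -/
def thL (w : W) (g : (Fin l → ℤ) ≃+ (Fin l → ℤ)) : Module.End ℤ (Fin l → ℤ) := (theta hp cs w g).toIntLinearMap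

theorem thL_apply (w : W) (g : (Fin l → ℤ) ≃+ (Fin l → ℤ)) (x : Fin l → ℤ) :
    thL hp cs w g x = theta hp cs w g x := rfl

/-- `w g` has finite order -/
theorem thL_pow [IsAlgClosed k] [Finite W] (hk : LocFin k) (p : ℕ) [Fact p.Prime] [CharP k p]
    (F : Fr cs hp.isCartan (TT D k) (XX D l k) σ g) {hN : NSys M (TT D k) (nc hp k)} {w : W} {n : ↥(D.group k)}
    (hn : Rp cs hN w n) : ∃ N : ℕ, 0 < N ∧ thL hp cs w g ^ N = 1 := by
  have F1 := fr_conj hp cs hk p hn
  obtain ⟨N, hN, h⟩ := exists_period' hp cs (F1.mul F)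
  refine ⟨N, hN, LinearMap.ext fun x => ?_⟩
  rw [Module.End.pow_apply, Module.End.one_apply]
  exact h x

/-- **Orders of semisimple elements.** -/
theorem order_dvd [IsAlgClosed k] [Finite W] (hA : Cfsg.Agent.BpExc.TorAll.HAlg p k) (hk : LocFin k)
    (hσ : IsFrob p e σ) (F : Fr cs hp.isCartan (TT D k) (XX D l k) σ g) {x : ↥(D.group k)} (hx : σ x = x)
    (hx0 : orderOf x ≠ 0) (hxp : (orderOf x).Coprime p) :
    ∃ (w : W) (N : ℕ), 0 < N ∧ thL hp cs w g ^ N = 1 ∧
      (orderOf x : ℤ) ∣ (thL hp cs w g).charpoly.eval ((p ^ e : ℕ) : ℤ) := by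
  obtain ⟨z₁, t, n, w, hxt, ht, hn, hfix⟩ := exists_toral hp cs hA hk F (nsys_of_locFin hp cs hk p) hx hx0 hxp
    (pow_orderOf_eq_one x)
  obtain ⟨N, hN, hθ⟩ := thL_pow hp cs hk p F hn
  refine ⟨w, N, hN, hθ, ?_⟩
  have h1 := (tau_iff hp cs hk hσ F hn ht).1 hfix
  have h2 : ∀ y, cX hp t y ^ (thL hp cs w g).charpoly.eval ((p ^ e : ℕ) : ℤ) = 1 := by
    intro y
    rw [← mc_aeval (isMC_cX hp ht) (θ := thL hp cs w g) h1, LinearMap.aeval_self_charpoly, LinearMap.zero_apply,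
      (isMC_cX hp ht).zero]
  have h3 : t ^ ((thL hp cs w g).charpoly.eval ((p ^ e : ℕ) : ℤ)).natAbs = 1 := by
    refine cX_inj hp (pow_mem ht _) (one_mem _) fun i => ?_
    rw [cX_pow hp ht, cX_one]
    have h4 := h2 (sr i)
    rcases Int.natAbs_eq ((thL hp cs w g).charpoly.eval ((p ^ e : ℕ) : ℤ)) with h5 | h5
    · rw [h5, zpow_natCast] at h4
      exact h4
    · rw [h5, zpow_neg, zpow_natCast, inv_eq_one] at h4
      exact h4
  have h6 : orderOf x = orderOf t := by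
    rw [hxt]
    exact orderOf_injective (MulAut.conj z₁).toMonoidHom (MulAut.conj z₁).injective t
  rw [h6]
  exact Int.natCast_dvd.2 (orderOf_dvd_of_pow_eq_one h3)

/-- **Non-adjacency.** -/
theorem no_pair [IsAlgClosed k] [Finite W] (hA : Cfsg.Agent.BpExc.TorAll.HAlg p k) (hk : LocFin k)
    (hσ : IsFrob p e σ) (F : Fr cs hp.isCartan (TT D k) (XX D l k) σ g) {r s : ℕ} (hr : r.Prime) (hs : s.Prime)
    (hrp : r ≠ p) (hsp : s ≠ p) (hrl : l + 1 < r) (hsl : l + 1 < s)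
    (hne : orderOf ((p ^ e : ℕ) : ZMod r) ≠ orderOf ((p ^ e : ℕ) : ZMod s))
    (hl : l < (orderOf ((p ^ e : ℕ) : ZMod r)).totient + (orderOf ((p ^ e : ℕ) : ZMod s)).totient)
    {x : ↥(D.group k)} (hx : σ x = x) : orderOf x ≠ r * s := by
  intro ho
  have hpp : p.Prime := Fact.out
  obtain ⟨w, N, hN, hθ, hd⟩ := order_dvd hp cs hA hk hσ F hx (by rw [ho]; exact (Nat.mul_pos hr.pos hs.pos).ne')
    (by
      rw [ho]
      exact Nat.Coprime.mul_left ((Nat.coprime_primes hr hpp).2 hrp) ((Nat.coprime_primes hs hpp).2 hsp))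
  rw [ho, Nat.cast_mul] at hd
  have hrank : Module.finrank ℤ (Fin l → ℤ) = l := by rw [Module.finrank_fintype_fun_eq_card, Fintype.card_fin]
  have h1 := Cfsg.Agent.H169.CycDvd.totient_add_le (thL hp cs w g) hN hθ hr hs (by rw [hrank]; exact hrl)
    (by rw [hrank]; exact hsl) ((Dvd.intro _ rfl).trans hd) ((Dvd.intro_left _ rfl).trans hd)
  rw [hrank] at h1
  simp only [Int.cast_natCast] at h1
  exact absurd (h1 hne) (by omega)

/-- **Non-adjacency in `D.group F`.** -/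
theorem untw_no_pair {D : ChevalleyDatum} {l : ℕ} {M : CoxeterMatrix (Fin l)} (hp : IsType D l M)
    {F : Type u} [Field F] [Fintype F] {q : ℕ} (hq : Fintype.card F = q) {r s : ℕ} (hr : r.Prime) (hs : s.Prime)
    (hrq : ¬ r ∣ q) (hsq : ¬ s ∣ q) (hrl : l + 1 < r) (hsl : l + 1 < s)
    (hne : orderOf (q : ZMod r) ≠ orderOf (q : ZMod s))
    (hl : l < (orderOf (q : ZMod r)).totient + (orderOf (q : ZMod s)).totient)
    (x : ↥(D.group F)) : orderOf x ≠ r * s := by
  obtain ⟨p, e, hpF, hpc, hpk, he, rfl, hk⟩ := exists_closure hq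
  have hAk : Cfsg.Agent.BpExc.TorAll.HAlg p (AlgebraicClosure F) := Cfsg.Agent.H944.RootVals.hAlg_closure p F
  have cs := M.toCoxeterSystem
  have : Finite M.Group := finite_W hp cs
  have hrp : r ≠ p := fun h => hrq (by rw [h]; exact dvd_pow_self p he.ne')
  have hsp : s ≠ p := fun h => hsq (by rw [h]; exact dvd_pow_self p he.ne')
  have h1 := no_pair hp cs hAk hk isFrob_phi (fr_phi hp cs) hr hs hrp hsp hrl hsl hne hl
    (phi_emb hp (algebraMap F (AlgebraicClosure F)) hq x)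
  rwa [orderOf_injective _ (emb_injective hp.inList (algebraMap F (AlgebraicClosure F)))] at h1

end Cfsg.Agent.H169.TorPair
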