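import Cfsg.Agent.H169.U3Adj
import Cfsg.Agent.H169.U3Diag
import Cfsg.Agent.H292.PsuTwo
import Cfsg.Agent.H163.PG.Few

/-!
# The row `PSU_3(q)` of S2529
-/

set_option autoImplicit false
set_option linter.unusedSectionVars false

namespace Cfsg.Agent.H169.U3

open Cfsg Cfsg.Agent.H163.PG Cfsg.Agent.H169.UAut Cfsg.Agent.H169.U3Adj Cfsg.Agent.H169.U3Diag
open Cfsg.Agent.H202.Psu
open Cfsg.Agent.H201.PsuGraph (eq_conj graph_iff orderOf_conj)
open Cfsg.Agent.LieClassical.HermBasic (conj conj_apply)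
open Cfsg.Agent.ClassicalGeometry.PSUAutCount (gm semiConj toAut gm_mul gm_one eq_of_toAut_eq)
open Cfsg.Agent.Schreier.PSU (f₁ f₂ toAut_eq mapGU conj_field)
open Cfsg.Agent.CpAutU.Desc (toAut_mul toAut_one exists_scalar exists_pow)

universe u

variable {F : Type u} [Field F] [Fintype F] {p f q : ℕ}

/-- `Inndiag ≤ A` if `3` divides `[A : Inn]` -/
theorem inndiag_le (hp : p.Prime) (hf : 1 ≤ f) (hq : q = p ^ f) (hF : Fintype.card F = q ^ 2) (h32 : q ≠ 2)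
    (hg : Nat.gcd 3 (q + 1) = 3) (h3f : ¬ 3 ∣ f) {A : Subgroup (MulAut (PSU 3 F q))} (hA : Inn (PSU 3 F q) ≤ A)
    (h : 3 ∣ (Inn (PSU 3 F q)).relIndex A) : inndiagPSU 3 F q ≤ A := by
  have := Fact.mk hp
  have hN : (Inn (PSU 3 F q)).Normal := inn_normal
  have hN' : ((Inn (PSU 3 F q)).subgroupOf A).Normal := inferInstance
  have : Finite (PSU 3 F q) := inferInstance
  have : Finite (MulAut (PSU 3 F q)) := inferInstance
  have hfA : Finite A := inferInstance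
  obtain ⟨z, hzA, hz3, hzI⟩ : ∃ z ∈ A, z ^ 3 ∈ Inn (PSU 3 F q) ∧ z ∉ Inn (PSU 3 F q) := by
    have h3 : 3 ∣ Nat.card (A ⧸ (Inn (PSU 3 F q)).subgroupOf A) := h
    have : Fact (Nat.Prime 3) := ⟨Nat.prime_three⟩
    obtain ⟨y, hy⟩ := exists_prime_orderOf_dvd_card' 3 h3
    obtain ⟨z, rfl⟩ := QuotientGroup.mk_surjective y
    refine ⟨z, z.2, ?_, ?_⟩
    · have h4 : (QuotientGroup.mk (z ^ 3) : A ⧸ (Inn (PSU 3 F q)).subgroupOf A) = 1 := by
        have h6 := pow_orderOf_eq_one (QuotientGroup.mk z : A ⧸ (Inn (PSU 3 F q)).subgroupOf A)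
        rw [hy] at h6
        rw [QuotientGroup.mk_pow]
        exact h6
      exact (QuotientGroup.eq_one_iff (z ^ 3)).1 h4
    · intro h4
      have h5 : (QuotientGroup.mk z : A ⧸ (Inn (PSU 3 F q)).subgroupOf A) = 1 := (QuotientGroup.eq_one_iff _).2 h4
      rw [h5, orderOf_one] at hy
      omega
  -- `z` is inner-diagonal
  have hzD : z ∈ inndiagPSU 3 F q := by
    obtain ⟨B, τ, rfl⟩ := ClassicalGeometry.PSUAutMain.exists_toAut hF le_rfl (fun h => h32 h.2) z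
    obtain ⟨B', hB', -⟩ := exists_pow B τ 3
    have h1 : toAut B τ ^ 3 ∈ inndiagPSU 3 F q := inn_le_inndiag hF hz3
    rw [inndiag_eq] at h1 ⊢
    obtain ⟨C, hC⟩ := h1
    have h2 : (toAut C 1 : MulAut (PSU 3 F q)) = toAut B' (τ ^ 3) := by
      rw [← hB', ← hC, toAut_eq, map_one, mul_one]
    have h3 : τ ^ 3 = 1 := (eq_of_toAut_eq hF le_rfl h2).1
    have h4 : Nat.card (F ≃+* F) = 2 * f := Lib.FieldAutCard.card_ringAut (p := p) (by omega)
      (by rw [hF, hq, ← pow_mul, mul_comm])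
    have h5 : orderOf τ ∣ 2 * f := by rw [← h4]; exact orderOf_dvd_natCard τ
    have h6 : τ = 1 := by
      rcases (Nat.dvd_prime Nat.prime_three).1 (orderOf_dvd_of_pow_eq_one h3) with h7 | h7
      · exact orderOf_eq_one_iff.1 h7
      · exfalso
        rw [h7] at h5
        rcases (Nat.Prime.dvd_mul Nat.prime_three).1 h5 with h8 | h8
        · omega
        · exact h3f h8
    rw [h6, toAut_eq, map_one, mul_one]
    exact ⟨B, rfl⟩
  have h7 := relIndex_inn (n := 3) hF le_rfl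
  rw [hg] at h7
  have h8 : Inn (PSU 3 F q) ≤ A ⊓ inndiagPSU 3 F q := le_inf hA (inn_le_inndiag hF)
  have h9 := Subgroup.relIndex_mul_relIndex (Inn (PSU 3 F q)) (A ⊓ inndiagPSU 3 F q) (inndiagPSU 3 F q) h8 inf_le_right
  rw [h7] at h9
  have h10 : (Inn (PSU 3 F q)).relIndex (A ⊓ inndiagPSU 3 F q) ≠ 1 := by
    intro h
    exact hzI (Subgroup.relIndex_eq_one.1 h ⟨hzA, hzD⟩)
  have h11 : (A ⊓ inndiagPSU 3 F q).relIndex (inndiagPSU 3 F q) = 1 := by
    rcases (Nat.dvd_prime Nat.prime_three).1 (Dvd.intro _ h9) with h | h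
    · exact absurd h h10
    · rw [h] at h9
      omega
  exact (Subgroup.relIndex_eq_one.1 h11).trans inf_le_left

theorem three_not_dvd (hp : p.Prime) (hq : q = p ^ f) (h3 : 3 ∣ q + 1) (h9 : ¬ 9 ∣ q + 1) : ¬ 3 ∣ f := by
  rintro ⟨k, rfl⟩
  apply h9
  obtain ⟨t, ht⟩ : ∃ t, t = p ^ k := ⟨_, rfl⟩
  have h1 : q = t ^ 3 := by rw [hq, ht, ← pow_mul, mul_comm]
  rw [h1] at h3 ⊢
  have h2 : t % 3 = 2 := by
    have h4 : (t ^ 3 + 1) % 3 = 0 := Nat.mod_eq_zero_of_dvd h3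
    have h5 : t % 3 < 3 := Nat.mod_lt _ (by norm_num)
    have h6 : (t ^ 3 + 1) % 3 = ((t % 3) ^ 3 + 1) % 3 := by
      rw [Nat.add_mod, Nat.pow_mod, Nat.add_mod ((t % 3) ^ 3)]
    rw [h6] at h4
    interval_cases h : t % 3
    · simp at h4
    · simp at h4
    · rfl
  obtain ⟨m, hm⟩ : ∃ m, t = 3 * m + 2 := ⟨t / 3, by omega⟩
  rw [hm]
  exact ⟨3 * m ^ 3 + 6 * m ^ 2 + 4 * m + 1, by ring⟩

/-! ### numbers -/

theorem card_eq (hF : Fintype.card F = q ^ 2) :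
    Nat.gcd 3 (q + 1) * Nat.card (PSU 3 F q) = q ^ 3 * (q ^ 2 - 1) * (q ^ 3 + 1) := by
  have h1 := S0280.result hF 3 (by norm_num)
  have h2 : q ^ (3 * (3 - 1) / 2) * ∏ i ∈ Finset.range 3, (if Even i then q ^ (i + 1) + 1 else q ^ (i + 1) - 1) =
      (q + 1) * (q ^ 3 * (q ^ 2 - 1) * (q ^ 3 + 1)) := by
    rw [Finset.prod_range_succ, Finset.prod_range_succ, Finset.prod_range_one, if_pos (by decide), if_neg (by decide),
      if_pos (by decide)]
    norm_num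
    ring
  rw [h2] at h1
  have h3 : (q + 1) * (Nat.gcd 3 (q + 1) * Nat.card (PSU 3 F q)) = (q + 1) * (q ^ 3 * (q ^ 2 - 1) * (q ^ 3 + 1)) := by
    rw [← h1]; ring
  exact Nat.eq_of_mul_eq_mul_left (by omega) h3

theorem cube_add_one {q : ℕ} (hq : 1 ≤ q) : q ^ 3 + 1 = (q + 1) * (q ^ 2 - q + 1) := by
  rw [sq_eq hq]
  obtain ⟨c, rfl⟩ : ∃ c, q = c + 1 := ⟨q - 1, by omega⟩
  rw [Nat.add_sub_cancel]
  ring

/-- a prime dividing `|PSU_3(q)|` -/
theorem dvd_cases (hp : p.Prime) (hq : q = p ^ f) (hF : Fintype.card F = q ^ 2) {r : ℕ} (hr : r.Prime)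
    (h : r ∣ Nat.card (PSU 3 F q)) : r = p ∨ r ∣ q ^ 2 - 1 ∨ (r ∣ q ^ 2 - q + 1 ∧ r ≠ 3) := by
  have hq1 : 1 ≤ q := by rw [hq]; exact Nat.one_le_pow _ _ hp.pos
  have h1 : r ∣ q ^ 3 * (q ^ 2 - 1) * (q ^ 3 + 1) := by rw [← card_eq hF]; exact h.mul_left _
  rcases hr.dvd_mul.1 h1 with h1 | h1
  · rcases hr.dvd_mul.1 h1 with h1 | h1
    · left
      rw [hq] at h1
      exact (Nat.prime_dvd_prime_iff_eq hr hp).1 (hr.dvd_of_dvd_pow (hr.dvd_of_dvd_pow h1))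
    · exact Or.inr (Or.inl h1)
  · rw [cube_add_one hq1] at h1
    rcases hr.dvd_mul.1 h1 with h1 | h1
    · exact Or.inr (Or.inl ((dvd_sq_iff hr).2 (Or.inl h1)))
    · by_cases h3 : r = 3
      · right; left
        subst h3
        have h4 : 3 ∣ (q + 1) ^ 2 := by
          rw [← sq_add hq1]
          exact dvd_add h1 (Dvd.intro _ rfl)
        exact (dvd_sq_iff hr).2 (Or.inl (hr.dvd_of_dvd_pow h4))
      · exact Or.inr (Or.inr ⟨h1, h3⟩)

/-- the primitive primes of order `6` -/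
structure Six (p f q r : ℕ) : Prop where
  ppd : Ppd p (f * 6) r
  quad : r ∣ q ^ 2 - q + 1
  ne_three : r ≠ 3
  ne_two : r ≠ 2
  ne_p : r ≠ p
  not_succ : ¬ r ∣ q + 1
  not_f : ¬ r ∣ f

theorem six_of_ppd (hp : p.Prime) (hf : 1 ≤ f) (hq : q = p ^ f) {r : ℕ} (h : Ppd p (f * 6) r) : Six p f q r := by
  have hq1 : 1 ≤ q := by rw [hq]; exact Nat.one_le_pow _ _ hp.pos
  have hlt := h.lt (by omega)
  have hr := h.prime
  have h2 : ¬ r ∣ q ^ 2 - 1 := by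
    rw [hq, ← pow_mul, h.dvd_iff hp.pos]
    intro hd
    have := Nat.le_of_dvd (by omega) hd
    omega
  have h3 : ¬ r ∣ q ^ 3 - 1 := by
    rw [hq, ← pow_mul, h.dvd_iff hp.pos]
    intro hd
    have := Nat.le_of_dvd (by omega) hd
    omega
  have h6 : r ∣ q ^ 6 - 1 := by
    rw [hq, ← pow_mul, h.dvd_iff hp.pos]
  have h7 : q ^ 6 - 1 = (q ^ 3 + 1) * (q ^ 3 - 1) := by
    have := Nat.sq_sub_sq (q ^ 3) 1
    rwa [one_pow, ← pow_mul] at this
  have h8 : ¬ r ∣ q + 1 := fun h => h2 ((dvd_sq_iff hr).2 (Or.inl h))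
  refine ⟨h, ?_, by omega, by omega, h.ne (by omega), h8, ?_⟩
  · rw [h7] at h6
    have h9 := (hr.dvd_mul.1 h6).resolve_right h3
    rw [cube_add_one hq1] at h9
    exact (hr.dvd_mul.1 h9).resolve_left h8
  · intro hd
    have := Nat.le_of_dvd hf hd
    omega

theorem Six.dvd_card {r : ℕ} (h : Six p f q r) (hF : Fintype.card F = q ^ 2) (hq1 : 1 ≤ q) : r ∣ Nat.card (PSU 3 F q) :=
  dvd_psu hF (by norm_num) h.ppd.prime h.not_succ (k := 3) (by norm_num) le_rfl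
    (Or.inl ⟨by decide, by rw [cube_add_one hq1]; exact h.quad.mul_left _⟩)

theorem one_dvd_card (hF : Fintype.card F = q ^ 2) {r : ℕ} (hr : r.Prime) (h1 : ¬ r ∣ q + 1) (h : r ∣ q ^ 2 - 1) :
    r ∣ Nat.card (PSU 3 F q) :=
  dvd_psu hF (by norm_num) hr h1 (k := 2) (by norm_num) (by norm_num) (Or.inr ⟨by decide, h⟩)

theorem three_dvd_card (hF : Fintype.card F = q ^ 2) (hq1 : 1 ≤ q) (h3 : 3 ∣ q + 1) : 3 ∣ Nat.card (PSU 3 F q) := by
  have h1 := card_eq hF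
  rw [Nat.gcd_eq_left h3, cube_add_one hq1, sq_sub_one_eq] at h1
  obtain ⟨k, hk⟩ := h3
  rw [hk] at h1
  have h2 : 3 * Nat.card (PSU 3 F q) = 3 * (3 * (q ^ 3 * (k * (q - 1)) * (k * (q ^ 2 - q + 1)))) := by
    rw [h1]; ring
  rw [Nat.eq_of_mul_eq_mul_left (by norm_num) h2]
  exact Dvd.intro _ rfl

/-! ### centralizers of field automorphisms -/

theorem cent_six (hp : p.Prime) (hf : 1 ≤ f) (hq : q = p ^ f) (hF : Fintype.card F = q ^ 2) (h32 : q ≠ 2)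
    {x : MulAut (PSU 3 F q)} {s : ℕ} (hs : s.Prime) (hso : Odd s) (hx : orderOf x = s) (hxD : x ∉ inndiagPSU 3 F q)
    {r : ℕ} (hr : Ppd p (f * 6) r) : ¬ r ∣ Nat.card ↥(inndiagPSU 3 F q ⊓ Subgroup.centralizer {x}) := by
  intro hd
  obtain ⟨hsf, h⟩ := psu_cent_field hp hf hq hF le_rfl (fun h => h32 h.2) hs hso hx hxD
  obtain ⟨k, hk1, hk3, hk⟩ := h hr (by omega) hd
  obtain ⟨g, hg⟩ := hsf
  have hs3 : 3 ≤ s := by
    obtain ⟨m, hm⟩ := hso
    have := hs.two_le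
    omega
  have hfg : f / s = g := by rw [hg, Nat.mul_div_cancel_left _ hs.pos]
  rw [hfg] at hk
  have hg0 : 0 < g := Nat.pos_of_ne_zero (by rintro rfl; omega)
  have h3g : 3 * g ≤ f := by rw [hg]; exact Nat.mul_le_mul_right g hs3
  rcases hk with ⟨ho, hk⟩ | ⟨he, hk⟩
  · have h1 := Nat.le_of_dvd (by positivity) (hr.dvd_add_one hp.pos hk)
    have h2 : 2 * (g * k) ≤ 2 * (g * 3) := by gcongr
    omega
  · have h1 := Nat.le_of_dvd (by positivity) hk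
    have h2 : g * k ≤ g * 3 := by gcongr
    omega

theorem cent_one (hp : p.Prime) (hf : 1 ≤ f) (hq : q = p ^ f) (hF : Fintype.card F = q ^ 2) (h32 : q ≠ 2)
    {x : MulAut (PSU 3 F q)} {s : ℕ} (hs : s.Prime) (hso : Odd s) (hx : orderOf x = s) (hxD : x ∉ inndiagPSU 3 F q)
    {r : ℕ} (hr : Ppd p f r) (hr1 : ¬ r ∣ q + 1) :
    ¬ r ∣ Nat.card ↥(inndiagPSU 3 F q ⊓ Subgroup.centralizer {x}) := by
  intro hd
  obtain ⟨hsf, h⟩ := psu_cent_field hp hf hq hF le_rfl (fun h => h32 h.2) hs hso hx hxD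
  obtain ⟨k, hk1, hk3, hk⟩ := h hr hf hd
  obtain ⟨g, hg⟩ := hsf
  have hs3 : 3 ≤ s := by
    obtain ⟨m, hm⟩ := hso
    have := hs.two_le
    omega
  have hfg : f / s = g := by rw [hg, Nat.mul_div_cancel_left _ hs.pos]
  rw [hfg] at hk
  have hg0 : 0 < g := Nat.pos_of_ne_zero (by rintro rfl; omega)
  have key : ∀ j, f ∣ g * j → s ∣ j := by
    intro j hj
    rw [hg, mul_comm s g] at hj
    exact Nat.dvd_of_mul_dvd_mul_left hg0 hj
  rcases hk with ⟨ho, hk⟩ | ⟨he, hk⟩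
  · have h1 := key (2 * k) (by
      have := hr.dvd_add_one hp.pos hk
      rwa [← mul_assoc, mul_comm 2 g, mul_assoc] at this)
    have hk13 : k = 1 ∨ k = 3 := by
      obtain ⟨m, hm⟩ := ho
      omega
    rcases hk13 with rfl | rfl
    · have := Nat.le_of_dvd (by norm_num) h1
      omega
    · rcases hs.dvd_mul.1 h1 with h2 | h2
      · have := Nat.le_of_dvd (by norm_num) h2
        omega
      · have hs3' := (Nat.prime_dvd_prime_iff_eq hs Nat.prime_three).1 h2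
        rw [← hs3', mul_comm g s, ← hg, ← hq] at hk
        exact hr1 hk
  · have hk2 : k = 2 := by
      obtain ⟨m, hm⟩ := he
      omega
    subst hk2
    have := Nat.le_of_dvd (by norm_num) (key _ hk)
    omega

end Cfsg.Agent.H169.U3
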