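import Cfsg.Agent.H130.WeylCk
import Cfsg.Agent.H129.TorusChar

/-!
# Tables of cosets of Weyl groups

`IsFrame l A θ` : the list `A` lists the images of the basis vectors under `θ`; `Closed Al l tab` : the table `tab` is
closed under left multiplication by the simple reflections; `forall_coset` : then all `w g` are in the table.
`Ann l A p` : the polynomial with coefficient list `p` annihilates `θ`.
-/

set_option autoImplicit false

namespace Cfsg.Agent.H169.WTab

open Cfsg.Agent.ChevalleyStructure.CoxeterGeom Cfsg.Agent.H130.PolyL Cfsg.Agent.H130.WeylCk Polynomial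
  Cfsg.Agent.H129.TorusChar Cfsg.Agent.Tits.Roots Cfsg.Agent.Tits.Core

/-- left multiplication by a simple reflection -/
def stp (Al : List (List ℤ)) (j : ℕ) (A : List (List ℤ)) : List (List ℤ) := A.map (rf Al j)

/-- decode a vector (base `b`, offset `o`) -/
def decL (b : ℕ) (o : ℤ) : ℕ → ℕ → List ℤ
  | 0, _ => []
  | n + 1, c => (((c % b : ℕ) : ℤ) - o) :: decL b o n (c / b)

/-- encode a vector -/
def encL (b : ℕ) (o : ℤ) : List ℤ → ℕ
  | [] => 0
  | a :: v => (a + o).toNat + b * encL b o v

/-- decode `n` vectors of length `l` -/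
def decM (b : ℕ) (o : ℤ) (l : ℕ) : ℕ → ℕ → List (List ℤ)
  | 0, _ => []
  | n + 1, c => decL b o l (c % b ^ l) :: decM b o l n (c / b ^ l)

/-- encode vectors -/
def encM (b : ℕ) (o : ℤ) (l : ℕ) : List (List ℤ) → ℕ
  | [] => 0
  | a :: v => encL b o a + b ^ l * encM b o l v

/-- decode a frame -/
def dec (b : ℕ) (o : ℤ) (l : ℕ) (c : ℕ) : List (List ℤ) := decM b o l l c

/-- the table of codes is closed -/
def Closed (Al : List (List ℤ)) (b : ℕ) (o : ℤ) (l : ℕ) (tab : List ℕ) : Bool :=
  tab.all fun c => (List.range l).all fun j =>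
    (fun B => (fun e => tab.contains e && dec b o l e == B) (encM b o l B)) (stp Al j (dec b o l c))

/-- frames -/
structure IsFrame (l : ℕ) (A : List (List ℤ)) (θ : Module.End ℤ (Fin l → ℤ)) : Prop where
  len : A.length = l
  row : ∀ i : Fin l, (A.getD i []).length = l
  val : ∀ i : Fin l, toFn l (A.getD i []) = θ (sr i)

theorem IsFrame.step {l : ℕ} {C : Fin l → Fin l → ℤ} {Al : List (List ℤ)} (hA : MatList C Al) {A : List (List ℤ)}
    {θ : Module.End ℤ (Fin l → ℤ)} (h : IsFrame l A θ) (j : Fin l) : IsFrame l (stp Al j A) (refl C j * θ) := by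
  have h1 : ∀ i : Fin l, (stp Al j A).getD i [] = rf Al j (A.getD i []) := by
    intro i
    have hi : (i : ℕ) < A.length := by rw [h.len]; exact i.2
    rw [stp, List.getD_eq_getElem _ _ (by rw [List.length_map]; exact hi), List.getElem_map,
      List.getD_eq_getElem _ _ hi]
  refine ⟨by rw [stp, List.length_map, h.len], fun i => by rw [h1, length_rf, h.row], fun i => ?_⟩
  rw [h1, toFn_rf hA j _ (h.row i), h.val, Module.End.mul_apply]

variable {l : ℕ} {C : Fin l → Fin l → ℤ} {Al : List (List ℤ)} {W : Type*} [Group W] {M : CoxeterMatrix (Fin l)}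
  (cs : CoxeterSystem M W) (hC : IsCartan M C)

theorem forall_coset (hA : MatList C Al) {b : ℕ} {o : ℤ} {tab : List ℕ} (hcl : Closed Al b o l tab = true)
    {θ₀ : Module.End ℤ (Fin l → ℤ)} {c₀ : ℕ} (h0 : c₀ ∈ tab) (hf : IsFrame l (dec b o l c₀) θ₀) (w : W) :
    ∃ c ∈ tab, IsFrame l (dec b o l c) (rep cs hC w * θ₀) := by
  induction w using cs.simple_induction_left with
  | one => exact ⟨c₀, h0, by rw [map_one, one_mul]; exact hf⟩
  | mul_simple_left w i ih =>
    obtain ⟨c, hmem, hfr⟩ := ih
    have h1 := List.all_eq_true.1 (List.all_eq_true.1 hcl c hmem) i (List.mem_range.2 i.2)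
    simp only [Bool.and_eq_true] at h1
    refine ⟨encM b o l (stp Al i (dec b o l c)), List.contains_iff_mem.1 h1.1, ?_⟩
    rw [eq_of_beq h1.2, map_mul, rep_simple, mul_assoc]
    exact hfr.step hA i

/-- application of a frame -/
def apF (l : ℕ) : List (List ℤ) → List ℤ → List ℤ
  | [], _ => List.replicate l 0
  | _ :: _, [] => List.replicate l 0
  | a :: A, c :: v => addV (a.map (fun b => c * b)) (apF l A v)

theorem length_apF (l : ℕ) : ∀ (A : List (List ℤ)) (v : List ℤ), (∀ a ∈ A, a.length = l) → (apF l A v).length = l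
  | [], _, _ => List.length_replicate
  | _ :: _, [], _ => List.length_replicate
  | a :: A, c :: v, h => by
    have h1 := length_apF l A v (fun b hb => h b (List.mem_cons_of_mem _ hb))
    rw [apF, length_addV _ _ (by rw [List.length_map, h a List.mem_cons_self, h1]), h1]

theorem toFn_apF_aux (l : ℕ) : ∀ (A : List (List ℤ)) (v : List ℤ) (n : ℕ), (∀ a ∈ A, a.length = l) → A.length = n →
    v.length = n → toFn l (apF l A v) = ∑ i : Fin n, (v.getD i 0) • toFn l (A.getD i [])
  | [], v, n, _, hn, _ => by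
    subst hn
    rw [apF, toFn_replicate]
    rfl
  | a :: A, v, n, h, hn, hv => by
    subst hn
    cases v with
    | nil => simp at hv
    | cons c v =>
      have h1 := toFn_apF_aux l A v A.length (fun b hb => h b (List.mem_cons_of_mem _ hb)) rfl (by simpa using hv)
      have h2 := length_apF l A v (fun b hb => h b (List.mem_cons_of_mem _ hb))
      rw [apF, toFn_addV _ _ (by rw [List.length_map, h a List.mem_cons_self]) h2, toFn_smul, h1]
      show _ = ∑ i : Fin (A.length + 1), _
      rw [Fin.sum_univ_succ]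
      rfl

theorem IsFrame.mem_len {A : List (List ℤ)} {θ : Module.End ℤ (Fin l → ℤ)} (h : IsFrame l A θ) :
    ∀ a ∈ A, a.length = l := by
  intro a ha
  obtain ⟨i, hi, rfl⟩ := List.getElem_of_mem ha
  have h1 := h.row ⟨i, by rw [← h.len]; exact hi⟩
  rwa [List.getD_eq_getElem _ _ hi] at h1

theorem IsFrame.apply {A : List (List ℤ)} {θ : Module.End ℤ (Fin l → ℤ)} (h : IsFrame l A θ) (v : List ℤ)
    (hv : v.length = l) : toFn l (apF l A v) = θ (toFn l v) := by
  rw [toFn_apF_aux l A v l h.mem_len h.len hv]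
  conv_rhs => rw [IsMC.eq_sum_sr (toFn l v)]
  rw [map_sum]
  refine Finset.sum_congr rfl fun i _ => ?_
  rw [map_smul, h.val]
  rfl

/-- polynomials -/
def hoF (l : ℕ) (A : List (List ℤ)) (x : List ℤ) : List ℤ → List ℤ
  | [] => List.replicate l 0
  | c :: p => addV (x.map (fun a => c * a)) (apF l A (hoF l A x p))

theorem length_hoF {A : List (List ℤ)} {θ : Module.End ℤ (Fin l → ℤ)} (h : IsFrame l A θ) (x : List ℤ)
    (hx : x.length = l) (p : List ℤ) : (hoF l A x p).length = l := by
  cases p with
  | nil => exact List.length_replicate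
  | cons c p =>
    have h1 := length_apF l A (hoF l A x p) h.mem_len
    rw [hoF, length_addV _ _ (by rw [List.length_map, hx, h1]), h1]

theorem toFn_hoF {A : List (List ℤ)} {θ : Module.End ℤ (Fin l → ℤ)} (h : IsFrame l A θ) (x : List ℤ)
    (hx : x.length = l) (p : List ℤ) : toFn l (hoF l A x p) = aeval θ (ofL p) (toFn l x) := by
  induction p with
  | nil =>
    rw [hoF, toFn_replicate]
    simp [ofL]
  | cons c p ih =>
    have h1 := length_hoF h x hx p
    have h2 := length_apF l A (hoF l A x p) h.mem_len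
    rw [hoF, toFn_addV _ _ (by rw [List.length_map, hx]) h2, toFn_smul, h.apply _ h1, ih]
    simp [ofL, Module.End.mul_apply]

/-- the polynomial `p` annihilates the frame -/
def Ann (l : ℕ) (A : List (List ℤ)) (p : List ℤ) : Bool :=
  (List.range l).all fun i => hoF l A (bas l i) p == List.replicate l 0

theorem IsFrame.ann {A : List (List ℤ)} {θ : Module.End ℤ (Fin l → ℤ)} (h : IsFrame l A θ) {p : List ℤ}
    (hp : Ann l A p = true) : aeval θ (ofL p) = 0 := by
  have h1 : ∀ i : Fin l, aeval θ (ofL p) (sr i) = 0 := by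
    intro i
    have h2 := List.all_eq_true.1 hp i (List.mem_range.2 i.2)
    have h3 : (sr i : Fin l → ℤ) = toFn l (bas l i) := (toFn_bas i).symm
    rw [h3, ← toFn_hoF h _ (length_bas i.1), eq_of_beq h2, toFn_replicate]
  apply LinearMap.ext
  intro x
  rw [IsMC.eq_sum_sr x, map_sum, LinearMap.zero_apply]
  refine Finset.sum_eq_zero fun i _ => ?_
  rw [map_smul, h1, smul_zero]

end Cfsg.Agent.H169.WTab
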